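import Cfsg.Agent.Lib.FS.Defs

/-!
# Twisted indicators and invariant forms (notes/FS.md, part A1)
-/

set_option autoImplicit false

open scoped ComplexConjugate
open Module Cfsg Cfsg.Agent.H3 TensorProduct

namespace Cfsg.Agent.FS

variable {G : Type*} [Group G]

theorem eps_eq [Fintype G] (α : G →* G) (χ : G → ℂ) :
    eps α χ = (Nat.card G : ℂ)⁻¹ * ∑ g, χ (g * α g) := by
  rw [eps, finsum_eq_sum_of_fintype]

theorem tw_invol {α : G →* G} (hα : ∀ g, α (α g) = g) {x : G} (hx : x * α x = 1) (g : G) :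
    tw α x (tw α x g) = g := by
  have h := eq_inv_of_mul_eq_one_right hx
  simp [tw_apply, hα, h, mul_assoc]

theorem eps_tw [Finite G] (α : G →* G) {x : G} (hx : x * α x = 1) (χ : G → ℂ) :
    eps (tw α x) χ = eps α χ := by
  have := Fintype.ofFinite G
  have h := eq_inv_of_mul_eq_one_right hx
  rw [eps_eq, eps_eq, ← (Group.mulRight_bijective x).sum_comp fun g => χ (g * α g)]
  simp [tw_apply, h, mul_assoc]

theorem Good.tw [Finite G] {α : G →* G} (h : Good α) {x : G} (hx : x * α x = 1) :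
    Good (tw α x) := by
  exact ⟨tw_invol h.1 hx, fun χ hχ => (eps_tw α hx χ).trans (h.2 χ hχ)⟩

theorem bij_of_invol {α : G →* G} (hα : ∀ g, α (α g) = g) : Function.Bijective α :=
  Function.Involutive.bijective hα

theorem eps_conj [Finite G] (α : G →* G) (χ : G → ℂ) :
    eps α (fun g => conj (χ g)) = conj (eps α χ) := by
  have := Fintype.ofFinite G
  simp [eps_eq]

theorem exists_proj [Fintype G] {α : G →* G} (hα : ∀ g, α (α g) = g) {W : Type*} [AddCommGroup W]
    [Module ℂ W] [FiniteDimensional ℂ W] (ρ : Representation ℂ G W) {ε : ℂ} (hε : ε * ε = 1) :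
    ∃ (Q : End ℂ (W ⊗[ℂ] W)) (a : ℕ), LinearMap.trace ℂ _ Q = a ∧ 2 * (a : ℂ) =
      classInner ρ.character (fun g => conj (ρ.character (α g))) + ε * eps α ρ.character ∧
      (∀ u v, Q (u ⊗ₜ v) = ε • Q (v ⊗ₜ u)) ∧ ∀ g u v, Q (ρ g u ⊗ₜ ρ (α g) v) = Q (u ⊗ₜ v) := by
  let τ := ρ.tprod (ρ.comp α)
  let s : End ℂ (W ⊗[ℂ] W) := (TensorProduct.comm ℂ W W).toLinearMap
  let P : End ℂ (W ⊗[ℂ] W) := (Nat.card G : ℂ)⁻¹ • ∑ g, τ g
  have h1 : ∀ g, P * τ g = P := fun g => by
    simp only [P, smul_mul_assoc, Finset.sum_mul, ← map_mul]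
    rw [(Group.mulRight_bijective g).sum_comp τ]
  have h2 : ∀ g, s * τ g = τ (α g) * s := fun g => TensorProduct.ext' fun u v => by
    simp [s, τ, hα]
  have h3 : s * P = P * s := by
    simp only [P, smul_mul_assoc, mul_smul_comm, Finset.sum_mul, Finset.mul_sum, h2]
    rw [(bij_of_invol hα).sum_comp fun g => τ g * s]
  have h4 : s * s = 1 := TensorProduct.ext' fun u v => rfl
  have h5 : P * P = P := by
    conv_lhs => rw [show P * P = P * ((Nat.card G : ℂ)⁻¹ • ∑ g, τ g) from rfl]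
    simp only [mul_smul_comm, Finset.mul_sum, h1, Finset.sum_const, Finset.card_univ,
      ← Nat.card_eq_fintype_card, ← Nat.cast_smul_eq_nsmul ℂ, smul_smul]
    rw [inv_mul_cancel₀ (card_ne_zero_complex G), one_smul]
  let Q := (2⁻¹ : ℂ) • (P + ε • (P * s))
  have h6 : Q * s = ε • Q := by
    simp only [Q, smul_mul_assoc, add_mul, mul_assoc, h4, mul_one, smul_add, smul_smul]
    rw [add_comm, mul_left_comm ε, hε, mul_one, mul_comm]
  have h7 : ∀ g, Q * τ g = Q := fun g => by
    simp only [Q, smul_mul_assoc, add_mul, mul_assoc, h2, h1]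
    rw [← mul_assoc, h1]
  have h8 : Q * P = Q := by
    simp only [Q, smul_mul_assoc, add_mul, mul_assoc, h3, h5]
    rw [← mul_assoc, h5]
  have h9 : IsIdempotentElem Q := by
    change Q * ((2⁻¹ : ℂ) • (P + ε • (P * s))) = Q
    simp only [mul_smul_comm, mul_add, ← mul_assoc, h8, h6, smul_smul, hε]
    module
  have h10 := (LinearMap.IsIdempotentElem.isProj_range _ h9).trace
  refine ⟨Q, _, h10, ?_, fun u v => ?_, fun g u v => LinearMap.congr_fun (h7 g) (u ⊗ₜ v)⟩
  · rw [← h10, eps_eq, classInner]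
    simp only [Q, P, τ, s, map_smul, map_add, smul_mul_assoc, Finset.sum_mul, map_sum,
      Representation.tprod_apply, trace_map_mul_comm, LinearMap.trace_tensorProduct', smul_eq_mul,
      Complex.conj_conj, MonoidHom.comp_apply, ← map_mul]
    simp only [Representation.character]
    ring
  · exact LinearMap.congr_fun h6 (v ⊗ₜ u)

theorem eps_cases' [Finite G] {α : G →* G} (hα : ∀ g, α (α g) = g) {χ : G → ℂ}
    (hχ : IsIrrCharacter G χ) : (eps α χ = 0 ∧ ¬ ∀ g, χ (α g) = conj (χ g)) ∨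
      ((eps α χ = 1 ∨ eps α χ = -1) ∧ ∀ g, χ (α g) = conj (χ g)) := by
  have := Fintype.ofFinite G
  have h1 := IsIrrCharacter_conj (IsIrrCharacter_comp_of_surjective α (bij_of_invol hα).2 hχ)
  obtain ⟨n, ρ, -, rfl⟩ := id hχ
  obtain ⟨-, a, -, ha, -⟩ := exists_proj hα ρ (one_mul 1)
  obtain ⟨-, b, -, hb, -⟩ := exists_proj hα ρ (ε := -1) (by simp)
  by_cases h : ρ.character = fun g => conj (ρ.character (α g))
  · rw [← h, IsIrrCharacter_classInner_self hχ] at ha hb
    refine Or.inr ⟨?_, fun g => by rw [congrFun h g, Complex.conj_conj]⟩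
    have h2 : a + b = 1 := by
      have : (a + b : ℂ) = 1 := by linear_combination (ha + hb) / 2
      exact_mod_cast this
    rcases Nat.add_eq_one_iff.1 h2 with ⟨rfl, rfl⟩ | ⟨rfl, rfl⟩
    · right; linear_combination (exp := 1) hb - (by norm_num : 2 * ((1 : ℕ) : ℂ) = 2)
    · left; linear_combination (exp := 1) (by norm_num : 2 * ((1 : ℕ) : ℂ) = 2) - ha
  · rw [IsIrrCharacter_classInner_of_ne hχ h1 h] at ha hb
    refine Or.inl ⟨?_, fun h' => h (funext fun g => by rw [h', Complex.conj_conj])⟩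
    have h2 : a + b = 0 := by
      have : (a + b : ℂ) = 0 := by linear_combination (ha + hb) / 2
      exact_mod_cast this
    obtain rfl : a = 0 := by omega
    simpa using ha.symm

theorem exists_form [Finite G] {α : G →* G} (hα : ∀ g, α (α g) = g) {W : Type*} [AddCommGroup W]
    [Module ℂ W] [FiniteDimensional ℂ W] (ρ : Representation ℂ G W) [ρ.IsIrreducible]
    (h : eps α ρ.character ≠ 0) : ∃ B : LinearMap.BilinForm ℂ W,
      (∀ u v, B u v = eps α ρ.character * B v u) ∧ (∀ u, (∀ v, B u v = 0) → u = 0) ∧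
      ∀ g u v, B (ρ g u) (ρ (α g) v) = B u v := by
  have := Fintype.ofFinite G
  obtain ⟨h1, h2⟩ := (eps_cases' hα (isIrrCharacter_character ρ)).resolve_left fun h' => h h'.1
  have hε : eps α ρ.character * eps α ρ.character = 1 := by rcases h1 with h1 | h1 <;> simp [h1]
  obtain ⟨Q, a, h3, h4, h5, h6⟩ := exists_proj hα ρ hε
  simp only [h2, Complex.conj_conj] at h4
  rw [IsIrrCharacter_classInner_self (isIrrCharacter_character ρ), hε] at h4
  obtain ⟨u, v, h7⟩ : ∃ u v, Q (u ⊗ₜ v) ≠ 0 := by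
    by_contra h'
    push Not at h'
    rw [show Q = 0 from TensorProduct.ext' h', map_zero] at h3
    rw [← h3] at h4
    norm_num at h4
  obtain ⟨l, hl⟩ := not_forall.1 (mt (Module.forall_dual_apply_eq_zero_iff ℂ _).1 h7)
  let B : LinearMap.BilinForm ℂ W := (TensorProduct.mk ℂ W W).compr₂ (l ∘ₗ Q)
  have hB : ∀ g u v, B (ρ g u) (ρ (α g) v) = B u v := fun g u v => congrArg l (h6 g u v)
  refine ⟨B, fun u v => (congrArg l (h5 u v)).trans (map_smul l _ _), fun w hw => ?_, hB⟩
  let U : Subrepresentation ρ := ⟨LinearMap.ker B, fun g x hx => LinearMap.ext fun y => by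
    have := hB g x (ρ (α g)⁻¹ y)
    rw [← End.mul_apply (ρ (α g)), ← map_mul, mul_inv_cancel, map_one, End.one_apply,
      show B x = 0 from hx] at this
    exact this⟩
  rcases eq_bot_or_eq_top U with h8 | h8
  · have : w ∈ U := LinearMap.ext hw
    rw [h8] at this
    exact this
  · have : u ∈ U := by rw [h8]; trivial
    exact (hl (LinearMap.congr_fun this v)).elim

theorem eps_cases [Finite G] {α : G →* G} (hα : ∀ g, α (α g) = g) {χ : G → ℂ}
    (hχ : IsIrrCharacter G χ) : eps α χ = 0 ∨ eps α χ = 1 ∨ eps α χ = -1 := by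
  exact (eps_cases' hα hχ).imp And.left And.left

theorem eps_ne_zero_iff [Finite G] {α : G →* G} (hα : ∀ g, α (α g) = g) {χ : G → ℂ}
    (hχ : IsIrrCharacter G χ) : eps α χ ≠ 0 ↔ ∀ g, χ (α g) = conj (χ g) := by
  rcases eps_cases' hα hχ with h | ⟨h | h, h'⟩
  · simp [h.1, h.2]
  · simp [h, h']
  · simp [h, h']

theorem exists_sform [Finite G] {α : G →* G} (hα : ∀ g, α (α g) = g) {χ : G → ℂ}
    (hχ : IsIrrCharacter G χ) (h : eps α χ = -1) :
    ∃ (n : ℕ) (ρ : Representation ℂ G (Fin n → ℂ)) (B : LinearMap.BilinForm ℂ (Fin n → ℂ)),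
      ρ.character = χ ∧ SForm α ρ B := by
  obtain ⟨n, ρ, _, rfl⟩ := hχ
  obtain ⟨B, h1, h2, h3⟩ := exists_form hα ρ (by simp [h])
  exact ⟨n, ρ, B, rfl, fun u v => by rw [h1, h, neg_one_mul], h2, h3⟩

section forms

variable {W : Type*} [AddCommGroup W] [Module ℂ W] {ρ : Representation ℂ G W}
  {B : LinearMap.BilinForm ℂ W} {α : G →* G}

theorem SForm.comp (h : SForm α ρ B) {D : Type*} [Group D] (i : D →* G) (β : D →* D)
    (hi : ∀ d, i (β d) = α (i d)) : SForm β (ρ.comp i) B :=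
  ⟨h.skew, h.nd, fun d u v => by
    have := h.inv (i d) u v
    rwa [← hi] at this⟩

theorem SForm.tw (h : SForm α ρ B) {x : G} (hx : x * α x = 1) :
    SForm (tw α x) ρ (B.compl₂ (ρ x⁻¹)) := by
  have h1 := eq_inv_of_mul_eq_one_right hx
  have h2 : ∀ g v, ρ g (ρ g⁻¹ v) = v := fun g v => by
    rw [← End.mul_apply, ← map_mul, mul_inv_cancel, map_one, End.one_apply]
  refine ⟨fun u v => ?_, fun u hu => h.nd u fun v => ?_, fun g u v => ?_⟩
  · rw [LinearMap.compl₂_apply, LinearMap.compl₂_apply, h.skew, ← h.inv x, h2, h1]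
  · simpa using h2 x⁻¹ v ▸ hu (ρ x⁻¹⁻¹ v)
  · rw [LinearMap.compl₂_apply, LinearMap.compl₂_apply, ← h.inv g u, ← End.mul_apply (ρ x⁻¹),
      ← End.mul_apply (ρ (α g)), ← map_mul, ← map_mul, tw_apply]
    simp [mul_assoc]

theorem even_of_skew [FiniteDimensional ℂ W] (h1 : ∀ u v, B u v = - B v u)
    (h2 : ∀ u, (∀ v, B u v = 0) → u = 0) : Even (finrank ℂ W) := by
  have hn : B.Nondegenerate := ⟨h2, fun u hu => h2 u fun v => by rw [h1, hu, neg_zero]⟩
  have h3 := (LinearMap.BilinForm.nondegenerate_iff_det_ne_zero (finBasis ℂ W)).1 hn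
  have h4 : (LinearMap.BilinForm.toMatrix (finBasis ℂ W) B).transpose =
      -LinearMap.BilinForm.toMatrix (finBasis ℂ W) B := by
    ext i j; simp only [Matrix.transpose_apply, Matrix.neg_apply, LinearMap.BilinForm.toMatrix_apply]
    exact h1 _ _
  have h5 := Matrix.det_transpose (LinearMap.BilinForm.toMatrix (finBasis ℂ W) B)
  rw [h4, Matrix.det_neg, mul_eq_right₀ h3, Fintype.card_fin] at h5
  exact (neg_one_pow_eq_one_iff_even (by norm_num)).1 h5

theorem SForm.even_inv [Fintype G] [FiniteDimensional ℂ W] (hα : ∀ g, α (α g) = g)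
    (h : SForm α ρ B) : Even (finrank ℂ ρ.invariants) := by
  have := invertibleOfNonzero (show (Fintype.card G : ℂ) ≠ 0 by simp)
  refine even_of_skew (B := B.restrict ρ.invariants) (fun u v => h.skew u v) fun u hu =>
    Subtype.ext (h.nd u fun v => ?_)
  have h1 := hu ⟨_, ρ.averageMap_invariant v⟩
  have h2 : ∀ g, B u (ρ g v) = B u v := fun g => by
    rw [← h.inv (α g) u v, hα, u.2]
  simpa [GroupAlgebra.average, map_sum, h2] using h1

/-- a character of indicator `1` has even multiplicity in a module with a skew form -/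
theorem SForm.even_mult [Fintype G] [FiniteDimensional ℂ W] (hα : ∀ g, α (α g) = g)
    (h : SForm α ρ B) {θ : G → ℂ} (hθ : IsIrrCharacter G θ) (h1 : eps α θ = 1) :
    ∃ k : ℕ, classInner ρ.character θ = 2 * k := by
  obtain ⟨n, σ, _, hσ⟩ := IsIrrCharacter_conj hθ
  have h2 : eps α σ.character = 1 := by rw [hσ, eps_conj, h1, map_one]
  obtain ⟨b, h3, h4, h5⟩ := exists_form hα σ (by simp [h2])
  simp only [h2, one_mul] at h3
  have hB : B.Nondegenerate := ⟨h.nd, fun u hu => h.nd u fun v => by rw [h.skew, hu, neg_zero]⟩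
  have hb : b.Nondegenerate := ⟨h4, fun u hu => h4 u fun v => by rw [h3, hu]⟩
  have h6 : SForm α (ρ.tprod σ) (B.tmul b) := by
    refine ⟨fun u v => ?_, fun u hu => ?_, fun g u v => ?_⟩
    · refine LinearMap.congr_fun₂ (show B.tmul b = -(B.tmul b).flip from
        TensorProduct.ext' fun x y => TensorProduct.ext' fun x' y' => ?_) u v
      change b y y' * B x x' = -(b y' y * B x' x)
      rw [h.skew x, h3 y]; ring
    · refine (Module.forall_dual_apply_eq_zero_iff ℂ u).1 fun F => ?_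
      obtain ⟨t, rfl⟩ := (dualDistribEquiv ℂ _ _).surjective F
      induction t with
      | zero => simp
      | add x y hx hy => rw [map_add, LinearMap.add_apply, hx, hy, add_zero]
      | tmul f g =>
        obtain ⟨w, rfl⟩ := (B.toDual hB).surjective f
        obtain ⟨s, rfl⟩ := (b.toDual hb).surjective g
        rw [← neg_eq_zero, ← hu (w ⊗ₜ s)]
        clear hu
        induction u with
        | zero => simp
        | add x y hx hy => simp only [map_add, LinearMap.add_apply, neg_add, hx, hy]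
        | tmul x y =>
          change -(B w x * b s y) = b y s * B x w
          rw [h.skew w, h3]; ring
    · refine LinearMap.congr_fun₂ (show (B.tmul b).compl₁₂ (ρ.tprod σ g) (ρ.tprod σ (α g)) =
        B.tmul b from TensorProduct.ext' fun x y => TensorProduct.ext' fun x' y' => ?_) u v
      change b (σ g y) (σ (α g) y') * B (ρ g x) (ρ (α g) x') = b y y' * B x x'
      rw [h.inv, h5]
  obtain ⟨k, hk⟩ := h6.even_inv hα
  have := invertibleOfNonzero (card_ne_zero_complex G)
  have h7 := (ρ.tprod σ).card_inv_mul_sum_char_eq_finrank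
  rw [hk, Representation.char_tensor, hσ] at h7
  exact ⟨k, h7.trans (by push_cast; ring)⟩

end forms

theorem ev_iff [Fintype G] {χ : G → ℂ} (hχ : IsClassFunction G χ) :
    Ev χ ↔ ∀ θ, IsIrrCharacter G θ → ∃ k : ℤ, classInner χ θ = 2 * k := by
  refine ⟨fun ⟨ψ, h1, h2⟩ θ hθ => ?_, fun h => ⟨(2⁻¹ : ℂ) • χ, isGeneralized_iff.2
    ⟨IsClassFunction_smul _ hχ, fun θ => ?_⟩, fun g => by simp⟩⟩
  · obtain ⟨k, hk⟩ := IsGeneralized_classInner h1 (IsIrrCharacter_isGeneralized hθ)
    exact ⟨k, by rw [← hk, ← classInner_smul_left]; congr 1; exact funext h2⟩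
  · obtain ⟨k, hk⟩ := h θ θ.2
    exact ⟨k, by rw [classInner_smul_left, hk]; ring⟩

theorem Ev.comp {χ : G → ℂ} (h : Ev χ) {D : Type*} [Group D] (i : D →* G) :
    Ev (fun d => χ (i d)) := by
  obtain ⟨ψ, h1, h2⟩ := h
  exact ⟨_, IsGeneralized_comp i h1, fun d => h2 _⟩

theorem Ev.inner [Fintype G] {χ θ : G → ℂ} (h : Ev χ) (hθ : IsGeneralizedCharacter G θ) :
    ∃ k : ℤ, classInner χ θ = 2 * k := by
  obtain ⟨ψ, h1, h2⟩ := h
  obtain ⟨k, hk⟩ := IsGeneralized_classInner h1 hθ
  exact ⟨k, by rw [← hk, ← classInner_smul_left]; congr 1; exact funext h2⟩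

theorem Good.ev [Finite G] {α : G →* G} (hα : Good α) {W : Type*} [AddCommGroup W] [Module ℂ W]
    [FiniteDimensional ℂ W] {ρ : Representation ℂ G W} {B : LinearMap.BilinForm ℂ W}
    (h : SForm α ρ B) : Ev ρ.character := by
  have := Fintype.ofFinite G
  refine (ev_iff (IsCharacter_isClassFunction (isCharacter_character ρ))).2 fun θ hθ => ?_
  obtain ⟨k, hk⟩ := h.even_mult hα.1 hθ (hα.2 θ hθ)
  exact ⟨k, hk⟩

theorem Good.real [Finite G] {α : G →* G} (hα : Good α) (g : G) : IsConj (α g) g⁻¹ := by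
  refine (isConj_iff_irr _ _).2 fun χ => ?_
  rw [irr_apply_inv, (eps_ne_zero_iff hα.1 χ.2).1 (by simp [hα.2 _ χ.2])]

/-- counting twisted involutions -/
theorem sum_deg_eps [Finite G] {α : G →* G} (hα : ∀ g, α (α g) = g) :
    ∑ χ : IrrCharacter G, (χ : G → ℂ) 1 * eps α χ = Nat.card {g : G // g * α g = 1} := by
  classical
  have := Fintype.ofFinite G
  simp only [eps_eq, mul_left_comm _ (Nat.card G : ℂ)⁻¹, Finset.mul_sum]
  rw [Finset.sum_comm]
  simp only [← Finset.mul_sum, sum_degree_mul_irr]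
  rw [← Finset.sum_filter, Finset.sum_const, nsmul_eq_mul, mul_left_comm,
    inv_mul_cancel₀ (card_ne_zero_complex G), mul_one, Nat.card_eq_fintype_card,
    Fintype.card_subtype]

/-- odd multiplicity: a twisted-real character with an odd multiplicity constituent of
indicator `1` in a subpair has indicator `1` -/
theorem eps_eq_one_of_odd [Finite G] {α : G →* G} (hα : ∀ g, α (α g) = g) {χ : G → ℂ}
    (hχ : IsIrrCharacter G χ) (hr : ∀ g, χ (α g) = conj (χ g)) {D : Type*} [Group D] [Fintype D]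
    (i : D →* G) (β : D →* D) (hβ : ∀ d, β (β d) = d) (hi : ∀ d, i (β d) = α (i d)) {θ : D → ℂ}
    (hθ : IsIrrCharacter D θ) (h1 : eps β θ = 1) {k : ℕ} (hk : Odd k)
    (hm : classInner (fun d => χ (i d)) θ = k) : eps α χ = 1 := by
  refine ((eps_cases hα hχ).resolve_left ((eps_ne_zero_iff hα hχ).2 hr)).resolve_right fun h => ?_
  obtain ⟨n, ρ, B, rfl, hB⟩ := exists_sform hα hχ h
  obtain ⟨j, hj⟩ := (hB.comp i β hi).even_mult hβ hθ h1
  have h2 : k = 2 * j := by exact_mod_cast hm.symm.trans hj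
  exact (Nat.not_even_iff_odd.2 hk) ⟨j, by omega⟩

end Cfsg.Agent.FS
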