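import Cfsg.Agent.Lib.FS.A1
import Cfsg.Agent.Lib.H4.Misc2
import Cfsg.Agent.Lib.H5.PPart

/-!
# Transport of good pairs, the Brauer step (notes/FS.md, part A2)
-/

set_option autoImplicit false

open scoped ComplexConjugate
open Module Cfsg

namespace Cfsg.Agent.FS

variable {G H : Type*} [Group G] [Group H]

theorem GoodOn.inv {α : G →* G} {S : Subgroup G} (h : GoodOn α S) : Inv α S := by
  obtain ⟨β, hβ, hg⟩ := h
  refine ⟨fun g hg' => by rw [← hβ ⟨g, hg'⟩]; exact (β _).2, fun g hg' => ?_⟩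
  rw [← hβ ⟨g, hg'⟩, ← hβ, hg.1]

theorem GoodOn.congr {α α' : G →* G} {S : Subgroup G} (h : GoodOn α S)
    (he : ∀ s ∈ S, α' s = α s) : GoodOn α' S := by
  obtain ⟨β, hβ, hg⟩ := h
  exact ⟨β, fun s => by rw [hβ, he s s.2], hg⟩

theorem GoodOn.tw [Finite G] {α : G →* G} {S : Subgroup G} (h : GoodOn α S) {x : G} (hxS : x ∈ S)
    (hx : x * α x = 1) : GoodOn (tw α x) S := by
  obtain ⟨β, hβ, hg⟩ := h
  refine ⟨FS.tw β ⟨x, hxS⟩, fun s => by simp [tw_apply, hβ], hg.tw (Subtype.ext ?_)⟩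
  simpa [hβ] using hx

/-- images of good pairs are good -/
theorem Good.of_surj [Finite G] {α : G →* G} (h : Good α) {β : H →* H} (f : G →* H)
    (hf : Function.Surjective f) (hc : ∀ g, β (f g) = f (α g)) : Good β := by
  haveI := Finite.of_surjective f hf
  haveI := Fintype.ofFinite G
  haveI := Fintype.ofFinite H
  refine ⟨fun x => ?_, fun χ hχ => ?_⟩
  · obtain ⟨g, rfl⟩ := hf x
    rw [hc, hc, h.1]
  have h1 := h.2 _ (H3.IsIrrCharacter_comp_of_surjective f hf hχ)
  rw [eps_eq] at h1 ⊢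
  have h2 := H3.sum_comp_of_surjective f hf (fun x => χ (x * β x))
  have h3 := H3.sum_comp_of_surjective f hf (fun _ => 1)
  simp only [hc, ← map_mul] at h2
  simp only [Finset.sum_const, Finset.card_univ, nsmul_eq_mul, mul_one,
    ← Nat.card_eq_fintype_card] at h3
  rw [h2, h3] at h1
  have := H3.card_ne_zero_complex f.ker
  have := H3.card_ne_zero_complex H
  field_simp at h1 ⊢
  exact h1

theorem goodOn_top [Finite G] {α : G →* G} : GoodOn α ⊤ ↔ Good α := by
  constructor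
  · rintro ⟨β, hβ, hg⟩
    exact hg.of_surj (Subgroup.subtype ⊤) (fun g => ⟨⟨g, trivial⟩, rfl⟩) fun g => (hβ g).symm
  · intro h
    refine ⟨(α.domRestrict ⊤).codRestrict ⊤ fun _ => Subgroup.mem_top _, fun _ => rfl, ?_⟩
    exact h.of_surj (Subgroup.topEquiv (G := G)).symm.toMonoidHom
      (Subgroup.topEquiv (G := G)).symm.surjective fun g => rfl

theorem GoodOn.of_surj [Finite G] {α : G →* G} {S : Subgroup G} (h : GoodOn α S) {β : H →* H}
    {T : Subgroup H} (f : S →* T) (hf : Function.Surjective f)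
    (hc : ∀ s t : S, (t : G) = α s → (f t : H) = β (f s)) : GoodOn β T := by
  obtain ⟨γ, hγ, hg⟩ := h
  have h1 : ∀ t : T, β t ∈ T := by
    intro t
    obtain ⟨s, rfl⟩ := hf t
    rw [← hc s (γ s) (hγ s)]
    exact (f _).2
  refine ⟨(β.domRestrict T).codRestrict T h1, fun _ => rfl, hg.of_surj f hf fun s => Subtype.ext ?_⟩
  exact (hc s (γ s) (hγ s)).symm

theorem GoodOn.map [Finite G] {α : G →* G} {S : Subgroup G} (h : GoodOn α S) {β : H →* H}
    (f : G →* H) (hc : ∀ s ∈ S, β (f s) = f (α s)) : GoodOn β (S.map f) := by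
  refine h.of_surj (f.subgroupMap S) (f.subgroupMap_surjective S) fun s t ht => ?_
  show f t = β (f s)
  rw [ht, hc s s.2]

theorem GoodOn.of_map [Finite H] {α : G →* G} {S : Subgroup G} {β : H →* H} (f : G →* H)
    (hf : Function.Injective f) (hc : ∀ s ∈ S, β (f s) = f (α s)) (h : GoodOn β (S.map f)) :
    GoodOn α S := by
  let e := S.equivMapOfInjective f hf
  refine h.of_surj e.symm.toMonoidHom e.symm.surjective fun s t ht => hf ?_
  obtain ⟨s, rfl⟩ := e.surjective s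
  obtain ⟨t, rfl⟩ := e.surjective t
  simp only [MulEquiv.coe_toMonoidHom, MulEquiv.symm_apply_apply]
  rw [← hc s s.2]
  exact ht

theorem Good.prod [Finite G] [Finite H] {α : G →* G} {β : H →* H} (h1 : Good α) (h2 : Good β) :
    Good (α.prodMap β) := by
  haveI := Fintype.ofFinite G
  haveI := Fintype.ofFinite H
  refine ⟨fun x => Prod.ext (h1.1 _) (h2.1 _), fun χ hχ => ?_⟩
  obtain ⟨φ, ψ, hφ, hψ, rfl⟩ := (H4.isIrr_prod_iff χ).1 hχ
  have e1 := h1.2 φ hφ
  have e2 := h2.2 ψ hψ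
  rw [eps_eq] at e1 e2 ⊢
  rw [Fintype.sum_prod_type, Nat.card_prod, Nat.cast_mul, mul_inv]
  simp only [Prod.fst_mul, Prod.snd_mul, MonoidHom.coe_prodMap, Prod.map_fst, Prod.map_snd,
    ← Finset.sum_mul_sum]
  linear_combination (Nat.card H : ℂ)⁻¹ * (∑ g, ψ (g * β g)) * e1 + e2
theorem GoodOn.prod [Finite G] [Finite H] {α : G →* G} {S : Subgroup G} {β : H →* H}
    {T : Subgroup H} (h1 : GoodOn α S) (h2 : GoodOn β T) : GoodOn (α.prodMap β) (S.prod T) := by
  obtain ⟨α', hα, ga⟩ := h1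
  obtain ⟨β', hβ, gb⟩ := h2
  have h := goodOn_top.2 (ga.prod gb)
  have e : S.prod T = (⊤ : Subgroup (S × T)).map (S.subtype.prodMap T.subtype) := by
    ext ⟨a, b⟩
    simp [Subgroup.mem_prod]
  rw [e]
  exact h.map _ fun s _ => Prod.ext (hα _).symm (hβ _).symm

theorem goodOn_of_comm [Finite G] {α : G →* G} {S : Subgroup G}
    (hc : ∀ a ∈ S, ∀ b ∈ S, a * b = b * a) (hα : ∀ s ∈ S, α s = s⁻¹) : GoodOn α S := by
  haveI := Fintype.ofFinite S
  have h1 : ∀ s : S, α s ∈ S := fun s => by rw [hα s s.2]; exact inv_mem s.2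
  refine ⟨(α.domRestrict S).codRestrict S h1, fun _ => rfl, fun s => Subtype.ext ?_, fun χ hχ => ?_⟩
  · show α (α s) = s
    rw [hα s s.2, hα _ (inv_mem s.2), inv_inv]
  · have h2 : ∀ s : S, s * (α.domRestrict S).codRestrict S h1 s = 1 := fun s => Subtype.ext (by
      show (s : G) * α s = 1
      rw [hα s s.2, mul_inv_cancel])
    rw [eps_eq]
    simp only [h2, H3.IsIrrCharacter_apply_one_of_comm
      (fun a b : S => Subtype.ext (hc a a.2 b b.2)) hχ]
    simp [← Nat.card_eq_fintype_card, H3.card_ne_zero_complex]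

theorem GoodOn.real [Finite G] {α : G →* G} {S : Subgroup G} (h : GoodOn α S) {g : G}
    (hg : g ∈ S) : ∃ x ∈ S, x * α g * x⁻¹ = g⁻¹ := by
  obtain ⟨β, hβ, h⟩ := h
  obtain ⟨x, hx⟩ := isConj_iff.1 (h.real ⟨g, hg⟩)
  refine ⟨x, x.2, ?_⟩
  simpa [hβ] using congrArg Subtype.val hx

theorem GoodOn.sub {α : G →* G} {T S : Subgroup G} (h : GoodOn α S) (hS : S ≤ T) : Sub α T S :=
  ⟨hS, 1, T.one_mem, by simp, by rwa [tw_one]⟩

theorem Cov.mono {α : G →* G} {S S' : Subgroup G} (h : Cov α S) (hS : S' ≤ S) : Cov α S' := by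
  exact ⟨fun g hg => h.1 g (hS hg), fun χ hχ h1 => (h.2 χ hχ h1).comp (Subgroup.inclusion hS)⟩

theorem Cov.conj [Finite G] {α : G →* G} {S S' : Subgroup G} (h : Cov α S) (g : G)
    (hS : ∀ s ∈ S', g * s * g⁻¹ ∈ S) : Cov α S' := by
  refine ⟨fun s hs => ?_, fun χ hχ h1 => ?_⟩
  · have h1 : IsConj (α s) (α (g * s * g⁻¹)) := isConj_iff.2 ⟨α g, by simp⟩
    have h2 : IsConj (g * s * g⁻¹)⁻¹ s⁻¹ := isConj_iff.2 ⟨g⁻¹, by group⟩
    exact h1.trans ((h.1 _ (hS s hs)).trans h2)
  · have := (h.2 χ hχ h1).comp ((((MulAut.conj g).toMonoidHom).domRestrict S').codRestrict S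
      fun s => hS s s.2)
    simpa [H3.IsIrrCharacter_isClassFunction hχ _ g] using this

theorem Sub.cov [Finite G] {α : G →* G} (hα : ∀ g, α (α g) = g) {T S : Subgroup G}
    (h : Sub α T S) : Cov α S := by
  obtain ⟨-, x, -, hx, hg⟩ := h
  refine ⟨fun g hg' => ?_, fun χ hχ h1 => ?_⟩
  · obtain ⟨y, -, hy⟩ := hg.real hg'
    exact isConj_iff.2 ⟨y * x, by rw [← hy, tw_apply]; group⟩
  · obtain ⟨n, ρ, B, rfl, hB⟩ := exists_sform hα hχ h1
    obtain ⟨β, hβ, hg⟩ := hg
    exact hg.ev ((hB.tw hx).comp S.subtype β hβ)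

theorem ev_elementary [Finite G] {χ : G → ℂ} (hχ : IsIrrCharacter G χ)
    (h2 : ∀ P : Subgroup G, IsPGroup 2 P → Ev (fun s : P => χ s)) {E : Subgroup G} [Fintype E]
    {x : E} (hx : (x : G) ∈ Subgroup.center G) {k : ℕ} (hk : (Subgroup.zpowers x).index = 2 ^ k)
    {θ : E → ℂ} (hθ : IsGeneralizedCharacter E θ) :
    ∃ k : ℤ, classInner (fun s : E => χ s) θ = 2 * k := by
  haveI : Fact (Nat.Prime 2) := ⟨Nat.prime_two⟩
  obtain ⟨P⟩ : Nonempty (Sylow 2 E) := inferInstance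
  have hz : ∀ a : Subgroup.zpowers x, ((a : E) : G) ∈ Subgroup.center G := by
    rintro ⟨_, n, rfl⟩
    exact zpow_mem hx n
  have hcomm : ∀ (a : Subgroup.zpowers x) (b : E), Commute (a : E) b := fun a b =>
    Subtype.ext (Subgroup.mem_center_iff.1 (hz a) b).symm
  let f : Subgroup.zpowers x × (P : Subgroup E) →* E :=
    MonoidHom.noncommCoprod (Subgroup.subtype _) (Subgroup.subtype _) fun a b => hcomm a b
  have hf : Function.Surjective f := by
    rw [← MonoidHom.range_eq_top, ← Subgroup.index_eq_one]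
    have h1 : f.range.index ∣ 2 ^ k := by
      rw [← hk]
      exact Subgroup.index_dvd_of_le fun a ha => ⟨(⟨a, ha⟩, 1), mul_one a⟩
    have h3 : f.range.index ∣ (P : Subgroup E).index :=
      Subgroup.index_dvd_of_le fun a ha => ⟨(1, ⟨a, ha⟩), one_mul a⟩
    obtain ⟨j, -, hj⟩ := (Nat.dvd_prime_pow Nat.prime_two).1 h1
    rcases j with _ | j
    · simpa using hj
    · exact absurd ((Dvd.intro_left _ (pow_succ 2 j).symm).trans (hj ▸ h3)) P.not_dvd_index
  haveI := Fintype.ofFinite (Subgroup.zpowers x × (P : Subgroup E))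
  rw [← H3.classInner_comp_of_surjective f hf]
  refine Ev.inner ?_ (H3.IsGeneralized_comp f hθ)
  have hc := H3.IsIrrCharacter_isCharacter hχ
  obtain ⟨lam, hlam⟩ := H3.charCenter_exists_linear hc (H3.IsIrrCharacter_apply_one_ne_zero hχ)
  obtain ⟨ψ, hψ, hψ'⟩ := (h2 _ (P.isPGroup'.map E.subtype)).comp
    (E.subtype.subgroupMap (P : Subgroup E))
  let i : Subgroup.zpowers x →* H3.charCenter hc :=
    (E.subtype.comp (Subgroup.subtype _)).codRestrict _ fun a =>
      (H3.mem_charCenter hc).2 (H3.IsIrrCharacter_norm_eq_of_mem_center hχ (hz a))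
  refine ⟨_, H3.IsGeneralized_mul (H3.IsIrrCharacter_isGeneralized (H3.isIrrCharacter_linear
    ((lam.comp i).comp (MonoidHom.fst _ _)))) (H3.IsGeneralized_comp (MonoidHom.snd _ _) hψ),
    fun g => ?_⟩
  have h4 := hlam (i g.1) ((g.2 : E) : G)
  have h5 := hψ' g.2
  show χ (((g.1 : E) : G) * ((g.2 : E) : G)) = 2 * ((lam (i g.1) : ℂ) * ψ g.2)
  change χ (((g.1 : E) : G) * ((g.2 : E) : G)) = _ at h4
  change χ ((g.2 : E) : G) = _ at h5
  rw [h4, h5]; ring

theorem exists_odd_two [Finite G] (g : G) : ∃ c u : G, g = c * u ∧ Odd (orderOf c) ∧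
    (∃ k, orderOf u = 2 ^ k) ∧ c ∈ Subgroup.zpowers g ∧ u ∈ Subgroup.zpowers g := by
  haveI : Fact (Nat.Prime 2) := ⟨Nat.prime_two⟩
  refine ⟨H5.pPart' 2 g, H5.pPart 2 g, ?_, ?_, H5.pPart_pElt g, H5.pPart'_mem_zpowers g,
    H5.pPart_mem_zpowers g⟩
  · rw [← (H5.commute_pPart_pPart' g).eq, H5.pPart_mul_pPart']
  · rw [← Nat.not_even_iff_odd, even_iff_two_dvd]
    exact H5.pPart'_pReg g
/-- the Brauer step -/
theorem brauer_step [Finite G] {α : G →* G} (hα : ∀ g, α (α g) = g)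
    (h1 : ∀ c : G, Odd (orderOf c) →
      Cov α (Subgroup.centralizer {c}) ∨ (c ∈ Subgroup.center G ∧ α c = c⁻¹))
    (h2 : ∀ P : Subgroup G, IsPGroup 2 P → Cov α P) : Good α := by
  classical
  haveI := Fintype.ofFinite G
  haveI : Fact (Nat.Prime 2) := ⟨Nat.prime_two⟩
  have hreal : ∀ g, IsConj (α g) g⁻¹ := by
    intro g
    obtain ⟨c, u, hg, hc, ⟨k, hk⟩, hcg, hug⟩ := exists_odd_two g
    rcases h1 c hc with h | ⟨h, h'⟩
    · refine h.1 g (Subgroup.mem_centralizer_singleton_iff.2 ?_)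
      obtain ⟨n, rfl⟩ := hcg
      exact (Commute.self_zpow g n).eq
    · have hu : IsPGroup 2 (Subgroup.zpowers u) :=
        IsPGroup.of_card (by rw [Nat.card_zpowers, hk])
      obtain ⟨y, hy⟩ := isConj_iff.1 ((h2 _ hu).1 u (Subgroup.mem_zpowers u))
      refine isConj_iff.2 ⟨y, ?_⟩
      have hc' := Subgroup.mem_center_iff.1 (inv_mem h)
      rw [hg, map_mul, h', mul_inv_rev, ← hy, hc', ← mul_assoc, hc' y]
      group
  refine ⟨hα, fun χ hχ => ?_⟩
  have hcl := H3.IsIrrCharacter_isClassFunction hχ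
  have h0 : eps α χ ≠ 0 := (eps_ne_zero_iff hα hχ).2 fun g => by
    rw [H3.IsClassFunction_of_isConj hcl (hreal g),
      H3.IsCharacter_apply_inv (H3.IsIrrCharacter_isCharacter hχ)]
  rcases eps_cases hα hχ with h | h | h
  · exact absurd h h0
  · exact h
  exfalso
  obtain ⟨n, hn, hB⟩ := H3.brauer_induction_local (G := G) Nat.prime_two
  obtain ⟨l, hl, hs⟩ := hB χ (H3.IsIrrCharacter_isGeneralized hχ)
  have key : ∀ l : List ((A : Subgroup G) × ((A →* ℂˣ) × ℤ)), (∀ t ∈ l, IsElementary 2 t.1) →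
      ∃ k : ℤ, classInner χ
        (l.map fun t => (t.2.2 : ℂ) • indFun t.1 (fun a => (t.2.1 a : ℂ))).sum = 2 * k := by
    intro l hl
    induction l with
    | nil => exact ⟨0, by simp [H4.classInner_zero_right]⟩
    | cons t l ih =>
      obtain ⟨k, hk⟩ := ih fun s hs => hl s (List.mem_cons_of_mem _ hs)
      obtain ⟨x, hx, hxo, j, hj⟩ := hl t List.mem_cons_self
      haveI := Fintype.ofFinite t.1
      have hlin := H3.IsIrrCharacter_isGeneralized (H3.isIrrCharacter_linear t.2.1)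
      obtain ⟨m, hm⟩ : ∃ m : ℤ, classInner (fun s : t.1 => χ s) (fun a => (t.2.1 a : ℂ)) = 2 * m := by
        rcases h1 x (by rw [Subgroup.orderOf_coe]; exact Nat.coprime_two_right.1 hxo) with h' | h'
        · refine ((h'.mono fun s hs => ?_).2 χ hχ h).inner hlin
          exact Subgroup.mem_centralizer_singleton_iff.2
            (congrArg Subtype.val (Subgroup.mem_center_iff.1 hx ⟨s, hs⟩))
        · exact ev_elementary hχ (fun P hP => (h2 P hP).2 χ hχ h) h'.1 hj hlin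
      refine ⟨t.2.2 * m + k, ?_⟩
      rw [List.map_cons, List.sum_cons, H4.classInner_add_right, hk, H4.classInner_smul_right,
        H4.frobenius_reciprocity' _ _ hcl, hm]
      simp only [map_intCast]
      push_cast
      ring
  obtain ⟨k, hk⟩ := key l hl
  rw [← hs, H4.classInner_smul_right, H3.IsIrrCharacter_classInner_self hχ, map_intCast,
    mul_one] at hk
  exact hn ⟨k, by exact_mod_cast hk⟩

theorem Sub.cov_on [Finite G] {α : G →* G} {T S : Subgroup G} (h : Sub α T S) {β : T →* T}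
    (hβ : ∀ t, (β t : G) = α t) (hi : ∀ t, β (β t) = t) : Cov β (S.subgroupOf T) := by
  obtain ⟨hS, x, hxT, hx, hg⟩ := h
  refine Sub.cov hi (T := ⊤) ⟨le_top, ⟨x, hxT⟩, trivial, Subtype.ext (by simpa [hβ] using hx), ?_⟩
  refine GoodOn.of_map (β := tw α x) T.subtype T.subtype_injective
    (fun s _ => by simp [tw_apply, hβ]) ?_
  rwa [Subgroup.map_subgroupOf_eq_of_le hS]

theorem Inv.exists {α : G →* G} {T : Subgroup G} (hα : Inv α T) :
    ∃ β : T →* T, (∀ t, (β t : G) = α t) ∧ ∀ t, β (β t) = t :=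
  ⟨(α.domRestrict T).codRestrict T fun t => hα.1 t t.2, fun _ => rfl,
    fun t => Subtype.ext (hα.2 t t.2)⟩
/-- the Brauer step inside an ambient group -/
theorem brauer_on [Finite G] {α : G →* G} {T : Subgroup G} (hα : Inv α T)
    (h1 : ∀ c ∈ T, Odd (orderOf c) →
      Sub α T (T ⊓ Subgroup.centralizer {c}) ∨ ((∀ g ∈ T, c * g = g * c) ∧ α c = c⁻¹))
    (h2 : ∀ P : Subgroup G, P ≤ T → IsPGroup 2 P → ∃ S, P ≤ S ∧ Sub α T S) : GoodOn α T := by
  obtain ⟨β, hβ, hi⟩ := hα.exists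
  refine ⟨β, hβ, brauer_step hi (fun c hc => ?_) fun P hP => ?_⟩
  · rcases h1 c c.2 (by rwa [Subgroup.orderOf_coe]) with h | h
    · refine Or.inl ((h.cov_on hβ hi).mono fun g hg => ⟨g.2, ?_⟩)
      exact Subgroup.mem_centralizer_singleton_iff.2
        (congrArg Subtype.val (Subgroup.mem_centralizer_singleton_iff.1 hg))
    · exact Or.inr ⟨Subgroup.mem_center_iff.2 fun g => Subtype.ext (h.1 g g.2).symm,
        Subtype.ext (by rw [hβ, h.2]; rfl)⟩
  · obtain ⟨S, hPS, hS⟩ := h2 _ (Subgroup.map_subtype_le P) (hP.map T.subtype)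
    exact (hS.cov_on hβ hi).mono fun g hg => hPS ⟨g, hg, rfl⟩

theorem eps_sum [Finite G] (α : G →* G) {ι : Type*} (s : Finset ι) (c : ι → ℂ) (χ : ι → G → ℂ) :
    eps α (∑ i ∈ s, c i • χ i) = ∑ i ∈ s, c i * eps α (χ i) := by
  haveI := Fintype.ofFinite G
  simp only [eps_eq, Finset.sum_apply, Pi.smul_apply, smul_eq_mul, Finset.mul_sum]
  rw [Finset.sum_comm]
  exact Finset.sum_congr rfl fun i _ => Finset.sum_congr rfl fun g _ => by ring

theorem good_index_two [Finite G] (hT : Good (MonoidHom.id G)) {N : Subgroup G} {r : G}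
    (hrN : r ∉ N) (hrr : r * r = 1) (hi : ∀ g, g ∈ N ∨ g * r ∈ N)
    (hreal : ∀ g : N, IsConj g g⁻¹) : Good (MonoidHom.id N) := by
  classical
  haveI := Fintype.ofFinite G
  have hr' : r⁻¹ = r := inv_eq_of_mul_eq_one_right hrr
  have hi2 : N.index = 2 := Subgroup.index_eq_two_iff.2 ⟨r, fun g => by
    rcases hi g with h | h
    · exact Or.inr ⟨h, fun h' => hrN (by simpa using mul_mem (inv_mem h) h')⟩
    · exact Or.inl ⟨h, fun h' => hrN (by simpa using mul_mem (inv_mem h') h)⟩⟩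
  haveI hN : N.Normal := Subgroup.normal_of_index_eq_two hi2
  let β : N →* N := ((MulAut.conj r).toMonoidHom.domRestrict N).codRestrict N
    fun n => hN.conj_mem n n.2 r
  have hβ : ∀ n, (β n : G) = r * n * r⁻¹ := fun _ => rfl
  have hββ : ∀ n, β (β n) = n := fun n => Subtype.ext (by
    rw [hβ, hβ, hr', ← mul_assoc, ← mul_assoc, hrr, one_mul, mul_assoc, hrr, mul_one])
  refine ⟨fun _ => rfl, fun θ hθ => ?_⟩
  have hcl := H3.IsIrrCharacter_isClassFunction hθ
  have h0 : eps (MonoidHom.id N) θ ≠ 0 := (eps_ne_zero_iff (fun _ => rfl) hθ).2 fun g => by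
    rw [MonoidHom.id_apply, ← H3.IsCharacter_apply_inv (H3.IsIrrCharacter_isCharacter hθ),
      H3.IsClassFunction_of_isConj hcl (hreal g)]
  -- sums over the two cosets
  have hsum : ∀ f : G → ℂ, ∑ g, f g = ∑ n : N, f n + ∑ n : N, f (n * r) := by
    intro f
    rw [← Finset.sum_filter_add_sum_filter_not Finset.univ (· ∈ N)]
    congr 1
    · exact Finset.sum_subtype _ (by simp) f
    · symm
      refine Finset.sum_bij (fun (n : N) _ => (n : G) * r) (fun n _ => ?_) (fun a _ b _ h => ?_)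
        (fun g hg => ?_) fun _ _ => rfl
      · simp only [Finset.mem_filter, Finset.mem_univ, true_and]
        exact fun h' => hrN (by simpa using mul_mem (inv_mem n.2) h')
      · exact Subtype.ext (mul_right_cancel h)
      · simp only [Finset.mem_filter, Finset.mem_univ, true_and] at hg
        exact ⟨⟨g * r, (hi g).resolve_left hg⟩, Finset.mem_univ _, by
          simp [mul_assoc, hrr]⟩
  have hind : ∀ n : N, indFun N θ n = θ n + θ (β n) := by
    intro n
    rw [H4.indFun_normal_coe, hsum]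
    have e1 : ∀ m : N, θ ⟨m * n * (m : G)⁻¹, hN.conj_mem n n.2 m⟩ = θ n := fun m => hcl n m
    have e2 : ∀ m : N, θ ⟨m * r * n * ((m : G) * r)⁻¹, hN.conj_mem n n.2 _⟩ = θ (β n) :=
      fun m => by
        rw [← hcl (β n) m]
        congr 1
        apply Subtype.ext
        simp [hβ, mul_assoc]
    simp only [e1, e2, Finset.sum_const, Finset.card_univ, nsmul_eq_mul,
      ← Nat.card_eq_fintype_card]
    have := H3.card_ne_zero_complex N
    field_simp
  have hbs : ∀ f : N → ℂ, ∑ n, f (β n) = ∑ n, f n := fun f =>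
    Equiv.sum_comp (Function.Involutive.toPerm β hββ) f
  have h1 : eps (MonoidHom.id G) (indFun N θ) = eps (MonoidHom.id N) θ + eps β θ := by
    rw [eps_eq, eps_eq, eps_eq, hsum]
    have e1 : ∀ n : N, (n : G) * MonoidHom.id G n = (n * n : N) := fun _ => rfl
    have e2 : ∀ n : N, (n : G) * r * MonoidHom.id G (n * r) = (n * β n : N) := fun n => by
      simp [hβ, hr', mul_assoc]
    simp only [e1, e2, hind]
    simp only [Finset.sum_add_distrib, map_mul, hββ, MonoidHom.id_apply]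
    rw [hbs fun n => θ (n * n), ← N.index_mul_card, hi2]
    simp only [H3.IsClassFunction_mul_comm hcl (β _)]
    have := H3.card_ne_zero_complex N
    push_cast
    field_simp
    ring
  have hc := H4.isCharacter_indFun N (H3.IsIrrCharacter_isCharacter hθ)
  obtain ⟨c, hc'⟩ := H3.IsCharacter_exists_nat_sum hc
  have h2 : eps (MonoidHom.id G) (indFun N θ) = (∑ χ, c χ : ℕ) := by
    rw [hc', eps_sum]
    push_cast
    exact Finset.sum_congr rfl fun χ _ => by rw [hT.2 _ χ.2, mul_one]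
  have h3 : ∑ χ, c χ ≠ 0 := by
    intro h
    have h4 := congrFun hc' 1
    rw [H4.indFun_one, hi2] at h4
    simp only [Finset.sum_eq_zero_iff, Finset.mem_univ, true_imp_iff] at h
    simp [h, H3.IsIrrCharacter_apply_one_ne_zero hθ] at h4
  rcases eps_cases (α := MonoidHom.id N) (fun _ => rfl) hθ with h | h | h
  · exact absurd h h0
  · exact h
  exfalso
  rw [h1, h] at h2
  obtain ⟨m, hm⟩ := Nat.exists_eq_succ_of_ne_zero h3
  rw [hm] at h2
  rcases eps_cases hββ hθ with h' | h' | h' <;> rw [h'] at h2 <;>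
    have := congrArg Complex.re h2 <;> simp at this <;> linarith [(Nat.cast_nonneg m : (0 : ℝ) ≤ m)]
/-- a subgroup of index at most two all of whose elements are real -/
theorem goodOn_index_two [Finite G] {T N : Subgroup G} (hT : GoodOn (MonoidHom.id G) T)
    (hN : N ≤ T) {r : G} (hr : r ∈ T) (hrr : r * r = 1) (hi : ∀ g ∈ T, g ∈ N ∨ g * r ∈ N)
    (hreal : ∀ g ∈ N, ∃ x ∈ N, x * g * x⁻¹ = g⁻¹) : GoodOn (MonoidHom.id G) N := by
  by_cases hrN : r ∈ N
  · have : N = T := le_antisymm hN fun g hg => (hi g hg).elim id fun h => by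
      simpa using mul_mem h (inv_mem hrN)
    rwa [this]
  obtain ⟨β, hβ, hg⟩ := hT
  obtain rfl : β = MonoidHom.id T := MonoidHom.ext fun t => Subtype.ext (hβ t)
  have h := good_index_two hg (N := N.subgroupOf T) (r := ⟨r, hr⟩) hrN (Subtype.ext hrr)
    (fun g => hi g g.2) fun g => by
      obtain ⟨x, hx, hx'⟩ := hreal g g.2
      exact isConj_iff.2 ⟨⟨⟨x, hN hx⟩, hx⟩, Subtype.ext (Subtype.ext hx')⟩
  exact ⟨MonoidHom.id N, fun _ => rfl, h.of_surj (Subgroup.subgroupOfEquivOfLe hN).toMonoidHom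
    (Subgroup.subgroupOfEquivOfLe hN).surjective fun _ => rfl⟩

theorem Good.sum_sq [Finite G] (h : Good (MonoidHom.id G)) (χ : IrrCharacter G) :
    (Nat.card G : ℂ)⁻¹ * ∑ᶠ g, (χ : G → ℂ) (g * g) = 1 := h.2 χ χ.2

end Cfsg.Agent.FS
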