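import Cfsg.Agent.Lib.FS.Defs

/-!
# Extensions over a complement (helper file for part A3)
-/

set_option autoImplicit false

open scoped ComplexConjugate
open Module Cfsg

namespace Cfsg.Agent.FS

open H3 H4

section compl

variable {G : Type*} [Group G] {N H : Subgroup G} [hN : N.Normal]

/-- the projection onto a complement -/
theorem a3_exists_proj (hNH : ∀ g, ∃ n ∈ N, ∃ h ∈ H, g = n * h) (hd : N ⊓ H = ⊥) :
    ∃ π : G →* H, (∀ h : H, π h = h) ∧ π.ker = N := by
  let f : H →* G ⧸ N := (QuotientGroup.mk' N).comp H.subtype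
  have hf : Function.Bijective f := by
    constructor
    · rw [injective_iff_map_eq_one]
      intro h hh
      have h1 : (h : G) ∈ N := (QuotientGroup.eq_one_iff _).1 hh
      have h2 : (h : G) ∈ N ⊓ H := ⟨h1, h.2⟩
      rw [hd, Subgroup.mem_bot] at h2
      exact Subtype.ext h2
    · intro q
      obtain ⟨g, rfl⟩ := QuotientGroup.mk'_surjective N q
      obtain ⟨n, hn, h, hh, rfl⟩ := hNH g
      refine ⟨⟨h, hh⟩, ?_⟩
      have : QuotientGroup.mk' N n = 1 := (QuotientGroup.eq_one_iff _).2 hn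
      rw [map_mul, this, one_mul]
      rfl
  let e := MulEquiv.ofBijective f hf
  refine ⟨e.symm.toMonoidHom.comp (QuotientGroup.mk' N), fun h => ?_, ?_⟩
  · exact e.symm_apply_apply h
  · ext g
    rw [MonoidHom.mem_ker, MonoidHom.comp_apply, MulEquiv.coe_toMonoidHom,
      MulEquiv.map_eq_one_iff]
    exact QuotientGroup.eq_one_iff g

theorem a3_ext_of_compl {U : Type*} [Group U] (hNH : ∀ g, ∃ n ∈ N, ∃ h ∈ H, g = n * h)
    (hd : N ⊓ H = ⊥) (R : N →* U) (f : H →* U) (hf : ∀ h : H, ((h : G), f h) ∈ projGroup R) :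
    ∃ R' : G →* U, ∀ n : N, R' n = R n := by
  obtain ⟨π, hπ, hker⟩ := a3_exists_proj hNH hd
  have hm : ∀ g : G, g * (π g : G)⁻¹ ∈ N := fun g => by
    rw [← hker, MonoidHom.mem_ker, map_mul, map_inv, hπ, mul_inv_cancel]
  refine ⟨MonoidHom.mk' (fun g => R ⟨_, hm g⟩ * f (π g)) fun a b => ?_, fun n => ?_⟩
  · have h1 := hf (π a) ⟨_, hm b⟩
    simp only at h1 ⊢
    have h2 : (⟨_, hm (a * b)⟩ : N) = ⟨_, hm a⟩ *
        ⟨(π a : G) * (b * (π b : G)⁻¹) * (π a : G)⁻¹, hN.conj_mem _ (hm b) _⟩ := by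
      apply Subtype.ext
      simp [mul_assoc]
    rw [h2, map_mul R, map_mul π, map_mul f, mul_assoc (R _) (f (π a)), ← mul_assoc (f (π a)), h1]
    simp only [mul_assoc]
  · have h1 : π n = 1 := by rw [← MonoidHom.mem_ker, hker]; exact n.2
    simp [h1]

theorem a3_hom_of_retraction {U Z : Type*} [Group U] [CommGroup Z] (R : N →* U) {s : Z →* U}
    (hsc : ∀ z u, s z * u = u * s z) (hT : ∀ g : G, ∃ T : U, (g, T) ∈ projGroup R)
    (hschur : ∀ u, (∀ n, u * R n = R n * u) → ∃ z, u = s z)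
    (r : ↥(projGroup R ⊓ H.prod ⊤) →* Z)
    (hr : ∀ (z : Z) (h : ((1 : G), s z) ∈ projGroup R ⊓ H.prod ⊤), r ⟨_, h⟩ = z) :
    ∃ f : H →* U, ∀ h : H, ((h : G), f h) ∈ projGroup R := by
  let P := projGroup R ⊓ H.prod ⊤
  let F : P →* U := MonoidHom.mk' (fun x => x.1.2 * (s (r x))⁻¹) (fun x y => by
    rw [map_mul, mul_comm (r x), map_mul, mul_inv_rev, ← map_inv s, ← map_inv s,
      mul_assoc x.1.2 (s _), ← mul_assoc (s _), hsc _ y.1.2]
    simp only [Subgroup.coe_mul, Prod.snd_mul, mul_assoc])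
  let π : P →* H := ((MonoidHom.fst G U).comp P.subtype).codRestrict H fun x => x.2.2.1
  have hπ : Function.Surjective π := fun g => by
    obtain ⟨T, hT⟩ := hT g
    exact ⟨⟨_, hT, g.2, trivial⟩, rfl⟩
  have hker : π.ker ≤ F.ker := by
    rintro ⟨⟨g, T⟩, hx⟩ h1
    obtain rfl : g = 1 := congrArg Subtype.val h1
    obtain ⟨z, rfl⟩ := hschur T (fun n => by simpa using hx.1 n)
    have := hr z hx
    simp [F, this]
  refine ⟨π.liftOfRightInverse _ (Function.rightInverse_surjInv hπ) ⟨F, hker⟩, fun h => ?_⟩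
  obtain ⟨x, rfl⟩ := hπ h
  rw [π.liftOfRightInverse_comp_apply _ (Function.rightInverse_surjInv hπ) ⟨F, hker⟩ x]
  intro n
  have h1 := x.2.1 n
  change x.1.2 * (s (r x))⁻¹ * R n = R ⟨x.1.1 * n * x.1.1⁻¹, _⟩ * (x.1.2 * (s (r x))⁻¹)
  rw [← map_inv, mul_assoc, hsc, ← mul_assoc, h1, mul_assoc]

end compl

/-- an operator of finite order whose trace has absolute value one has a generalized eigenspace of
odd dimension -/
theorem a3_odd_eigenspace {V : Type*} [AddCommGroup V] [Module ℂ V] [FiniteDimensional ℂ V]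
    (T : Module.End ℂ V) {o : ℕ} (ho : o ≠ 0) (hT : T ^ o = 1)
    (h1 : LinearMap.trace ℂ V T * conj (LinearMap.trace ℂ V T) = 1) :
    ∃ μ : ℂ, Odd (finrank ℂ (T.maxGenEigenspace μ)) := by
  classical
  have hV : Nontrivial V := by
    by_contra hV
    rw [not_nontrivial_iff_subsingleton] at hV
    have : T = 0 := Subsingleton.elim _ _
    simp [this] at h1
  by_contra hcon
  push Not at hcon
  have hev : ∀ μ, ∃ k, T.charpoly.roots.count μ = k + k := fun μ => by
    have := hcon μ
    rw [Nat.not_odd_iff_even, LinearMap.finrank_maxGenEigenspace_eq,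
      ← Polynomial.count_roots] at this
    exact this
  choose k hk using hev
  have hint : ∀ μ ∈ T.charpoly.roots.toFinset, IsIntegral ℤ μ := fun μ hμ => by
    have h2 : T.charpoly.IsRoot μ := (Polynomial.mem_roots'.1 (Multiset.mem_toFinset.1 hμ)).2
    have h3 := ((Module.End.hasEigenvalue_iff_isRoot_charpoly T μ).2 h2).pow o
    rw [hT] at h3
    obtain ⟨v, hv⟩ := h3.exists_hasEigenvector
    have h4 := hv.apply_eq_smul
    have h5 : (μ ^ o - 1) • v = 0 := by rw [sub_smul, ← h4]; simp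
    exact isIntegral_of_pow_eq_one ho (sub_eq_zero.1 ((smul_eq_zero.1 h5).resolve_right hv.2))
  set β : ℂ := ∑ μ ∈ T.charpoly.roots.toFinset, (k μ : ℂ) * μ with hβ
  have hβi : IsIntegral ℤ β :=
    IsIntegral.sum _ fun μ hμ => (isIntegral_natCast' _).mul (hint μ hμ)
  have htr : LinearMap.trace ℂ V T = 2 * β := by
    rw [Module.End.trace_eq_sum_roots_charpoly_of_splits (IsAlgClosed.splits _),
      Finset.sum_multiset_count, hβ, Finset.mul_sum]
    refine Finset.sum_congr rfl fun μ _ => ?_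
    rw [hk, nsmul_eq_mul]
    push_cast
    ring
  have h4 : ((1 : ℕ) : ℂ) / ((4 : ℕ) : ℂ) = β * conj β := by
    rw [htr, map_mul, map_ofNat] at h1
    push_cast
    linear_combination (-1 / 4 : ℂ) * h1
  have := dvd_of_isIntegral_div (a := 1) (b := 4) (by norm_num)
    (h4 ▸ hβi.mul (isIntegral_conj hβi))
  norm_num at this

section ext

variable {G : Type*} [Group G] [Finite G] {N : Subgroup G} [hN : N.Normal]
  {V : Type*} [AddCommGroup V] [Module ℂ V] [FiniteDimensional ℂ V]

theorem a3_exists_lift (h2 : IsPGroup 2 N) (ρ : Representation ℂ N V) [ρ.IsIrreducible]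
    (hinv : ∀ g : G, cj g ρ.character = ρ.character) {c : G} (hodd : Odd (orderOf c))
    (hz : ∀ y : N, ∃ u z : N, ‖ρ.character z‖ = ‖ρ.character 1‖ ∧
      (y : G) * c = u * (z * c) * (u : G)⁻¹) :
    ∃ T : (Module.End ℂ V)ˣ, (c, T) ∈ projGroup (MonoidHom.toHomUnits ρ) ∧ T ^ orderOf c = 1 ∧
      LinearMap.trace ℂ V T * conj (LinearMap.trace ℂ V T) = 1 := by
  let M := N ⊔ Subgroup.zpowers c
  have hNM : N ≤ M := le_sup_left
  let N' := N.subgroupOf M
  let e : N' ≃* N := Subgroup.subgroupOfEquivOfLe hNM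
  let ρ' : Representation ℂ N' V := ρ.comp e.toMonoidHom
  have hρ' : IsIrrCharacter N' ρ'.character :=
    IsIrrCharacter_comp_mulEquiv e (isIrrCharacter_character ρ)
  have := isIrreducible_of_isIrrCharacter ρ' hρ'
  have hinv' : ∀ g : M, cj g ρ'.character = ρ'.character := fun g => by
    funext n
    exact congrFun (hinv g) (e n)
  obtain ⟨k, hk⟩ := (IsPGroup.iff_card (p := 2)).1 h2
  have hcard : Nat.card N' = 2 ^ k := by rw [← hk]; exact Nat.card_congr e.toEquiv
  have hidx : Odd N'.index := by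
    refine Odd.of_dvd_nat hodd ?_
    rw [← Nat.card_zpowers, show N'.index = N.relIndex (Subgroup.zpowers c) from
      Subgroup.relIndex_sup_left _ _]
    exact Subgroup.relIndex_dvd_card _ _
  have hcop : N'.index.Coprime (Nat.card N') := by
    rw [hcard]
    exact Nat.Coprime.pow_right _ (Nat.coprime_two_right.2 hidx)
  have hdeg : finrank ℂ V ∣ Nat.card N' := by
    have := Fintype.ofFinite N'
    rw [← charDegree_character ρ']
    exact IsIrrCharacter_charDegree_dvd hρ'
  obtain ⟨σ, hσ⟩ := exists_rep_extension ρ' hinv' (o := Nat.card N')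
    (fun n => by rw [← map_pow, ← map_pow, pow_card_eq_one', map_one, map_one])
    (Nat.Coprime.mul_right (hcop.coprime_dvd_right hdeg) hcop)
  have hσ' : ∀ n : N, σ ⟨n, hNM n.2⟩ = ρ n := fun n => hσ ⟨⟨n, hNM n.2⟩, n.2⟩
  let c' : M := ⟨c, (le_sup_right : _ ≤ M) (Subgroup.mem_zpowers c)⟩
  refine ⟨MonoidHom.toHomUnits σ c', fun n => ?_, ?_, ?_⟩
  · apply Units.ext
    simp only [Units.val_mul, MonoidHom.coe_toHomUnits, ← hσ', ← map_mul]
    congr 1
    apply Subtype.ext
    simp [c']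
  · rw [← map_pow, show c' ^ orderOf c = 1 from Subtype.ext (pow_orderOf_eq_one c), map_one]
  · have := Fintype.ofFinite M
    have := Fintype.ofFinite N'
    have hχ := H3.isCharacter_character σ
    have hres : (fun n : N' => σ.character n) = ρ'.character := by
      funext n
      simp only [Representation.character, hσ]
    have h1 := sum_coset_norm_of_res_irr N' hχ (hres ▸ hρ') c'
    have h3 : ∀ n : N', σ.character (n * c') * conj (σ.character (n * c')) =
        σ.character c' * conj (σ.character c') := fun n => by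
      obtain ⟨u, z, h4, h5⟩ := hz (e n)
      have h6 : (n : M) * c' = ⟨u, hNM u.2⟩ * (⟨z, hNM z.2⟩ * c') * (⟨u, hNM u.2⟩ : M)⁻¹ :=
        Subtype.ext h5
      obtain ⟨ω, hω, h7⟩ := IsCharacter_mul_of_norm_eq hχ (z := ⟨z, hNM z.2⟩) (by
        simpa only [Representation.character, hσ', map_one] using h4)
      rw [h6, IsCharacter_isClassFunction hχ, h7, map_mul]
      have h8 : ω * conj ω = 1 := by rw [Complex.mul_conj', hω]; simp
      linear_combination (σ.character c' * conj (σ.character c')) * h8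
    simp only [h3, Finset.sum_const, Finset.card_univ, nsmul_eq_mul,
      Fintype.card_eq_nat_card] at h1
    exact mul_left_cancel₀ (card_ne_zero_complex N') (h1.trans (mul_one _).symm)

theorem a3_exists_rep_ext {H : Subgroup G} (hNH : ∀ g, ∃ n ∈ N, ∃ h ∈ H, g = n * h)
    (hd : N ⊓ H = ⊥) (h2 : IsPGroup 2 N) (ρ : Representation ℂ N V) [ρ.IsIrreducible]
    (hinv : ∀ g : G, cj g ρ.character = ρ.character) {c : G} (hodd : Odd (orderOf c))
    (hcc : ∀ h ∈ H, c * h = h * c)
    (hz : ∀ y : N, ∃ u z : N, ‖ρ.character z‖ = ‖ρ.character 1‖ ∧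
      (y : G) * c = u * (z * c) * (u : G)⁻¹) :
    ∃ σ : Representation ℂ G V, ∀ n : N, σ n = ρ n := by
  have := nontrivial_of_isIrreducible ρ
  obtain ⟨T, hT, hTo, htr⟩ := a3_exists_lift h2 ρ hinv hodd hz
  let R := MonoidHom.toHomUnits ρ
  let s : ℂˣ →* (Module.End ℂ V)ˣ := Units.map (algebraMap ℂ (Module.End ℂ V)).toMonoidHom
  have hs : ∀ z : ℂˣ, (s z : Module.End ℂ V) = (z : ℂ) • 1 := fun z => by
    simp [s, Algebra.algebraMap_eq_smul_one]
  have hschur : ∀ u, (∀ n, u * R n = R n * u) → ∃ z, u = s z := fun u hu => by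
    have := Fintype.ofFinite N
    obtain ⟨c, hc⟩ := exists_scalar_of_comm ρ u.1 (fun n => congrArg Units.val (hu n))
    have hc0 : c ≠ 0 := by
      rintro rfl
      exact u.ne_zero (by rw [hc, zero_smul])
    exact ⟨Units.mk0 c hc0, Units.ext (by rw [hs, hc]; rfl)⟩
  let P := projGroup R ⊓ H.prod ⊤
  have hcomm : ∀ x : P, Commute (T : Module.End ℂ V) (x.1.2 : Module.End ℂ V) := fun x => by
    have h1 : x.1 * (c, T) * x.1⁻¹ * (c, T)⁻¹ ∈ projGroup R :=
      mul_mem (mul_mem (mul_mem x.2.1 hT) (inv_mem x.2.1)) (inv_mem hT)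
    have h3 : (x.1 * (c, T) * x.1⁻¹ * (c, T)⁻¹).1 = 1 := by
      simp only [Prod.fst_mul, Prod.fst_inv]
      rw [← hcc _ x.2.2.1]
      group
    obtain ⟨z, hz⟩ := hschur (x.1 * (c, T) * x.1⁻¹ * (c, T)⁻¹).2 (fun n => by
      have := h1 n
      simpa only [h3, one_mul, inv_one, mul_one] using this)
    simp only [Prod.snd_mul, Prod.snd_inv] at hz
    have h4 : x.1.2 * T * x.1.2⁻¹ = s z * T := by rw [← hz]; group
    have h5 := congrArg (fun u : (Module.End ℂ V)ˣ => LinearMap.trace ℂ V u) h4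
    simp only [Units.val_mul, LinearMap.trace_conj, hs, smul_mul_assoc, one_mul, map_smul,
      smul_eq_mul] at h5
    have h6 : LinearMap.trace ℂ V T ≠ 0 := fun h => by simp [h] at htr
    have h7 : z = 1 := Units.ext (mul_right_cancel₀ h6 (h5.symm.trans (one_mul _).symm))
    rw [h7, map_one, one_mul, mul_inv_eq_iff_eq_mul] at h4
    exact (congrArg Units.val h4).symm
  obtain ⟨μ, hμ⟩ := a3_odd_eigenspace (T : Module.End ℂ V) (orderOf_pos c).ne'
    (by rw [← Units.val_pow_eq_pow_val, hTo, Units.val_one]) htr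
  let W := (T : Module.End ℂ V).maxGenEigenspace μ
  have hW : ∀ x : P, ∀ w ∈ W, (x.1.2 : Module.End ℂ V) w ∈ W := fun x =>
    Module.End.mapsTo_maxGenEigenspace_of_comm (hcomm x) μ
  let res : P →* Module.End ℂ W :=
    { toFun := fun x => (x.1.2 : Module.End ℂ V).restrict (hW x)
      map_one' := by ext w; rfl
      map_mul' := fun x y => by ext w; rfl }
  let D₁ : P →* ℂˣ := MonoidHom.toHomUnits (LinearMap.det.comp res)
  let D₂ : P →* ℂˣ := (Units.map LinearMap.det).comp ((MonoidHom.snd _ _).comp P.subtype)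
  have hdeg : finrank ℂ V ∣ Nat.card N := by
    have := Fintype.ofFinite N
    rw [← charDegree_character ρ]
    exact IsIrrCharacter_charDegree_dvd (isIrrCharacter_character ρ)
  obtain ⟨k, hk⟩ := (IsPGroup.iff_card (p := 2)).1 h2
  have hcop : (finrank ℂ W).Coprime (finrank ℂ V) :=
    (Nat.Coprime.pow_right k (Nat.coprime_two_right.2 hμ)).coprime_dvd_right (hk ▸ hdeg)
  obtain ⟨a, b, hab⟩ := Nat.isCoprime_iff_coprime.mpr hcop
  obtain ⟨f, hf⟩ := a3_hom_of_retraction (H := H) R (s := s)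
    (fun z u => Units.ext (Algebra.commutes _ _)) (fun g => exists_mem_projGroup ρ (hinv g)) hschur
    ((zpowGroupHom a).comp D₁ * (zpowGroupHom b).comp D₂) (fun z h => by
      have h1 : D₁ ⟨_, h⟩ = z ^ finrank ℂ W := by
        apply Units.ext
        have : res ⟨_, h⟩ = (z : ℂ) • 1 := by
          ext w
          change (s z : Module.End ℂ V) w = _
          rw [hs]
          rfl
        simp [D₁, this]
      have h3 : D₂ ⟨_, h⟩ = z ^ finrank ℂ V := by
        apply Units.ext
        change LinearMap.det (s z : Module.End ℂ V) = _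
        simp [hs]
      simp only [MonoidHom.mul_apply, MonoidHom.comp_apply, zpowGroupHom_apply]
      rw [h1, h3, ← zpow_natCast, ← zpow_natCast, ← zpow_mul, ← zpow_mul, ← zpow_add,
        mul_comm _ a, mul_comm _ b, hab, zpow_one])
  obtain ⟨R', hR'⟩ := a3_ext_of_compl hNH hd R f hf
  exact ⟨(Units.coeHom _).comp R', fun n => by simp [hR', R]⟩

end ext

end Cfsg.Agent.FS
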