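import Cfsg.Agent.Lib.FS.A2
import Cfsg.Agent.Lib.FS.A3a

/-!
# The Clifford step (notes/FS.md, part A3)
-/

set_option autoImplicit false

open scoped ComplexConjugate
open Module Cfsg

namespace Cfsg.Agent.FS

variable {G : Type*} [Group G]

/-- Extension of an invariant character of a `2`-group `N` to `G = N H`, given a central odd order
element of `H` all of whose `N`-translates are conjugate to translates by elements of `Z(ν)`. -/
theorem exists_ext [Finite G] {N H : Subgroup G} [N.Normal] (hNH : ∀ g, ∃ n ∈ N, ∃ h ∈ H, g = n * h)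
    (hd : N ⊓ H = ⊥) (hN : IsPGroup 2 N) {ν : N → ℂ} (hν : IsIrrCharacter N ν)
    (hinv : ∀ g : G, H4.cj g ν = ν) {c : G} (hc : c ∈ H) (hodd : Odd (orderOf c))
    (hcc : ∀ h ∈ H, c * h = h * c)
    (hz : ∀ y : N, ∃ u z : N, ‖ν z‖ = ‖ν 1‖ ∧ (y : G) * c = u * (z * c) * (u : G)⁻¹) :
    ∃ χ : G → ℂ, IsCharacter G χ ∧ ∀ n : N, χ n = ν n := by
  obtain ⟨d, ρ, hρ, rfl⟩ := hν
  obtain ⟨σ, hσ⟩ := a3_exists_rep_ext hNH hd hN ρ hinv hodd hcc hz
  exact ⟨σ.character, H3.isCharacter_character σ, fun n => by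
    simp only [Representation.character, hσ]⟩

/-- extension of an invariant linear character over a complement -/
theorem exists_ext_lin [Finite G] {N H : Subgroup G} [N.Normal]
    (hNH : ∀ g, ∃ n ∈ N, ∃ h ∈ H, g = n * h) (hd : N ⊓ H = ⊥) {ν : N → ℂ}
    (hν : IsIrrCharacter N ν) (h1 : ν 1 = 1) (hinv : ∀ g : G, H4.cj g ν = ν) :
    ∃ χ : G → ℂ, IsCharacter G χ ∧ ∀ n : N, χ n = ν n := by
  obtain ⟨lam, rfl⟩ := H3.IsCharacter_exists_linear (H3.IsIrrCharacter_isCharacter hν) h1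
  obtain ⟨R, hR⟩ := a3_ext_of_compl hNH hd lam 1 (fun h n => by
    have := congrFun (hinv h) n
    simp only [H4.cj_apply] at this
    simp only [MonoidHom.one_apply, one_mul, mul_one]
    exact Units.ext this.symm)
  exact ⟨fun g => R g, H3.IsIrrCharacter_isCharacter (H3.isIrrCharacter_linear R),
    fun n => by simp only [hR]⟩

/-- the invariant case of the Clifford step (Gallagher and counting) -/
theorem clifford_inv [Finite G] {α : G →* G} (hα : ∀ g, α (α g) = g) {N H : Subgroup G} [N.Normal]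
    [Fintype N] (hNH : ∀ g, ∃ n ∈ N, ∃ h ∈ H, g = n * h) (hd : N ⊓ H = ⊥) (hαN : ∀ n ∈ N, α n ∈ N)
    (hH : GoodOn α H) {ν : N → ℂ} (hν : IsIrrCharacter N ν) {χ : G → ℂ} (hχ : IsCharacter G χ)
    (hext : ∀ n : N, χ n = ν n)
    (hpos : ∀ k ∈ H, k * α k = 1 → 0 < (∑ y : N, χ (y * (k * α y * k⁻¹))).re)
    {ψ : G → ℂ} (hψ : IsIrrCharacter G ψ) (h0 : classInner (fun n : N => ψ n) ν ≠ 0) :
    eps α ψ = 1 := by
  classical
  have := Fintype.ofFinite G
  have := Fintype.ofFinite H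
  obtain ⟨π, hπ, rfl⟩ := a3_exists_proj hNH hd
  obtain ⟨β, hβ, hββ, hgood⟩ := hH
  have hsurj : Function.Surjective π := fun h => ⟨h, hπ h⟩
  obtain rfl : (fun n : π.ker => χ n) = ν := funext hext
  obtain ⟨θ, rfl⟩ := H4.exists_gallagher π hsurj hχ hν hψ h0
  have hm : ∀ g : G, g * (π g : G)⁻¹ ∈ π.ker := fun g => by
    rw [MonoidHom.mem_ker, map_mul, map_inv, hπ, mul_inv_cancel]
  have hk : ∀ y : π.ker, π y = 1 := fun y => y.2
  let e : π.ker × H ≃ G :=
    { toFun := fun p => p.1 * p.2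
      invFun := fun g => (⟨_, hm g⟩, π g)
      left_inv := fun p => by ext <;> simp [hk, hπ]
      right_inv := fun g => by simp }
  have hcard : (Nat.card G : ℂ) = Nat.card π.ker * Nat.card H := by
    rw [← Nat.card_congr e, Nat.card_prod, Nat.cast_mul]
  have hN := H3.card_ne_zero_complex π.ker
  have hH := H3.card_ne_zero_complex H
  have hin : ∀ k : H, k * β k = 1 → ∑ y : π.ker, χ (y * k * α (y * k)) = Nat.card π.ker := by
    intro k hk1
    have hk2 : (k : G) * α k = 1 := by rw [← hβ, ← Subgroup.coe_mul, hk1]; rfl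
    have hk3 : α k = (k : G)⁻¹ := eq_inv_of_mul_eq_one_right hk2
    let γ : π.ker →* π.ker := ((tw α k).comp π.ker.subtype).codRestrict π.ker fun y =>
      (inferInstance : π.ker.Normal).conj_mem _ (hαN _ y.2) _
    have h1 : eps γ (fun n : π.ker => χ n) =
        (Nat.card π.ker : ℂ)⁻¹ * ∑ y : π.ker, χ (y * (k * α y * (k : G)⁻¹)) := eps_eq _ _
    have h2 : ∑ y : π.ker, χ (y * (k * α y * (k : G)⁻¹)) =
        Nat.card π.ker * eps γ (fun n : π.ker => χ n) := by
      rw [h1, mul_inv_cancel_left₀ hN]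
    have h3 := hpos k k.2 hk2
    have h4 : eps γ (fun n : π.ker => χ n) = 1 := by
      rcases eps_cases (α := γ) (fun y => Subtype.ext (tw_invol hα hk2 y)) hν with h | h | h
      · simp [h2, h] at h3
      · exact h
      · simp only [h2, h, mul_neg, mul_one, Complex.neg_re, Complex.natCast_re] at h3
        have : (0 : ℝ) ≤ Nat.card π.ker := Nat.cast_nonneg _
        linarith
    rw [h4, mul_one] at h2
    rw [← h2]
    refine Finset.sum_congr rfl fun y _ => ?_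
    rw [map_mul, hk3]
    simp only [mul_assoc]
  have hsum : ∑ φ : IrrCharacter H, (φ : H → ℂ) 1 * eps α (fun g => (φ : H → ℂ) (π g) * χ g) =
      ∑ φ : IrrCharacter H, (φ : H → ℂ) 1 * eps β φ := by
    rw [sum_deg_eps hββ]
    calc _ = (Nat.card G : ℂ)⁻¹ * ∑ g, (∑ φ : IrrCharacter H, (φ : H → ℂ) 1 *
          (φ : H → ℂ) (π (g * α g))) * χ (g * α g) := by
          simp only [eps_eq, Finset.mul_sum, Finset.sum_mul]
          rw [Finset.sum_comm]
          refine Finset.sum_congr rfl fun _ _ => Finset.sum_congr rfl fun _ _ => by ring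
      _ = (Nat.card G : ℂ)⁻¹ * ∑ k : H, if k * β k = 1 then
          (Nat.card π.ker * Nat.card H : ℂ) else 0 := by
          rw [← e.sum_comp, Fintype.sum_prod_type_right]
          congr 1
          refine Finset.sum_congr rfl fun k _ => ?_
          have h1 : ∀ y : π.ker, π (e (y, k) * α (e (y, k))) = k * β k := fun y => by
            change π (y * k * α (y * k)) = _
            rw [map_mul α, ← hβ, map_mul, map_mul, map_mul, hk, hπ, hπ,
              MonoidHom.mem_ker.1 (hαN _ y.2), one_mul, one_mul]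
          simp only [h1, H3.sum_degree_mul_irr]
          split_ifs with h
          · rw [← Finset.mul_sum, mul_comm]
            congr 1
            exact hin k h
          · simp
      _ = _ := by
          rw [← Finset.sum_filter, Finset.sum_const, nsmul_eq_mul, hcard, Nat.card_eq_fintype_card
            (α := {g : H // g * β g = 1}), Fintype.card_subtype]
          field_simp
  have hnn : ∀ φ : IrrCharacter H, φ ∈ Finset.univ → 0 ≤ ((φ : H → ℂ) 1 *
      (1 - eps α (fun g => (φ : H → ℂ) (π g) * χ g))).re := fun φ _ => by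
    obtain ⟨n, -, hn⟩ := H3.IsIrrCharacter_apply_one φ.2
    rcases eps_cases hα (H4.isIrr_gallagher π hsurj hχ hν φ.2) with h | h | h <;> simp [h, hn]
  have h5 : ∑ φ : IrrCharacter H, ((φ : H → ℂ) 1 *
      (1 - eps α (fun g => (φ : H → ℂ) (π g) * χ g))).re = 0 := by
    rw [← Complex.re_sum]
    simp only [mul_sub, Finset.sum_sub_distrib, hsum]
    rw [Finset.sum_congr rfl fun (φ : IrrCharacter H) _ => show (φ : H → ℂ) 1 * eps β φ = (φ : H → ℂ) 1 * 1 by
      rw [hgood _ φ.2], sub_self, Complex.zero_re]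
  have h6 := (Finset.sum_eq_zero_iff_of_nonneg hnn).1 h5 θ (Finset.mem_univ _)
  obtain ⟨n, hn0, hn⟩ := H3.IsIrrCharacter_apply_one θ.2
  rcases eps_cases hα hψ with h | h | h
  · simp [h, hn, hn0.ne'] at h6
  · exact h
  · simp [h, hn, hn0.ne'] at h6

/-- the invariant case inside an ambient group -/
theorem a3_step [Finite G] {γ : G →* G} {I N S : Subgroup G} [Fintype N] (hNI : N ≤ I)
    (hSI : S ≤ I) (hn : ∀ g ∈ I, ∀ n ∈ N, g * n * g⁻¹ ∈ N)
    (hNS : ∀ g ∈ I, ∃ n ∈ N, ∃ s ∈ S, g = n * s) (hd : N ⊓ S = ⊥) (γ' : I →* I)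
    (hγ' : ∀ t, (γ' t : G) = γ t) (hγγ : ∀ t, γ' (γ' t) = t) (hγN : ∀ n ∈ N, γ n ∈ N)
    (hS : GoodOn γ S) {ν : N → ℂ} (hν : IsIrrCharacter N ν)
    (hinv : ∀ g ∈ I, ∀ n n' : N, (n' : G) = g * n * g⁻¹ → ν n' = ν n)
    (hr : ∀ n n' : N, (n' : G) = γ n → ν n' = conj (ν n))
    (halt : ν 1 = 1 ∨ (IsPGroup 2 N ∧
        (∃ c ∈ S, Odd (orderOf c) ∧ (∀ s ∈ S, c * s = s * c) ∧
          ∀ y : N, ∃ u z : N, ‖ν z‖ = ‖ν 1‖ ∧ (y : G) * c = u * (z * c) * (u : G)⁻¹) ∧
        ∀ k ∈ S, k * γ k = 1 →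
          0 < (∑ᶠ y : N, extendByZero N ν (y * (k * γ y * k⁻¹))).re))
    {ψ : I → ℂ} (hψ : IsIrrCharacter I ψ)
    (h0 : classInner (fun n : N => ψ (Subgroup.inclusion hNI n)) ν ≠ 0) : eps γ' ψ = 1 := by
  let N' := N.subgroupOf I
  let S' := S.subgroupOf I
  have : N'.Normal := ⟨fun n h g => hn g g.2 n h⟩
  have := Fintype.ofFinite N'
  let e : N' ≃* N := Subgroup.subgroupOfEquivOfLe hNI
  have hν' : IsIrrCharacter N' (fun n => ν (e n)) := H3.IsIrrCharacter_comp_mulEquiv e hν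
  have hNS' : ∀ g : I, ∃ n ∈ N', ∃ s ∈ S', g = n * s := fun g => by
    obtain ⟨n, h1, s, h2, h3⟩ := hNS g g.2
    exact ⟨⟨n, hNI h1⟩, h1, ⟨s, hSI h2⟩, h2, Subtype.ext h3⟩
  have hd' : N' ⊓ S' = ⊥ := by
    rw [eq_bot_iff]
    intro g hg
    have h1 : (g : G) ∈ N ⊓ S := hg
    rw [hd, Subgroup.mem_bot] at h1
    exact Subgroup.mem_bot.2 (Subtype.ext h1)
  have hinv' : ∀ g : I, H4.cj g (fun n : N' => ν (e n)) = fun n => ν (e n) := fun g => by
    funext n
    exact hinv g g.2 _ _ rfl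
  have hS' : GoodOn γ' S' := GoodOn.of_map (β := γ) I.subtype I.subtype_injective
    (fun s _ => (hγ' s).symm) (by rwa [Subgroup.map_subgroupOf_eq_of_le hSI])
  have hm : ∀ k : I, ∀ y : N, (k : G) * γ y * (k : G)⁻¹ ∈ N := fun k y =>
    hn k k.2 _ (hγN y y.2)
  have hext : ∃ χ : I → ℂ, IsCharacter I χ ∧ ∀ n : N', χ n = ν (e n) := by
    rcases halt with h1 | ⟨h2, ⟨c, hc, hodd, hcc, hz⟩, -⟩
    · exact exists_ext_lin hNS' hd' hν' (by rw [map_one, h1]) hinv'
    · refine exists_ext hNS' hd' (h2.of_equiv e.symm) hν' hinv' (c := ⟨c, hSI hc⟩) hc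
        (by rwa [← Subgroup.orderOf_coe]) (fun h hh => Subtype.ext (hcc h hh)) fun y => ?_
      obtain ⟨u, z, h3, h4⟩ := hz (e y)
      exact ⟨e.symm u, e.symm z, by simpa using h3, Subtype.ext h4⟩
  obtain ⟨χ, hχ, hext⟩ := hext
  refine clifford_inv hγγ hNS' hd' (fun n h => by
    change (γ' n : G) ∈ N
    rw [hγ']
    exact hγN n h) hS' hν' hχ hext (fun k hk hk1 => ?_) hψ ?_
  · have hk2 : (k : G) * γ k = 1 := by rw [← hγ', ← Subgroup.coe_mul, hk1]; rfl
    have h1 : ∑ y : N', χ (y * (k * γ' y * k⁻¹)) = ∑ y : N, ν (y * ⟨_, hm k y⟩) := by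
      rw [← e.toEquiv.sum_comp]
      refine Finset.sum_congr rfl fun y _ => ?_
      have h2 := hext (e.symm (e y * ⟨_, hm k (e y)⟩))
      rw [e.apply_symm_apply] at h2
      refine Eq.trans ?_ h2
      congr 1
      apply Subtype.ext
      simp only [Subgroup.coe_mul, hγ', InvMemClass.coe_inv]
      rfl
    rw [h1]
    rcases halt with h1 | ⟨-, -, hpos⟩
    · obtain ⟨lam, rfl⟩ := H3.IsCharacter_exists_linear (H3.IsIrrCharacter_isCharacter hν) h1
      have h3 : ∀ y : N, ((lam (y * ⟨_, hm k y⟩) : ℂˣ) : ℂ) = 1 := fun y => by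
        have h4 := hinv k k.2 ⟨_, hγN y y.2⟩ ⟨_, hm k y⟩ rfl
        have h5 := hr y ⟨_, hγN y y.2⟩ rfl
        have h6 := H3.IsCharacter_apply_inv (H3.IsIrrCharacter_isCharacter hν) y
        simp only at h4 h5 h6
        rw [map_mul, Units.val_mul, h4, h5, ← h6, ← Units.val_mul, ← map_mul, mul_inv_cancel,
          map_one, Units.val_one]
      simp only [h3, Finset.sum_const, Finset.card_univ, nsmul_eq_mul, mul_one,
        Complex.natCast_re]
      exact_mod_cast Fintype.card_pos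
    · have h3 := hpos k hk hk2
      rw [finsum_eq_sum_of_fintype] at h3
      convert h3 using 3 with y
      exact (H4.extendByZero_coe N ν (y * ⟨_, hm k y⟩)).symm
  · rw [← H3.classInner_comp_mulEquiv e] at h0
    exact h0

/-- The Clifford step for `T = N ⋊ H` inside an ambient group. `S` is the stabilizer of `ν` in
`H`. -/
theorem clifford_on [Finite G] {α : G →* G} {T N H : Subgroup G} (hα : Inv α T) (hNT : N ≤ T)
    (hHT : H ≤ T) (hn : ∀ g ∈ T, ∀ n ∈ N, g * n * g⁻¹ ∈ N)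
    (hNH : ∀ g ∈ T, ∃ n ∈ N, ∃ h ∈ H, g = n * h) (hd : N ⊓ H = ⊥)
    (hαN : ∀ n ∈ N, α n ∈ N)
    (h : ∀ ν : N → ℂ, IsIrrCharacter N ν → ∃ x ∈ H, x * α x = 1 ∧ ∃ S : Subgroup G,
      (∀ s, s ∈ S ↔ s ∈ H ∧ ∀ n n' : N, (n' : G) = s * n * s⁻¹ → ν n' = ν n) ∧
      GoodOn (tw α x) S ∧ (∀ n n' : N, (n' : G) = tw α x n → ν n' = conj (ν n)) ∧
      (ν 1 = 1 ∨ (IsPGroup 2 N ∧
        (∃ c ∈ S, Odd (orderOf c) ∧ (∀ s ∈ S, c * s = s * c) ∧
          ∀ y : N, ∃ u z : N, ‖ν z‖ = ‖ν 1‖ ∧ (y : G) * c = u * (z * c) * (u : G)⁻¹) ∧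
        ∀ k ∈ S, k * tw α x k = 1 →
          0 < (∑ᶠ y : N, extendByZero N ν (y * (k * tw α x y * k⁻¹))).re))) :
    GoodOn α T := by
  classical
  have := Fintype.ofFinite T
  have := Fintype.ofFinite N
  let α' : T →* T := (α.comp T.subtype).codRestrict T fun g => hα.1 g g.2
  have hα' : ∀ g, α' (α' g) = g := fun g => Subtype.ext (hα.2 g g.2)
  refine ⟨α', fun _ => rfl, hα', fun ψ hψ => ?_⟩
  let N' := N.subgroupOf T
  have : N'.Normal := ⟨fun n h g => hn g g.2 n h⟩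
  have := Fintype.ofFinite N'
  let e : N' ≃* N := Subgroup.subgroupOfEquivOfLe hNT
  obtain ⟨ν', h0⟩ := H3.IsClassFunction_exists_irr
    (H3.IsClassFunction_restrict N' (H3.IsIrrCharacter_isClassFunction hψ))
    (fun h => H3.IsIrrCharacter_apply_one_ne_zero hψ (congrFun h 1))
  let ν : N → ℂ := fun n => (ν' : N' → ℂ) (e.symm n)
  have hν : IsIrrCharacter N ν := H3.IsIrrCharacter_comp_mulEquiv e.symm ν'.2
  obtain ⟨x, hx, hx1, S, hS, hgood, hr, halt⟩ := h ν hν
  let I : Subgroup G := (H4.inertia (ν' : N' → ℂ)).map T.subtype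
  have hIT : I ≤ T := Subgroup.map_subtype_le _
  have hI' : I.subgroupOf T = H4.inertia (ν' : N' → ℂ) :=
    Subgroup.comap_map_eq_self_of_injective T.subtype_injective _
  have hI : ∀ g (hg : g ∈ T), g ∈ I ↔ ∀ n n' : N, (n' : G) = g * n * g⁻¹ → ν n' = ν n := by
    intro g hg
    rw [show g ∈ I ↔ (⟨g, hg⟩ : T) ∈ I.subgroupOf T from Iff.rfl, hI', H4.mem_inertia_iff]
    exact ⟨fun h n n' hh => h (e.symm n) (e.symm n') (Subtype.ext hh),
      fun h n n' hh => h (e n) (e n') (congrArg Subtype.val hh)⟩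
  have hN'I : N' ≤ I.subgroupOf T := by
    rw [hI']
    exact H4.le_inertia (H3.IsIrrCharacter_isClassFunction ν'.2)
  have hNI : N ≤ I := fun n hn => hN'I (show (⟨n, hNT hn⟩ : T) ∈ N' from hn)
  have hSI : S ≤ I := fun s hs => (hI s (hHT ((hS s).1 hs).1)).2 ((hS s).1 hs).2
  have hNS : ∀ g ∈ I, ∃ n ∈ N, ∃ s ∈ S, g = n * s := fun g hg => by
    obtain ⟨n, h1, k, h2, rfl⟩ := hNH g (hIT hg)
    exact ⟨n, h1, k, (hS k).2 ⟨h2, (hI k (hHT h2)).1 ((mul_mem_cancel_left (hNI h1)).1 hg)⟩, rfl⟩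
  have hγN : ∀ n ∈ N, tw α x n ∈ N := fun n h => hn x (hHT hx) _ (hαN n h)
  have hγI : ∀ g ∈ I, tw α x g ∈ I := fun g hg => by
    obtain ⟨n, h1, s, h2, rfl⟩ := hNS g hg
    rw [map_mul]
    exact mul_mem (hNI (hγN n h1)) (hSI (hgood.inv.1 s h2))
  let x' : T := ⟨x, hHT hx⟩
  have hx' : x' * α' x' = 1 := Subtype.ext hx1
  have hγT := tw_invol hα' hx'
  let γ' : I →* I := ((tw α x).comp I.subtype).codRestrict I fun g => hγI g g.2
  have hγγ : ∀ t, γ' (γ' t) = t := fun t =>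
    Subtype.ext (congrArg (Subtype.val : T → G) (hγT ⟨t, hIT t.2⟩))
  obtain ⟨φ', hφ', h1, hind⟩ := H4.exists_clifford_correspondent ν'.2 hN'I hI' hψ h0
  let f : I.subgroupOf T ≃* I := Subgroup.subgroupOfEquivOfLe hIT
  let φ : I → ℂ := fun t => φ' (f.symm t)
  have hφ : IsIrrCharacter I φ := H3.IsIrrCharacter_comp_mulEquiv f.symm hφ'
  have h2 : eps γ' φ = 1 := by
    refine a3_step hNI hSI (fun g hg => hn g (hIT hg)) hNS
      (eq_bot_iff.2 (hd ▸ inf_le_inf_left N fun s hs => ((hS s).1 hs).1)) γ' (fun _ => rfl) hγγ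
      hγN hgood hν (fun g hg => (hI g (hIT hg)).1 hg) hr halt hφ ?_
    rw [← H3.classInner_comp_mulEquiv e]
    exact h1
  have h3 := (eps_ne_zero_iff hγγ hφ).1 (by rw [h2]; exact one_ne_zero)
  have h4 : ∀ t : T, extendByZero (I.subgroupOf T) φ' (tw α' x' t) =
      conj (extendByZero (I.subgroupOf T) φ' t) := fun t => by
    by_cases ht : t ∈ I.subgroupOf T
    · rw [H4.extendByZero_of_mem _ _ ht, H4.extendByZero_of_mem _ _
        (show tw α' x' t ∈ I.subgroupOf T from hγI t ht)]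
      exact h3 ⟨t, ht⟩
    · rw [H4.extendByZero_of_notMem _ _ ht, map_zero, H4.extendByZero_of_notMem]
      intro h5
      exact ht (hγT t ▸ (hγI _ h5 : tw α' x' (tw α' x' t) ∈ I.subgroupOf T))
  have h5 : ∀ g, ψ (tw α' x' g) = conj (ψ g) := fun g => by
    rw [← hind, H4.indFun_apply, H4.indFun_apply, map_mul, map_sum, map_inv₀, map_natCast,
      ← Equiv.sum_comp (Function.Involutive.toPerm _ hγT)]
    congr 1
    refine Finset.sum_congr rfl fun y _ => ?_
    rw [← h4, map_mul, map_mul, map_inv]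
    rfl
  have := Fintype.ofFinite I
  have := Fintype.ofFinite (I.subgroupOf T)
  rw [← eps_tw α' hx']
  refine eps_eq_one_of_odd hγT hψ h5 (Subgroup.inclusion hIT) γ' hγγ (fun _ => rfl) hφ h2
    odd_one ?_
  rw [← H3.classInner_comp_mulEquiv f, Nat.cast_one, ← H3.IsIrrCharacter_classInner_self hψ]
  conv_rhs => rw [← hind]
  rw [H4.frobenius_reciprocity' _ _ (H4.indFun_isClassFunction _ _), hind]
  rfl

end Cfsg.Agent.FS
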