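import Cfsg.Agent.Lib.FS.B3

/-!
# The general linear group with inverse transpose (notes/FS.md, part B)
-/

set_option autoImplicit false

open Module Cfsg Matrix

namespace Cfsg.Agent.FS

variable {K : Type*} [Field K] {n : ℕ}

/-- the projection onto the first `m` coordinates -/
def eM (K : Type*) [Field K] (n m : ℕ) : Matrix (Fin n) (Fin n) K :=
  diagonal fun i => if i.val < m then 1 else 0

theorem one_sub_eM (m : ℕ) :
    1 - eM K n m = diagonal fun i : Fin n => if i.val < m then (0 : K) else 1 := by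
  rw [eM, ← diagonal_one, diagonal_sub]
  congr 1
  ext i
  split_ifs <;> simp

theorem eM_mul (m : ℕ) : eM K n m * eM K n m = eM K n m := by
  rw [eM, diagonal_mul_diagonal]
  congr 1
  ext i
  split_ifs <;> simp

theorem invT_NG {e f : Matrix (Fin n) (Fin n) K} (hfe : f * e = 0) (he : e * e = e)
    (hf : f * f = f) (he' : eᵀ = e) (hf' : fᵀ = f) (g : GL (Fin n) K) (hg : g ∈ NG e f) :
    invT n K g ∈ NG f e := by
  have h : e * (((g⁻¹ : GL (Fin n) K) : Matrix (Fin n) (Fin n) K) - 1) * f = _ :=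
    (NGs hfe he hf).inv_mem hg
  have h2 := congrArg transpose h
  rw [transpose_mul, transpose_mul, he', hf', transpose_sub, transpose_one, ← mul_assoc] at h2
  exact h2

theorem mem_NG_eM {m : ℕ} {g : GL (Fin n) K} (hg : g ∈ NG (eM K n m) (1 - eM K n m)) :
    Pat (fun i j => i.val < m ∧ m ≤ j.val) ((g : Matrix (Fin n) (Fin n) K) - 1) := by
  intro i j hij
  have h : eM K n m * ((g : Matrix (Fin n) (Fin n) K) - 1) * (1 - eM K n m) = _ := hg
  rw [← h, one_sub_eM, eM, mul_diagonal, diagonal_mul]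
  split_ifs <;> first | omega | simp

variable [Finite K]

/-- the Levi subgroups are good -/
theorem levi_good [CharP K 2] (hK : ∃ k : K, k ≠ 0 ∧ k ≠ 1)
    (H : ∀ c : GL (Fin n) K, Odd (orderOf c) → c ∉ Subgroup.center (GL (Fin n) K) →
      ∃ x, x * invT n K x = 1 ∧ tw (invT n K) x c = c⁻¹ ∧
        GoodOn (tw (invT n K) x) (Subgroup.centralizer {c})) {m : ℕ} (h0 : 0 < m) (hm : m < n) :
    ∃ L : Subgroup (GL (Fin n) K), GoodOn (invT n K) L ∧
      ∀ l, l ∈ L ↔ (l : Matrix (Fin n) (Fin n) K) * eM K n m = eM K n m * l := by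
  obtain ⟨k, hk0, hk1⟩ := hK
  let dv : K → Fin n → K := fun k i => if i.val < m then k else 1
  have hdv : ∀ k k', k * k' = 1 → diagonal (dv k) * diagonal (dv k') = 1 := fun k k' h => by
    rw [diagonal_mul_diagonal, ← diagonal_one]
    congr 1
    ext i
    simp only [dv]
    split_ifs <;> simp [h]
  let c : GL (Fin n) K := ⟨diagonal (dv k), diagonal (dv k⁻¹), hdv _ _ (mul_inv_cancel₀ hk0),
    hdv _ _ (inv_mul_cancel₀ hk0)⟩
  have hc : (c : Matrix (Fin n) (Fin n) K) = 1 + (k - 1) • eM K n m := by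
    show diagonal (dv k) = _
    rw [eM, ← diagonal_smul, ← diagonal_one, diagonal_add]
    congr 1
    ext i
    simp only [dv, Pi.smul_apply]
    split_ifs <;> simp
  have hodd : Odd (orderOf c) := by
    haveI := Fintype.ofFinite K
    have h1 : c ^ (Fintype.card K - 1) = 1 := by
      apply Units.ext
      rw [Units.val_pow_eq_pow_val]
      show diagonal (dv k) ^ _ = 1
      rw [diagonal_pow, ← diagonal_one]
      congr 1
      ext i
      simp only [dv, Pi.pow_apply]
      split_ifs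
      · exact FiniteField.pow_card_sub_one_eq_one k hk0
      · exact one_pow _
    refine Odd.of_dvd_nat ?_ (orderOf_dvd_of_pow_eq_one h1)
    have h2 := even_card (V := K) K
    rw [Nat.card_eq_fintype_card] at h2
    exact Nat.Even.sub_odd Fintype.card_pos h2 odd_one
  have hnc : c ∉ Subgroup.center (GL (Fin n) K) := by
    intro h
    obtain ⟨a, ha⟩ := GeneralLinearGroup.mem_center_iff_val_mem_range_scalar.1 h
    have h1 : ∀ i, a = dv k i := fun i => by
      have := congrFun (congrFun ha i) i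
      simpa [c] using this
    have h2 := (h1 ⟨0, by omega⟩).symm.trans (h1 ⟨m, hm⟩)
    simp [dv, h0, hk1] at h2
  obtain ⟨x, hx, hxc, hg⟩ := H c hodd hnc
  have hcc : invT n K c = c⁻¹ := Units.ext (diagonal_transpose _)
  refine ⟨_, hg.untw (Subgroup.mem_centralizer_singleton_iff.2 ?_) hx, fun l => ?_⟩
  · rw [tw_apply, hcc, mul_inv_eq_iff_eq_mul] at hxc
    exact (Commute.inv_right_iff.1 (show Commute x c⁻¹ from hxc)).eq
  · rw [Subgroup.mem_centralizer_singleton_iff, Units.ext_iff, Units.val_mul, Units.val_mul, hc,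
      mul_add, add_mul, mul_one, one_mul, add_right_inj, mul_smul_comm, smul_mul_assoc,
      smul_right_inj (sub_ne_zero.2 hk1)]

section chain

variable {φ : K → ℂ} (hφ : ∀ a b, φ (a + b) = φ a * φ b) (h0 : φ 0 = 1) (h1 : ∃ a, φ a ≠ 1)
  {W : Type*} [AddCommGroup W] [Module ℂ W] [FiniteDimensional ℂ W]
  {ρ : Representation ℂ (GL (Fin n) K) W} {B : LinearMap.BilinForm ℂ W}
  (hB : SForm (invT n K) ρ B)

include h0 hB in
theorem evOver_jacquet {m : ℕ} {L : Subgroup (GL (Fin n) K)} (hg : GoodOn (invT n K) L)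
    (hL : ∀ l, l ∈ L ↔ (l : Matrix (Fin n) (Fin n) K) * eM K n m = eM K n m * l) :
    EvOver ρ.character (Gm K n m) (Rm K n m) (psi φ m) := by
  intro _ θ hθ ho
  have he := eM_mul (K := K) (n := n) m
  have hf : (1 - eM K n m) * (1 - eM K n m) = 1 - eM K n m := by
    rw [sub_mul, mul_sub, mul_sub, he]; simp
  have hfe : (1 - eM K n m) * eM K n m = 0 := by rw [sub_mul, he]; simp
  have hef : eM K n m * (1 - eM K n m) = 0 := by rw [mul_sub, he]; simp
  have he' : (eM K n m)ᵀ = eM K n m := diagonal_transpose _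
  have hf' : (1 - eM K n m)ᵀ = 1 - eM K n m := by rw [transpose_sub, he', transpose_one]
  refine jacquet matrix_regular he (add_sub_cancel _ _) (invT_invT n K)
    (invT_NG hfe he hf he' hf') (invT_NG hef hf he hf' he') hL hg hB (fun d hd => ?_)
    (fun g hg => (mem_NG_eM hg).mono fun i j h => Or.inl h.1)
    (H3.IsIrrCharacter_isCharacter hθ) fun g hg => ?_
  · ext i j
    rw [one_sub_eM, eM, mul_diagonal, diagonal_mul]
    split_ifs with h2 h3 h3
    · simp
    · simp
    · rw [(mem_Gm.1 hd).unit i j (by simp only [Fin.ext_iff]; omega)]; simp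
    · simp
  · rw [ho g ((mem_NG_eM hg).mono fun i j h => by omega), psi,
      sm_eq_zero (mem_NG_eM hg) fun i j h _ => by omega, h0, mul_one]

omit [Finite K] in
theorem sm_rev (x : Matrix (Fin n) (Fin n) K) :
    sm 0 (xᵀ.submatrix Fin.rev Fin.rev) = sm 0 x := by
  rw [sm, sm, Finset.sum_comm]
  refine Fintype.sum_equiv Fin.revPerm _ _ fun i => Fintype.sum_equiv Fin.revPerm _ _ fun j => ?_
  refine if_congr ?_ rfl rfl
  simp only [Fin.revPerm_apply, Fin.val_rev]
  omega

include hφ h0 hB in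
theorem evOver_zero : EvOver ρ.character (Gm K n 0) (Rm K n 0) (psi φ 0) := by
  intro _ θ hθ ho
  let w : Matrix (Fin n) (Fin n) K := (1 : Matrix (Fin n) (Fin n) K).submatrix Fin.revPerm id
  have hw : ∀ x : Matrix (Fin n) (Fin n) K, w * x * w = x.submatrix Fin.rev Fin.rev := by
    intro x
    ext i j
    simp [w, mul_apply, one_apply, Fin.rev_eq_iff (i := _) (j := j)]
  have hww : w * w = 1 := by
    have := hw 1
    rw [mul_one] at this
    rw [this]
    exact submatrix_one _ Fin.rev_injective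
  have hwt : wᵀ = w := by
    ext i j
    simp [w, one_apply, Fin.rev_eq_iff (i := j), eq_comm]
  let w₀ : GL (Fin n) K := ⟨w, w, hww, hww⟩
  have hx : w₀ * invT n K w₀ = 1 := Units.ext (by
    show w * wᵀ = 1
    rw [hwt, hww])
  have hval : ∀ g : GL (Fin n) K, (tw (invT n K) w₀ g : Matrix (Fin n) (Fin n) K) - 1 =
      (((g⁻¹ : GL (Fin n) K) : Matrix (Fin n) (Fin n) K) - 1)ᵀ.submatrix Fin.rev Fin.rev := by
    intro g
    rw [tw_apply, conj_sub_one, ← hw, transpose_sub, transpose_one]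
    rfl
  have hGR : ∀ g ∈ Gm K n 0, g ∈ Rm K n 0 := fun g hg => (mem_Gm.1 hg).mono fun i j h => by omega
  have hI : Inv (tw (invT n K) w₀) (Gm K n 0) := by
    refine ⟨fun g hg i j hij => ?_, fun g _ => tw_invol (invT_invT n K) hx g⟩
    rw [hval]
    refine mem_Gm.1 (inv_mem hg) _ _ ?_
    simp only [Fin.val_rev] at hij ⊢
    omega
  obtain ⟨β, hβ, hββ⟩ := hI.exists
  have hmul := psi_mulOn (n := n) hφ h0 0 0
  have heps : eps β θ = θ 1 := by
    rw [eps_eq]
    have : ∀ g : Gm K n 0, θ (g * β g) = θ 1 := fun g => by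
      rw [ho _ (hGR _ (g * β g).2), Subgroup.coe_mul, hmul.2 _ (hGR _ g.2) _ (hGR _ (β g).2), hβ,
        psi, psi, hval, sm_rev]
      have := hmul.2 _ (hGR _ g.2) _ (inv_mem (hGR _ g.2))
      rw [mul_inv_cancel, hmul.1, psi, psi] at this
      rw [← this, mul_one]
    simp only [this, Finset.sum_const, Finset.card_univ, nsmul_eq_mul, ← Nat.card_eq_fintype_card]
    rw [← mul_assoc, inv_mul_cancel₀ (H3.card_ne_zero_complex _), one_mul]
  have h2 : eps β θ = 1 := by
    obtain ⟨d, hd, hd'⟩ := H3.IsIrrCharacter_apply_one hθ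
    rcases eps_cases hββ hθ with h | h | h
    · rw [heps, hd'] at h
      exact absurd (by exact_mod_cast h) hd.ne'
    · exact h
    · rw [heps, hd'] at h
      have : (d : ℤ) = -1 := by exact_mod_cast h
      omega
  obtain ⟨k, hk⟩ := ((hB.tw hx).comp (Gm K n 0).subtype β hβ).even_mult hββ hθ h2
  exact ⟨k, by exact_mod_cast hk⟩

include hφ h0 h1 hB in
theorem evOver_chain (hL : ∀ m, 0 < m → m < n → ∃ L : Subgroup (GL (Fin n) K), GoodOn (invT n K) L ∧
      ∀ l, l ∈ L ↔ (l : Matrix (Fin n) (Fin n) K) * eM K n m = eM K n m * l) (m : ℕ) (hm : m < n) :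
    EvOver ρ.character (Gm K n m) (Rm K n (m + 1)) (psi φ m) := by
  induction m with
  | zero =>
    intro _ θ hθ ho
    exact evOver_zero hφ h0 hB θ hθ fun r hr => ho r ((mem_Rm.1 hr).mono fun i j h => by omega)
  | succ m ih =>
    obtain ⟨L, hg, hL⟩ := hL (m + 1) (Nat.succ_pos m) hm
    exact chain_step hφ h0 h1 (H3.IsCharacter_isClassFunction (H3.isCharacter_character ρ)) hm
      (evOver_jacquet h0 hB hg hL) (ih (by omega))

end chain

/-- a `2`-group is conjugate into the mirabolic subgroup -/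
theorem exists_conj_Gm [CharP K 2] {P : Subgroup (GL (Fin (n + 1)) K)} (hP : IsPGroup 2 P) :
    ∃ d : GL (Fin (n + 1)) K, ∀ g ∈ P, d * g * d⁻¹ ∈ Gm K (n + 1) n := by
  let f : GL (Fin (n + 1)) K →* ((Fin (n + 1) → K) ≃ₗ[K] (Fin (n + 1) → K)) :=
    ((LinearMap.GeneralLinearGroup.generalLinearEquiv K _).toMonoidHom.comp
      GeneralLinearGroup.toLin.toMonoidHom).comp (invT (n + 1) K)
  obtain ⟨v, hv, hfix⟩ := exists_fixed_ne_zero (hP.map f)
  have h1 : ∀ g ∈ P, v ᵥ* (g : Matrix (Fin (n + 1)) (Fin (n + 1)) K) = v := fun g hg => by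
    have := hfix _ ⟨g⁻¹, inv_mem hg, rfl⟩
    rw [← mulVec_transpose]
    exact this
  obtain ⟨k, hk⟩ := Function.ne_iff.1 hv
  obtain ⟨d, -, hd⟩ := exists_row (b := Fin.last n) (m := n) rfl v ⟨k, Nat.lt_succ_iff.1 k.2, hk⟩
  have hd' : Pi.single (Fin.last n) 1 ᵥ* (d : Matrix (Fin (n + 1)) (Fin (n + 1)) K) = v := by
    ext j
    rw [single_one_vecMul]
    exact hd j (Nat.lt_succ_iff.1 j.2)
  refine ⟨d, fun g hg i j hij => ?_⟩
  obtain rfl : i = Fin.last n := Fin.ext (by have := i.2; simp only [Fin.val_last]; omega)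
  have h2 : Pi.single (Fin.last n) 1 ᵥ*
      ((d * g * d⁻¹ : GL (Fin (n + 1)) K) : Matrix (Fin (n + 1)) (Fin (n + 1)) K) =
      Pi.single (Fin.last n) 1 := by
    rw [Units.val_mul, Units.val_mul, ← vecMul_vecMul, ← vecMul_vecMul, hd', h1 g hg, ← hd',
      vecMul_vecMul, Units.mul_inv, vecMul_one]
  have h3 := congrFun h2 j
  rw [single_one_vecMul] at h3
  rw [Matrix.sub_apply, sub_eq_zero, one_apply]
  exact h3.trans (by simp [Pi.single_apply, eq_comm])

theorem lcore {K : Type*} [Field K] [Finite K] [CharP K 2] (hK : ∃ k : K, k ≠ 0 ∧ k ≠ 1) (n : ℕ)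
    (H : ∀ c : GL (Fin n) K, Odd (orderOf c) → c ∉ Subgroup.center (GL (Fin n) K) →
      ∃ x, x * invT n K x = 1 ∧ tw (invT n K) x c = c⁻¹ ∧
        GoodOn (tw (invT n K) x) (Subgroup.centralizer {c})) : Good (invT n K) := by
  rcases n with _ | n
  · exact goodOn_top.1 (goodOn_of_comm (fun a _ b _ => Subsingleton.elim _ _)
      fun s _ => Subsingleton.elim _ _)
  refine brauer_step (invT_invT _ K) (fun c hc => ?_) fun P hP => ?_
  · by_cases h : c ∈ Subgroup.center (GL (Fin (n + 1)) K)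
    · refine Or.inr ⟨h, Units.ext ?_⟩
      obtain ⟨a, ha⟩ := GeneralLinearGroup.mem_center_iff_val_mem_range_scalar.1 (inv_mem h)
      rw [invT_val, ← ha]
      exact diagonal_transpose _
    · obtain ⟨x, hx, -, hg⟩ := H c hc h
      exact Or.inl (Sub.cov (invT_invT _ K) (T := ⊤) ⟨le_top, x, trivial, hx, hg⟩)
  refine ⟨fun g hg => isConj_transpose g ?_, fun χ hχ h => ?_⟩
  · obtain ⟨k, hk⟩ := hP ⟨g, hg⟩
    haveI : Fact (Nat.Prime 2) := ⟨Nat.prime_two⟩
    haveI : CharP (Matrix (Fin (n + 1)) (Fin (n + 1)) K) 2 :=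
      charP_of_injective_algebraMap (algebraMap K _).injective 2
    refine ⟨2 ^ k, ?_⟩
    rw [sub_pow_char_pow_of_commute 2 k (Commute.one_right _), one_pow,
      ← Units.val_pow_eq_pow_val, show g ^ 2 ^ k = 1 from congrArg Subtype.val hk, Units.val_one,
      sub_self]
  obtain ⟨φ, hφ, h0, h1, -⟩ := exists_addChar K
  obtain ⟨d, hd⟩ := exists_conj_Gm hP
  have hcl := H3.IsIrrCharacter_isClassFunction hχ
  obtain ⟨_, ρ, B, rfl, hB⟩ := exists_sform (invT_invT _ K) hχ h
  haveI := Fintype.ofFinite (Gm K (n + 1) n)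
  have hev : Ev fun s : Gm K (n + 1) n => ρ.character s :=
    (ev_iff (H3.IsClassFunction_restrict _ hcl)).2 fun θ hθ =>
      evOver_chain hφ h0 h1 hB (fun m => levi_good hK H) n n.lt_succ_self θ hθ fun r hr => by
        have : r = 1 := Subtype.ext (Units.ext (sub_eq_zero.1 (Matrix.ext fun i j =>
          hr i j (by have := j.2; omega))))
        rw [this, OneMemClass.coe_one, (psi_mulOn (n := n + 1) hφ h0 n 0).1, mul_one]
  have := hev.comp ((((MulAut.conj d).toMonoidHom).domRestrict P).codRestrict _ fun s => hd s s.2)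
  simpa [hcl _ d] using this

end Cfsg.Agent.FS
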