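import Cfsg.Agent.Lib.FS.Defs

/-!
# The Howlett-Lehrer lemma for `GL_n` in idempotent form (notes/FS.md, part B1)
-/

set_option autoImplicit false

open Module Cfsg

namespace Cfsg.Agent.FS

variable {A : Type*} [Ring A]

/-- the abelian unipotent group `1 + e A f` -/
def NG (e f : A) : Set Aˣ := {g | e * ((g : A) - 1) * f = (g : A) - 1}

namespace HL

/-- orthogonal idempotents -/
structure Orth (a b : A) : Prop where
  aa : a * a = a
  bb : b * b = b
  ab : a * b = 0
  ba : b * a = 0

theorem Orth.symm {a b : A} (h : Orth a b) : Orth b a := ⟨h.bb, h.aa, h.ba, h.ab⟩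

theorem Orth.add {a a' b : A} (h : Orth a b) (h' : Orth a' b) (k : Orth a a') :
    Orth (a + a') b :=
  ⟨by rw [add_mul, mul_add, mul_add, k.aa, k.bb, k.ab, k.ba]; simp, h.bb,
    by rw [add_mul, h.ab, h'.ab, add_zero], by rw [mul_add, h.ba, h'.ba, add_zero]⟩

theorem left_eq {a b x : A} (ha : a * a = a) (hx : a * x * b = x) : a * x = x := by
  conv_lhs => rw [← hx, ← mul_assoc, ← mul_assoc, ha]
  exact hx

theorem right_eq {a b x : A} (hb : b * b = b) (hx : a * x * b = x) : x * b = x := by
  conv_lhs => rw [← hx, mul_assoc, hb]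
  exact hx

theorem left_zero {a b c x : A} (hc : c * a = 0) (hx : a * x * b = x) : c * x = 0 := by
  rw [← hx, ← mul_assoc, ← mul_assoc, hc, zero_mul, zero_mul]

theorem right_zero {a b c x : A} (hc : b * c = 0) (hx : a * x * b = x) : x * c = 0 := by
  rw [← hx, mul_assoc, hc, mul_zero]

theorem mul_zero' {a b c d x y : A} (h : b * c = 0) (hx : a * x * b = x) (hy : c * y * d = y) :
    x * y = 0 := by
  rw [← hy, ← mul_assoc, ← mul_assoc, right_zero h hx, zero_mul, zero_mul]

theorem isUnit_of_sq {x : A} (h : x * x = 0) : IsUnit (1 + x) :=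
  ⟨⟨1 + x, 1 - x, by rw [add_mul, mul_sub, mul_sub, h]; simp,
    by rw [sub_mul, mul_add, mul_add, h]; simp⟩, rfl⟩

theorem Orth.unit {a b x : A} (h : Orth a b) (hx : a * x * b = x) : IsUnit (1 + x) :=
  isUnit_of_sq (mul_zero' h.ba hx hx)

variable [Fintype A] [DecidableEq A] {W : Type*} [AddCommGroup W] [Module ℂ W]

/-- the set `a A b` -/
def X (a b : A) : Finset A := Finset.univ.filter fun x => a * x * b = x

theorem mem_X {a b x : A} : x ∈ X a b ↔ a * x * b = x := by simp [X]

/-- the sum over `1 + a A b` -/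
def S (r : A → Module.End ℂ W) (a b : A) : Module.End ℂ W := ∑ x ∈ X a b, r (1 + x)

/-- fixed by `1 + a A b` -/
def Fx (r : A → Module.End ℂ W) (a b : A) (v : W) : Prop :=
  ∀ x, a * x * b = x → r (1 + x) v = v

variable {r : A → Module.End ℂ W} (hr : ∀ z z', IsUnit z → IsUnit z' → r (z * z') = r z * r z')
include hr

theorem S_conj {a b a' b' : A} (h : Orth a' b') (w : Aˣ) (ha : w * a' = a * w)
    (hb : w * b' = b * w) : S r a b * r w = r w * S r a' b' := by
  unfold S
  rw [Finset.sum_mul, Finset.mul_sum]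
  symm
  have ha' : a' * (w⁻¹ : Aˣ) = (w⁻¹ : Aˣ) * a := by
    rw [Units.mul_inv_eq_iff_eq_mul, mul_assoc, ← ha, Units.inv_mul_cancel_left]
  have hb' : b' * (w⁻¹ : Aˣ) = (w⁻¹ : Aˣ) * b := by
    rw [Units.mul_inv_eq_iff_eq_mul, mul_assoc, ← hb, Units.inv_mul_cancel_left]
  refine Finset.sum_bij' (fun x _ => (w : A) * x * (w⁻¹ : Aˣ)) (fun x _ => (w⁻¹ : Aˣ) * x * w)
    ?_ ?_ ?_ ?_ ?_
  · intro x hx
    rw [mem_X] at hx ⊢
    rw [← mul_assoc, ← mul_assoc, ← ha, mul_assoc, ← hb', ← mul_assoc, mul_assoc _ a',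
      mul_assoc (w : A), hx]
  · intro x hx
    rw [mem_X] at hx ⊢
    rw [← mul_assoc, ← mul_assoc, ha', mul_assoc, hb, ← mul_assoc, mul_assoc _ a,
      mul_assoc ((w⁻¹ : Aˣ) : A), hx]
  · intro x _; simp [mul_assoc]
  · intro x _; simp [mul_assoc]
  · intro x hx
    rw [mem_X] at hx
    have hu := h.unit hx
    have e : (1 + (w : A) * x * (w⁻¹ : Aˣ)) = w * (1 + x) * (w⁻¹ : Aˣ) := by
      rw [mul_add, add_mul]; simp
    rw [← hr _ _ w.isUnit hu, ← hr _ _ (by rw [e]; exact (w.isUnit.mul hu).mul w⁻¹.isUnit)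
      w.isUnit, e]
    simp

omit [Fintype A] [DecidableEq A] in
theorem Fx.conj {a b : A} (h : Orth a b) {w : A} (hw : IsUnit w) (ha : w * a = a * w)
    (hb : w * b = b * w) {v : W} (hv : Fx r a b v) : Fx r a b (r w v) := by
  obtain ⟨w, rfl⟩ := hw
  intro x hx
  have ha' : a * (w⁻¹ : Aˣ) = (w⁻¹ : Aˣ) * a := by
    rw [Units.mul_inv_eq_iff_eq_mul, mul_assoc, ← ha, Units.inv_mul_cancel_left]
  have hx' : a * ((w⁻¹ : Aˣ) * x * w) * b = (w⁻¹ : Aˣ) * x * w := by
    rw [← mul_assoc, ← mul_assoc, ha', mul_assoc, hb, ← mul_assoc, mul_assoc _ a,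
      mul_assoc ((w⁻¹ : Aˣ) : A), hx]
  have e : (1 + x) * w = w * (1 + (w⁻¹ : Aˣ) * x * w) := by
    rw [mul_add, add_mul]; simp [mul_assoc]
  rw [← Module.End.mul_apply, ← hr _ _ (h.unit hx) w.isUnit, e, hr _ _ w.isUnit (h.unit hx'),
    Module.End.mul_apply, hv _ hx']

theorem Fx.sum {a b c d : A} (h : Orth a b) (k : Orth c d)
    (ha : ∀ x, c * x * d = x → x * a = a * x) (hb : ∀ x, c * x * d = x → x * b = b * x) {v : W}
    (hv : Fx r a b v) : Fx r a b (S r c d v) := by
  intro y hy
  unfold S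
  rw [LinearMap.sum_apply, map_sum]
  refine Finset.sum_congr rfl fun x hx => ?_
  rw [mem_X] at hx
  exact hv.conj hr h (k.unit hx) (by rw [add_mul, mul_add, ha x hx]; simp)
    (by rw [add_mul, mul_add, hb x hx]; simp) y hy

theorem S_comm {a b c d : A} (h : Orth a b) (k : Orth c d)
    (ha : ∀ x, c * x * d = x → x * a = a * x) (hb : ∀ x, c * x * d = x → x * b = b * x) :
    S r a b * S r c d = S r c d * S r a b := by
  conv_lhs => rw [S.eq_def r c d]
  conv_rhs => rw [S.eq_def r c d]
  rw [Finset.sum_mul, Finset.mul_sum]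
  refine Finset.sum_congr rfl fun x hx => ?_
  rw [mem_X] at hx
  obtain ⟨w, hw⟩ := k.unit hx
  rw [← hw]
  exact S_conj hr h w (by rw [hw, add_mul, mul_add, ha x hx]; simp)
    (by rw [hw, add_mul, mul_add, hb x hx]; simp)

theorem mul_S {a b x : A} (h : Orth a b) (hx : a * x * b = x) : r (1 + x) * S r a b = S r a b := by
  unfold S
  rw [Finset.mul_sum]
  refine Finset.sum_bij' (fun y _ => x + y) (fun y _ => y - x) ?_ ?_ ?_ ?_ ?_
  · intro y hy
    rw [mem_X] at hy ⊢
    rw [mul_add, add_mul, hx, hy]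
  · intro y hy
    rw [mem_X] at hy ⊢
    rw [mul_sub, sub_mul, hx, hy]
  · intro y _; simp
  · intro y _; simp
  · intro y hy
    rw [mem_X] at hy
    rw [← hr _ _ (h.unit hx) (h.unit hy), add_mul, mul_add, mul_add, mul_zero' h.ba hx hy]
    congr 1; simp [add_assoc, add_comm]

theorem S_mul {a b x : A} (h : Orth a b) (hx : a * x * b = x) : S r a b * r (1 + x) = S r a b := by
  obtain ⟨w, hw⟩ := h.unit hx
  unfold S
  rw [Finset.sum_mul]
  refine Finset.sum_bij' (fun y _ => x + y) (fun y _ => y - x) ?_ ?_ ?_ ?_ ?_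
  · intro y hy
    rw [mem_X] at hy ⊢
    rw [mul_add, add_mul, hx, hy]
  · intro y hy
    rw [mem_X] at hy ⊢
    rw [mul_sub, sub_mul, hx, hy]
  · intro y _; simp
  · intro y _; simp
  · intro y hy
    rw [mem_X] at hy
    rw [← hr _ _ (h.unit hy) (h.unit hx), add_mul, mul_add, mul_add, mul_zero' h.ba hy hx]
    congr 1; simp [add_assoc]

theorem S_add_left {a a' b : A} (h : Orth a b) (h' : Orth a' b) (k : Orth a a') :
    S r (a + a') b = S r a b * S r a' b := by
  unfold S
  rw [Finset.sum_mul_sum, ← Finset.sum_product']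
  refine Finset.sum_bij' (fun y _ => (a * y, a' * y)) (fun q _ => q.1 + q.2) ?_ ?_ ?_ ?_ ?_
  · intro y hy
    rw [mem_X] at hy
    have := right_eq h.bb hy
    rw [Finset.mem_product, mem_X, mem_X]
    exact ⟨by rw [← mul_assoc, h.aa, mul_assoc, this], by rw [← mul_assoc, h'.aa, mul_assoc, this]⟩
  · intro q hq
    rw [Finset.mem_product, mem_X, mem_X] at hq
    rw [mem_X, add_mul, mul_add, mul_add, left_eq h.aa hq.1, left_eq h'.aa hq.2,
      left_zero k.ab hq.2, left_zero k.ba hq.1, add_zero, zero_add, add_mul, right_eq h.bb hq.1,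
      right_eq h.bb hq.2]
  · intro y hy
    rw [mem_X] at hy
    rw [← add_mul, left_eq (h.add h' k).aa hy]
  · intro q hq
    rw [Finset.mem_product, mem_X, mem_X] at hq
    rw [mul_add, mul_add, left_eq h.aa hq.1, left_eq h'.aa hq.2,
      left_zero k.ab hq.2, left_zero k.ba hq.1, add_zero, zero_add]
  · intro y hy
    rw [mem_X] at hy
    have := right_eq h.bb hy
    have h1 : a * (a * y) * b = a * y := by rw [← mul_assoc, h.aa, mul_assoc, this]
    have h2 : a' * (a' * y) * b = a' * y := by rw [← mul_assoc, h'.aa, mul_assoc, this]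
    rw [← hr _ _ (h.unit h1) (h'.unit h2), add_mul, mul_add, mul_add, mul_zero' h'.ba h1 h2]
    congr 1
    conv_lhs => rw [← left_eq (h.add h' k).aa hy, add_mul]
    simp [add_assoc, add_comm]

theorem S_add_right {a b b' : A} (h : Orth a b) (h' : Orth a b') (k : Orth b b') :
    S r a (b + b') = S r a b * S r a b' := by
  unfold S
  have hk := (h.symm.add h'.symm k).aa
  rw [Finset.sum_mul_sum, ← Finset.sum_product']
  refine Finset.sum_bij' (fun y _ => (y * b, y * b')) (fun q _ => q.1 + q.2) ?_ ?_ ?_ ?_ ?_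
  · intro y hy
    rw [mem_X] at hy
    have := left_eq h.aa hy
    rw [Finset.mem_product, mem_X, mem_X]
    exact ⟨by rw [← mul_assoc, this, mul_assoc, h.bb], by rw [← mul_assoc, this, mul_assoc, h'.bb]⟩
  · intro q hq
    rw [Finset.mem_product, mem_X, mem_X] at hq
    rw [mem_X, mul_add a, left_eq h.aa hq.1, left_eq h'.aa hq.2, add_mul, mul_add, mul_add,
      right_eq h.bb hq.1, right_eq h'.bb hq.2, right_zero k.ab hq.1, right_zero k.ba hq.2, add_zero,
      zero_add]
  · intro y hy
    rw [mem_X] at hy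
    rw [← mul_add, right_eq hk hy]
  · intro q hq
    rw [Finset.mem_product, mem_X, mem_X] at hq
    rw [add_mul, add_mul, right_eq h.bb hq.1, right_eq h'.bb hq.2, right_zero k.ab hq.1,
      right_zero k.ba hq.2, add_zero, zero_add]
  · intro y hy
    rw [mem_X] at hy
    have := left_eq h.aa hy
    have h1 : a * (y * b) * b = y * b := by rw [← mul_assoc, this, mul_assoc, h.bb]
    have h2 : a * (y * b') * b' = y * b' := by rw [← mul_assoc, this, mul_assoc, h'.bb]
    rw [← hr _ _ (h.unit h1) (h'.unit h2), add_mul, mul_add, mul_add, mul_zero' h.ba h1 h2]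
    congr 1
    conv_lhs => rw [← right_eq hk hy, mul_add]
    simp [add_assoc, add_comm]

omit [Fintype A] [DecidableEq A] in
theorem Fx.add_left {a a' b : A} (h : Orth a b) (h' : Orth a' b) (k : Orth a a') {v : W}
    (hv : Fx r a b v) (hv' : Fx r a' b v) : Fx r (a + a') b v := by
  intro y hy
  have := right_eq h.bb hy
  have h1 : a * (a * y) * b = a * y := by rw [← mul_assoc, h.aa, mul_assoc, this]
  have h2 : a' * (a' * y) * b = a' * y := by rw [← mul_assoc, h'.aa, mul_assoc, this]
  have e : 1 + y = (1 + a * y) * (1 + a' * y) := by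
    rw [add_mul, mul_add, mul_add, mul_zero' h'.ba h1 h2]
    conv_lhs => rw [← left_eq (h.add h' k).aa hy, add_mul]
    simp [add_assoc, add_comm]
  rw [e, hr _ _ (h.unit h1) (h'.unit h2), Module.End.mul_apply, hv' _ h2, hv _ h1]

omit [Fintype A] [DecidableEq A] in
theorem Fx.add_right {a b b' : A} (h : Orth a b) (h' : Orth a b') (k : Orth b b') {v : W}
    (hv : Fx r a b v) (hv' : Fx r a b' v) : Fx r a (b + b') v := by
  intro y hy
  have hk := (h.symm.add h'.symm k).aa
  have := left_eq h.aa hy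
  have h1 : a * (y * b) * b = y * b := by rw [← mul_assoc, this, mul_assoc, h.bb]
  have h2 : a * (y * b') * b' = y * b' := by rw [← mul_assoc, this, mul_assoc, h'.bb]
  have e : 1 + y = (1 + y * b) * (1 + y * b') := by
    rw [add_mul, mul_add, mul_add, mul_zero' h.ba h1 h2]
    conv_lhs => rw [← right_eq hk hy, mul_add]
    simp [add_assoc, add_comm]
  rw [e, hr _ _ (h.unit h1) (h'.unit h2), Module.End.mul_apply, hv' _ h2, hv _ h1]

omit hr [Fintype A] [DecidableEq A] in
theorem Fx.of_left {a a' b : A} (k : Orth a a') {v : W} (hv : Fx r (a + a') b v) : Fx r a b v := by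
  intro y hy
  refine hv y ?_
  rw [add_mul, left_zero k.ba hy, add_zero, hy]

omit hr [Fintype A] [DecidableEq A] in
theorem Fx.of_right {a b b' : A} (k : Orth b b') {v : W} (hv : Fx r a (b + b') v) :
    Fx r a b v := by
  intro y hy
  refine hv y ?_
  rw [mul_add, hy, mul_assoc, right_zero k.ab hy, mul_zero, add_zero]

theorem Fx.S_self {a b : A} (h : Orth a b) (v : W) : Fx r a b (S r a b v) := by
  intro x hx
  rw [← Module.End.mul_apply, mul_S hr h hx]

/-- the statement of the lemma -/
def P (r : A → Module.End ℂ W) (e f : A) : Prop := ∀ v, Fx r e f v → S r f e v = 0 → v = 0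

theorem step_left {a e f : A} (h : Orth a f) (h' : Orth e f) (k : Orth a e) (ha : P r a f)
    (he : P r e f) {v : W} (hv : Fx r (a + e) f v) (hs : S r f (a + e) v = 0) :
    S r a e v = 0 := by
  have o := h.add h' k
  have c1 : ∀ x, a * x * e = x → x * (a + e) = (a + e) * x := fun x hx => by
    rw [mul_add, add_mul, right_zero k.ba hx, right_eq k.bb hx, left_eq k.aa hx, left_zero k.ba hx]
    simp
  have c2 : ∀ x, a * x * e = x → x * f = f * x := fun x hx => by
    rw [right_zero h'.ab hx, left_zero h.ba hx]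
  have f1 : Fx r (a + e) f (S r a e v) := hv.sum hr o k c1 c2
  have s1 : S r f (a + e) (S r a e v) = 0 := by
    rw [← Module.End.mul_apply, S_comm hr o.symm k c2 c1, Module.End.mul_apply, hs, map_zero]
  have f2 : Fx r a (e + f) (S r a e v) :=
    Fx.add_right hr k h h' (Fx.S_self hr k v) (f1.of_left k)
  have o2 : Orth a (e + f) := (k.symm.add h.symm h').symm
  have f3 : Fx r a (e + f) (S r f e (S r a e v)) := by
    refine f2.sum hr o2 h'.symm (fun x hx => ?_) (fun x hx => ?_)
    · rw [right_zero k.ba hx, left_zero h.ab hx]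
    · rw [mul_add, add_mul, right_eq h'.aa hx, right_zero h'.ab hx, left_zero h'.ab hx,
        left_eq h'.bb hx]
      simp
  rw [add_comm e f] at f3
  refine he _ (by rw [add_comm] at f1; exact f1.of_left k.symm) (ha _ (f3.of_right h'.symm) ?_)
  rw [← Module.End.mul_apply, ← S_add_right hr h.symm h'.symm k, s1]

theorem step_right {e b f : A} (h : Orth e b) (h' : Orth e f) (k : Orth b f) (hb : P r e b)
    (hf : P r e f) {v : W} (hv : Fx r e (b + f) v) (hs : S r (b + f) e v = 0) :
    S r f b v = 0 := by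
  have o := (h.symm.add h'.symm k).symm
  have c1 : ∀ x, f * x * b = x → x * (b + f) = (b + f) * x := fun x hx => by
    rw [mul_add, add_mul, right_zero k.ab hx, right_eq k.aa hx, left_eq k.bb hx, left_zero k.ab hx]
    simp
  have c2 : ∀ x, f * x * b = x → x * e = e * x := fun x hx => by
    rw [right_zero h.ba hx, left_zero h'.ab hx]
  have f1 : Fx r e (b + f) (S r f b v) := hv.sum hr o k.symm c2 c1
  have s1 : S r (b + f) e (S r f b v) = 0 := by
    rw [← Module.End.mul_apply, S_comm hr o.symm k.symm c1 c2, Module.End.mul_apply, hs, map_zero]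
  have f2 : Fx r (e + f) b (S r f b v) :=
    Fx.add_left hr h k.symm h' (f1.of_right k) (Fx.S_self hr k.symm v)
  have o2 : Orth (e + f) b := h.add k.symm h'
  have f3 : Fx r (e + f) b (S r f e (S r f b v)) := by
    refine f2.sum hr o2 h'.symm (fun x hx => ?_) (fun x hx => ?_)
    · rw [mul_add, add_mul, right_eq h'.aa hx, right_zero h'.ab hx, left_zero h'.ab hx,
        left_eq h'.bb hx]
      simp
    · rw [right_zero h.ab hx, left_zero k.ab hx]
  refine hf _ (by rw [add_comm] at f1; exact f1.of_right k.symm) (hb _ (f3.of_left h') ?_)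
  rw [← Module.End.mul_apply, ← S_add_left hr h.symm h'.symm k, s1]

omit hr in
/-- the size of `eA` -/
def sz (e : A) : ℕ := (Finset.univ.filter fun z => e * z = z).card

omit hr in
theorem sz_lt {a e : A} (k : Orth a e) (he : e ≠ 0) : sz a < sz (a + e) := by
  refine Finset.card_lt_card ⟨fun z hz => ?_, fun hle => he ?_⟩
  · simp only [Finset.mem_filter, Finset.mem_univ, true_and] at hz ⊢
    rw [add_mul, hz, ← hz, ← mul_assoc, k.ba, zero_mul, add_zero]
  · have : e ∈ Finset.univ.filter fun z => a * z = z :=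
      hle (by simp only [Finset.mem_filter, Finset.mem_univ, true_and]
              rw [add_mul, k.ab, k.bb, zero_add])
    simp only [Finset.mem_filter, Finset.mem_univ, true_and] at this
    rw [← this, k.ab]

theorem term_zero (hreg : ∀ x : A, ∃ y, x * y * x = x) {e f : A} (h : Orth e f)
    (ih : ∀ e' f' : A, sz e' + sz f' < sz e + sz f → Orth e' f' → P r e' f') {v : W}
    (hv : Fx r e f v) (hs : S r f e v = 0) {x : A} (hx : f * x * e = x) (hx0 : x ≠ 0) :
    S r e f (r (1 + x) v) = 0 := by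
  obtain ⟨y₀, hy₀⟩ := hreg x
  have xe := right_eq h.aa hx
  have fx := left_eq h.bb hx
  obtain ⟨y, hy, xyx, yxy⟩ : ∃ y, e * y * f = y ∧ x * y * x = x ∧ y * x * y = y := by
    refine ⟨e * (y₀ * x * y₀) * f, by rw [← mul_assoc, ← mul_assoc, h.aa, mul_assoc, h.bb], ?_, ?_⟩
    · calc x * (e * (y₀ * x * y₀) * f) * x = (x * e) * y₀ * x * y₀ * (f * x) := by
            simp only [mul_assoc]
        _ = x := by rw [xe, fx, hy₀, hy₀]
    · calc e * (y₀ * x * y₀) * f * x * (e * (y₀ * x * y₀) * f)
          = e * y₀ * (x * y₀ * (f * x * e) * y₀ * x) * y₀ * f := by simp only [mul_assoc]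
        _ = _ := by rw [hx, hy₀, hy₀]; simp only [mul_assoc]
  have ey := left_eq h.aa hy
  have yf := right_eq h.bb hy
  have ex := left_zero h.ab hx
  have xf := right_zero h.ab hx
  have fy := left_zero h.ba hy
  have ye := right_zero h.ba hy
  have xx := mul_zero' h.ab hx hx
  have yy := mul_zero' h.ba hy hy
  have xyx' : ∀ z, x * (y * (x * z)) = x * z := fun z => by rw [← mul_assoc, ← mul_assoc, xyx]
  have yxy' : ∀ z, y * (x * (y * z)) = y * z := fun z => by rw [← mul_assoc, ← mul_assoc, yxy]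
  have xyx'' : x * (y * x) = x := by rw [← mul_assoc, xyx]
  have yxy'' : y * (x * y) = y := by rw [← mul_assoc, yxy]
  have ey' : ∀ z, e * (y * z) = y * z := fun z => by rw [← mul_assoc, ey]
  have fx' : ∀ z, f * (x * z) = x * z := fun z => by rw [← mul_assoc, fx]
  have ex' : ∀ z, e * (x * z) = 0 := fun z => by rw [← mul_assoc, ex, zero_mul]
  have fy' : ∀ z, f * (y * z) = 0 := fun z => by rw [← mul_assoc, fy, zero_mul]
  have xx' : ∀ z, x * (x * z) = 0 := fun z => by rw [← mul_assoc, xx, zero_mul]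
  have yy' : ∀ z, y * (y * z) = 0 := fun z => by rw [← mul_assoc, yy, zero_mul]
  have ee := h.aa
  have ff := h.bb
  have ef := h.ab
  have fe := h.ba
  have o1 : Orth (e - y * x) (y * x) := by
    constructor <;> simp [mul_sub, sub_mul, mul_assoc, *]
  have o2 : Orth (f - x * y) (x * y) := by
    constructor <;> simp [mul_sub, sub_mul, mul_assoc, *]
  have o3 : Orth (e - y * x) f := by
    constructor <;> simp [mul_sub, sub_mul, mul_assoc, *]
  have o4 : Orth (y * x) f := by
    constructor <;> simp [mul_assoc, *]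
  have o5 : Orth e (f - x * y) := by
    constructor <;> simp [mul_sub, sub_mul, mul_assoc, *]
  have o6 : Orth e (x * y) := by
    constructor <;> simp [mul_assoc, *]
  have o7 : Orth (e - y * x) (x * y) := by
    constructor <;> simp [mul_sub, sub_mul, mul_assoc, *]
  have o8 : Orth (e - y * x) (f - x * y) := by
    constructor <;> simp [mul_sub, sub_mul, mul_assoc, *]
  have o9 : Orth (x * y) (y * x) := by
    constructor <;> simp [mul_assoc, *]
  have o10 : Orth (y * x) (f - x * y) := by
    constructor <;> simp [mul_sub, sub_mul, mul_assoc, *]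
  have hny : e * (-y) * f = -y := by rw [mul_neg, neg_mul, hy]
  have u1 := h.unit hny
  have u2 := h.symm.unit hx
  obtain ⟨w, hw⟩ := (u1.mul u2).mul u1
  have e1 : S r e f (r (1 + x) v) = (S r e f * r w) v := by
    rw [hw, hr _ _ (u1.mul u2) u1, hr _ _ u1 u2, ← mul_assoc, ← mul_assoc, S_mul hr h hny,
      Module.End.mul_apply, Module.End.mul_apply, hv _ hny]
  have oA : Orth (e - y * x + x * y) (y * x) := o1.add o9 o7
  have oB : Orth (e - y * x + x * y) (f - x * y) := o8.add o2.symm o7
  have oC : Orth (e - y * x + x * y) (y * x + (f - x * y)) := (oA.symm.add oB.symm o10).symm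
  rw [e1, S_conj hr oC w
    (by rw [hw]; simp [mul_sub, mul_add, add_mul, mul_assoc, *]; abel)
    (by rw [hw]; simp [mul_sub, mul_add, add_mul, mul_assoc, *]; abel),
    Module.End.mul_apply]
  suffices hz : S r (e - y * x + x * y) (y * x + (f - x * y)) v = 0 by rw [hz, map_zero]
  have n1 : y * x ≠ 0 := fun h0 => hx0 (by rw [← xyx'', h0, mul_zero])
  have n2 : x * y ≠ 0 := fun h0 => hx0 (by rw [← xyx, h0, zero_mul])
  by_cases ha : e - y * x = 0
  · by_cases hb : f - x * y = 0
    · rw [ha, hb, zero_add, add_zero, ← sub_eq_zero.1 ha, ← sub_eq_zero.1 hb, hs]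
    · have l1 := sz_lt o2 n2
      have l2 := sz_lt o2.symm hb
      rw [sub_add_cancel] at l1
      rw [add_sub_cancel] at l2
      have := step_right hr o5 o6 o2 (ih _ _ (by omega) o5) (ih _ _ (by omega) o6) (v := v)
        (by rwa [sub_add_cancel]) (by rwa [sub_add_cancel])
      rw [S_add_right hr oA oB o10, S_add_left hr o8 o2.symm o7, Module.End.mul_apply,
        Module.End.mul_apply, this, map_zero, map_zero]
  · have l1 := sz_lt o1 n1
    have l2 := sz_lt o1.symm ha
    rw [sub_add_cancel] at l1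
    rw [add_sub_cancel] at l2
    have := step_left hr o3 o4 o1 (ih _ _ (by omega) o3) (ih _ _ (by omega) o4) (v := v)
      (by rwa [sub_add_cancel]) (by rwa [sub_add_cancel])
    rw [add_comm (y * x), S_add_right hr oB oA o10.symm, add_comm (e - y * x),
      S_add_left hr o9 o1 o7.symm, Module.End.mul_apply,
      Module.End.mul_apply, this, map_zero, map_zero]

theorem main (hreg : ∀ x : A, ∃ y, x * y * x = x) (h1 : r 1 = 1) (m : ℕ) :
    ∀ e f : A, sz e + sz f = m → Orth e f → P r e f := by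
  induction m using Nat.strong_induction_on with
  | _ m ih =>
  intro e f hm h v hv hs
  have h0 : (0 : A) ∈ X f e := by simp [mem_X]
  have e1 : S r e f (S r f e v) = S r e f v := by
    conv_lhs => rw [S.eq_def r f e]
    rw [LinearMap.sum_apply, map_sum, Finset.sum_eq_single_of_mem 0 h0, add_zero, h1]
    · rfl
    · intro x hx hx0
      exact term_zero hr hreg h (fun e' f' hlt => ih _ (hm ▸ hlt) e' f' rfl) hv hs (mem_X.1 hx) hx0
  rw [hs, map_zero, S, LinearMap.sum_apply,
    Finset.sum_congr rfl fun x hx => hv x (mem_X.1 hx), Finset.sum_const,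
    ← Nat.cast_smul_eq_nsmul ℂ] at e1
  refine (smul_eq_zero.1 e1.symm).resolve_left ?_
  exact Nat.cast_ne_zero.2 (Finset.card_ne_zero.2 ⟨0, by simp [mem_X]⟩)

end HL

/-- Howlett-Lehrer: a vector fixed by `1 + eAf` and killed by the sum of `1 + fAe` is zero -/
theorem howlett_lehrer [Finite A] (hreg : ∀ x : A, ∃ y, x * y * x = x) {W : Type*}
    [AddCommGroup W] [Module ℂ W] (ρ : Representation ℂ Aˣ W) {e f : A} (he : e * e = e)
    (hf : f * f = f) (hef : e * f = 0) (hfe : f * e = 0) {v : W} (hv : ∀ g ∈ NG e f, ρ g v = v)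
    (hs : ∑ᶠ g ∈ NG f e, ρ g v = 0) : v = 0 := by
  classical
  have := Fintype.ofFinite A
  let r : A → Module.End ℂ W := fun z => if h : IsUnit z then ρ h.unit else 0
  have hu : ∀ u : Aˣ, r u = ρ u := fun u => by simp [r]
  have h : HL.Orth e f := ⟨he, hf, hef, hfe⟩
  refine HL.main (r := r) ?_ hreg (by simpa using hu 1) _ e f rfl h v ?_ ?_
  · rintro _ _ ⟨u, rfl⟩ ⟨u', rfl⟩
    rw [← Units.val_mul, hu, hu, hu, map_mul]
  · intro x hx
    obtain ⟨u, hu'⟩ := h.unit hx
    rw [← hu', hu]
    exact hv u (by simpa [NG, hu'] using hx)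
  · rw [← hs, HL.S, LinearMap.sum_apply, ← finsum_mem_coe_finset]
    symm
    refine finsum_mem_eq_of_bijOn (fun g : Aˣ => (g : A) - 1) ⟨fun g hg => ?_, fun g _ g' _ hg => ?_,
      fun x hx => ?_⟩ fun g _ => by rw [add_sub_cancel, hu]
    · exact HL.mem_X.2 hg
    · exact Units.ext (sub_left_injective hg)
    · have hx' := HL.mem_X.1 hx
      obtain ⟨u, hu'⟩ := h.symm.unit hx'
      exact ⟨u, by simpa [NG, hu'] using hx', by simp [hu']⟩

theorem matrix_regular {K : Type*} [Field K] {n : ℕ} (x : Matrix (Fin n) (Fin n) K) :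
    ∃ y, x * y * x = x := by
  set f := Matrix.toLin' x
  obtain ⟨g, hg⟩ := f.rangeRestrict.exists_rightInverse_of_surjective f.range_rangeRestrict
  obtain ⟨q, hq⟩ := (LinearMap.range f).subtype.exists_leftInverse_of_injective
    (Submodule.ker_subtype _)
  refine ⟨LinearMap.toMatrix' (g ∘ₗ q), Matrix.toLin'.injective ?_⟩
  rw [Matrix.toLin'_mul, Matrix.toLin'_mul, Matrix.toLin'_toMatrix']
  refine LinearMap.ext fun v => ?_
  have h1 : q (f v) = ⟨f v, v, rfl⟩ := LinearMap.congr_fun hq ⟨f v, v, rfl⟩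
  have h2 := congrArg Subtype.val (LinearMap.congr_fun hg ⟨f v, v, rfl⟩)
  show f (g (q (f v))) = f v
  rw [h1]
  exact h2

theorem exists_dual_chain {K V : Type*} [Field K] [AddCommGroup V] [Module K V]
    {N : Module.End K V} {m : ℕ} (hN : N ^ (m + 1) = 0) {v : V} (hv : (N ^ m) v ≠ 0) :
    ∃ f : V →ₗ[K] K, ∀ i, f ((N ^ i) v) = if i = m then 1 else 0 := by
  have hz : ∀ i, m < i → N ^ i = 0 := fun i hi => pow_eq_zero_of_le hi hN
  have key : ∀ k, ∃ f : V →ₗ[K] K, f ((N ^ m) v) = 1 ∧
      ∀ i, i < m → m ≤ i + k → f ((N ^ i) v) = 0 := by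
    intro k
    induction k with
    | zero =>
      obtain ⟨f, hf⟩ := Module.Projective.exists_dual_eq_one K hv
      exact ⟨f, hf, fun i h1 h2 => by omega⟩
    | succ k ih =>
      obtain ⟨f, h1, h2⟩ := ih
      refine ⟨f - f ((N ^ (m - (k + 1))) v) • (f ∘ₗ N ^ (k + 1)), ?_, fun i hi hik => ?_⟩
      · simp only [LinearMap.sub_apply, LinearMap.smul_apply, LinearMap.comp_apply]
        rw [← Module.End.mul_apply, ← pow_add, hz (k + 1 + m) (by omega), h1]; simp
      · simp only [LinearMap.sub_apply, LinearMap.smul_apply, LinearMap.comp_apply]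
        rw [← Module.End.mul_apply, ← pow_add]
        by_cases h : m ≤ i + k
        · rw [h2 i hi h, hz (k + 1 + i) (by omega)]; simp
        · rw [show k + 1 + i = m by omega, h1, show m - (k + 1) = i by omega]; simp
  obtain ⟨f, h1, h2⟩ := key m
  refine ⟨f, fun i => ?_⟩
  split_ifs with h
  · rw [h, h1]
  · rcases lt_or_gt_of_ne h with h | h
    · exact h2 i h (by omega)
    · rw [hz i h]; simp

theorem exists_form_nilpotent {K V : Type*} [Field K] [AddCommGroup V] [Module K V]
    [FiniteDimensional K V] {N : Module.End K V} (hN : IsNilpotent N) :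
    ∃ s : LinearMap.BilinForm K V, (∀ x, (∀ y, s x y = 0) → x = 0) ∧
      ∀ x y, s (N x) y = s x (N y) := by
  induction' hn : finrank K V using Nat.strong_induction_on with n ih generalizing V
  rcases subsingleton_or_nontrivial V with hV | hV
  · exact ⟨0, fun x _ => Subsingleton.elim _ _, fun _ _ => rfl⟩
  classical
  obtain ⟨m, hm0, hm⟩ : ∃ m, N ^ m ≠ 0 ∧ N ^ (m + 1) = 0 := by
    have h0 : Nat.find hN ≠ 0 := fun h => by
      have := Nat.find_spec hN
      rw [h, pow_zero] at this
      exact one_ne_zero this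
    obtain ⟨m, hm⟩ := Nat.exists_eq_succ_of_ne_zero h0
    exact ⟨m, Nat.find_min hN (by omega), by rw [← Nat.succ_eq_add_one, ← hm]; exact Nat.find_spec hN⟩
  obtain ⟨v, hv⟩ : ∃ v, (N ^ m) v ≠ 0 := by
    by_contra h
    push Not at h
    exact hm0 (LinearMap.ext h)
  obtain ⟨f, hf⟩ := exists_dual_chain hm hv
  have pw : ∀ i j x, (N ^ i) ((N ^ j) x) = (N ^ (i + j)) x := fun i j x => by
    rw [← Module.End.mul_apply, ← pow_add]
  have pw1 : ∀ i x, (N ^ i) (N x) = (N ^ (i + 1)) x := fun i x => by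
    rw [← Module.End.mul_apply, ← pow_succ]
  have pw2 : ∀ i x, N ((N ^ i) x) = (N ^ (i + 1)) x := fun i x => by
    rw [← Module.End.mul_apply, ← pow_succ']
  let T : Module.End K V := ∑ i ∈ Finset.range (m + 1), (f ∘ₗ N ^ i).smulRight ((N ^ (m - i)) v)
  have hT : ∀ x, T x = ∑ i ∈ Finset.range (m + 1), f ((N ^ i) x) • (N ^ (m - i)) v := fun x => by
    simp [T, LinearMap.sum_apply]
  have hTN : ∀ x, T (N x) = N (T x) := fun x => by
    rw [hT, hT, map_sum, Finset.sum_range_succ, Finset.sum_range_succ', pw1, hm, map_smul, pw2,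
      Nat.sub_zero, hm]
    simp only [LinearMap.zero_apply, map_zero, zero_smul, smul_zero, add_zero]
    refine Finset.sum_congr rfl fun i hi => ?_
    rw [Finset.mem_range] at hi
    rw [map_smul, pw1, pw2, show m - (i + 1) + 1 = m - i by omega]
  have hfT : ∀ j x, f ((N ^ j) (T x)) = f ((N ^ j) x) := fun j x => by
    rw [hT, map_sum, map_sum]
    simp only [map_smul, pw, hf, smul_eq_mul]
    by_cases hj : j ≤ m
    · rw [Finset.sum_eq_single_of_mem j (Finset.mem_range.2 (by omega)), if_pos (by omega), mul_one]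
      intro i hi hij
      rw [Finset.mem_range] at hi
      rw [if_neg (by omega), mul_zero]
    · rw [pow_eq_zero_of_le (by omega : m + 1 ≤ j) hm, Finset.sum_eq_zero]
      · simp
      · intro i hi
        rw [Finset.mem_range] at hi
        rw [if_neg (by omega), mul_zero]
  let U : Submodule K V := ⨅ j : ℕ, LinearMap.ker (f ∘ₗ N ^ j)
  have hU : ∀ x, x ∈ U ↔ ∀ j, f ((N ^ j) x) = 0 := fun x => by simp [U]
  have hNU : ∀ x ∈ U, N x ∈ U := fun x hx => (hU _).2 fun j => by rw [pw1]; exact (hU x).1 hx _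
  have hlt : finrank K U < n := by
    rw [← hn]
    refine Submodule.finrank_lt fun h => ?_
    have := (hU v).1 (h ▸ Submodule.mem_top) m
    rw [hf, if_pos rfl] at this
    exact one_ne_zero this
  obtain ⟨s, hs1, hs2⟩ := ih _ hlt (N := N.restrict hNU) (Module.End.isNilpotent.restrict hNU hN) rfl
  let π : V →ₗ[K] U := LinearMap.codRestrict U (LinearMap.id - T) fun x =>
    (hU _).2 fun j => by simp [hfT]
  have hπ : ∀ x, (π x : V) = x - T x := fun x => rfl
  have hπN : ∀ x, π (N x) = N.restrict hNU (π x) := fun x => Subtype.ext (by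
    rw [hπ, LinearMap.restrict_apply, hTN]; simp [hπ])
  let s₀ : LinearMap.BilinForm K V :=
    ∑ i ∈ Finset.range (m + 1), (f ∘ₗ N ^ i).smulRight (f ∘ₗ N ^ (m - i))
  have hs₀ : ∀ x y, s₀ x y = ∑ i ∈ Finset.range (m + 1), f ((N ^ i) x) * f ((N ^ (m - i)) y) :=
    fun x y => by simp [s₀, LinearMap.sum_apply]
  refine ⟨s₀ + s.compl₁₂ π π, fun x hx => ?_, fun x y => ?_⟩
  · simp only [LinearMap.add_apply, LinearMap.compl₁₂_apply] at hx
    have h1 : π x = 0 := hs1 _ fun y => by
      have h := hx y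
      have hy := (hU _).1 y.2
      have : π y = y := Subtype.ext (by rw [hπ, hT]; simp [hy])
      rw [this, hs₀] at h
      simpa [hy] using h
    have h2 : ∀ k, k ≤ m → f ((N ^ k) x) = 0 := fun k hk => by
      have h := hx ((N ^ k) v)
      rw [h1, map_zero, LinearMap.zero_apply, add_zero, hs₀,
        Finset.sum_eq_single_of_mem k (Finset.mem_range.2 (by omega)), pw, hf,
        if_pos (by omega), mul_one] at h
      · exact h
      · intro i hi hik
        rw [Finset.mem_range] at hi
        rw [pw, hf, if_neg (by omega), mul_zero]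
    have h3 := congrArg Subtype.val h1
    rw [hπ, hT, Finset.sum_eq_zero fun i hi => by
      rw [h2 i (by have := Finset.mem_range.1 hi; omega), zero_smul]] at h3
    simpa using h3
  · simp only [LinearMap.add_apply, LinearMap.compl₁₂_apply]
    rw [hπN, hπN, hs2, hs₀, hs₀, Finset.sum_range_succ, Finset.sum_range_succ', pw1, hm, pw1,
      Nat.sub_zero, hm]
    simp only [LinearMap.zero_apply, map_zero, zero_mul, mul_zero, add_zero, add_left_inj]
    refine Finset.sum_congr rfl fun i hi => ?_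
    rw [Finset.mem_range] at hi
    rw [pw1, pw1, show m - (i + 1) + 1 = m - i by omega]

/-- a unipotent matrix is conjugate to its transpose -/
theorem isConj_transpose {K : Type*} [Field K] {n : ℕ} (g : GL (Fin n) K)
    (hg : IsNilpotent ((g : Matrix (Fin n) (Fin n) K) - 1)) : IsConj (invT n K g) g⁻¹ := by
  obtain ⟨s, h1, h2⟩ := exists_form_nilpotent (hg.map Matrix.toLinAlgEquiv')
  set M := LinearMap.toMatrix₂' K s with hM
  have hs : ∀ x y, s x y = x ⬝ᵥ M.mulVec y := fun x y => by
    rw [← Matrix.toLinearMap₂'_apply', hM, Matrix.toLinearMap₂'_toMatrix']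
  have hu : IsUnit M := by
    rw [← Matrix.vecMul_injective_iff_isUnit]
    intro x y hxy
    refine sub_eq_zero.1 (h1 _ fun z => ?_)
    rw [hs, Matrix.dotProduct_mulVec, Matrix.sub_vecMul, show Matrix.vecMul x M = _ from hxy]
    simp
  have hc : (g : Matrix (Fin n) (Fin n) K).transpose * M = M * g := by
    ext i j
    have := h2 (Pi.single i 1) (Pi.single j 1)
    simp only [Matrix.toLinAlgEquiv'_apply, Matrix.one_mulVec, map_sub,
      LinearMap.sub_apply, sub_left_inj] at this
    rw [hs, hs] at this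
    simpa [Matrix.mul_apply, Matrix.mulVec, dotProduct, Pi.single_apply] using this
  obtain ⟨u, hu⟩ := hu
  have h3 : (invT n K g)⁻¹ * u = u * g := Units.ext (by
    rw [Units.val_mul, Units.val_mul, invT_inv_val, hu, hc])
  refine isConj_iff.2 ⟨u⁻¹, ?_⟩
  rw [inv_mul_eq_iff_eq_mul] at h3
  rw [inv_inv, mul_assoc, inv_mul_eq_iff_eq_mul, eq_mul_inv_iff_mul_eq, mul_assoc, ← h3]

end Cfsg.Agent.FS
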