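import Cfsg.Agent.Lib.FS.B1
import Cfsg.Agent.Lib.FS.A2

/-!
# Tools for the linear core: a Clifford step for multiplicities and the Jacquet module
-/

set_option autoImplicit false

open scoped ComplexConjugate
open Module Cfsg

namespace Cfsg.Agent.FS

section group

variable {G : Type*} [Group G]

theorem GoodOn.untw [Finite G] {α : G →* G} {S : Subgroup G} {x : G} (h : GoodOn (FS.tw α x) S)
    (hxS : x ∈ S) (hx : x * α x = 1) : GoodOn α S := by
  have h1 : x⁻¹ * FS.tw α x x⁻¹ = 1 := by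
    rw [tw_apply, map_inv, eq_inv_of_mul_eq_one_right hx]; group
  have := h.tw (inv_mem hxS) h1
  rwa [tw_tw, inv_mul_cancel, tw_one] at this

/-- `θ` lies over `lam` on `R` -/
def Over {D : Subgroup G} (θ : D → ℂ) (R : Subgroup G) (lam : G → ℂ) : Prop :=
  ∀ r : D, (r : G) ∈ R → θ r = θ 1 * lam r

/-- a multiplicative function on a subgroup -/
def MulOn (R : Subgroup G) (lam : G → ℂ) : Prop :=
  lam 1 = 1 ∧ ∀ a ∈ R, ∀ b ∈ R, lam (a * b) = lam a * lam b

theorem MulOn.irr {R : Subgroup G} {lam : G → ℂ} (h : MulOn R lam) {H : Type*} [Group H]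
    (i : H →* G) (hi : ∀ x, i x ∈ R) : IsIrrCharacter H (fun x => lam (i x)) :=
  H3.isIrrCharacter_linear (MonoidHom.toHomUnits
    { toFun := fun x => lam (i x)
      map_one' := by rw [map_one, h.1]
      map_mul' := fun a b => by rw [map_mul, h.2 _ (hi a) _ (hi b)] })

/-- all irreducible characters of `D` over `lam` have even multiplicity in `χ` -/
def EvOver (χ : G → ℂ) (D R : Subgroup G) (lam : G → ℂ) : Prop :=
  ∀ [Fintype D] (θ : D → ℂ), IsIrrCharacter D θ → Over θ R lam →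
    ∃ k : ℤ, classInner (fun x : D => χ x) θ = 2 * k

theorem cl_step [Finite G] {D R T : Subgroup G} [Fintype D] [Fintype (R.subgroupOf D)]
    (hRT : R ≤ T) (hTD : T ≤ D)
    (hn : ∀ d ∈ D, ∀ r ∈ R, d * r * d⁻¹ ∈ R) {lam : G → ℂ} (hl : MulOn R lam)
    (hT : ∀ d ∈ D, d ∈ T ↔ ∀ r ∈ R, lam (d * r * d⁻¹) = lam r) {χ : G → ℂ}
    (hχ : IsClassFunction G χ) (hev : EvOver χ T R lam) {θ : D → ℂ} (hθ : IsIrrCharacter D θ)
    {d : G} (hd : d ∈ D) (h0 : classInner (fun r : R.subgroupOf D => θ r)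
      (fun r => lam (d * r * d⁻¹)) ≠ 0) :
    ∃ k : ℤ, classInner (fun x : D => χ x) θ = 2 * k := by
  haveI hN : (R.subgroupOf D).Normal := ⟨fun r hr g => hn g g.2 r hr⟩
  let ν : R.subgroupOf D → ℂ := fun r => lam r
  have hν : IsIrrCharacter _ ν := hl.irr (D.subtype.comp (Subgroup.subtype _)) fun x => x.2
  have h1 : classInner (fun r : R.subgroupOf D => θ r) ν ≠ 0 := by
    rw [← H4.classInner_res_cj (H3.IsIrrCharacter_isClassFunction hθ) ⟨d, hd⟩ ν]
    exact h0
  have hNT : R.subgroupOf D ≤ T.subgroupOf D := fun r hr => hRT hr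
  have hI : T.subgroupOf D = H4.inertia ν := by
    ext g
    rw [H4.mem_inertia, Subgroup.mem_subgroupOf, hT g g.2]
    constructor
    · intro h
      exact funext fun r => h r r.2
    · intro h r hr
      exact congrFun h ⟨⟨r, hTD (hRT hr)⟩, hr⟩
  obtain ⟨ψ, hψ, hψ0, rfl⟩ := H4.exists_clifford_correspondent hν hNT hI hθ h1
  have hres := H4.res_eq_smul_of_le_inertia hNT hν hI.le hψ hψ0
  haveI := Fintype.ofFinite (T.subgroupOf D)
  haveI := Fintype.ofFinite T
  let e := (Subgroup.subgroupOfEquivOfLe hTD).symm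
  rw [H4.frobenius_reciprocity' _ _ (H3.IsClassFunction_restrict D hχ),
    ← H3.classInner_comp_mulEquiv e]
  refine hev _ (H3.IsIrrCharacter_comp_mulEquiv e hψ) fun r hr => ?_
  have h2 := congrFun hres ⟨⟨r, hTD r.2⟩, hr⟩
  have h3 := congrFun hres 1
  simp only [Pi.smul_apply, smul_eq_mul, map_one, ν, OneMemClass.coe_one, hl.1, mul_one] at h2 h3
  rw [map_one, h3]
  exact h2

/-- a constituent on `R` of a character lying over `lam` on `R' ⊇ [R,R]` is linear -/
theorem exists_lin_const [Finite G] {D R R' : Subgroup G} [Fintype (R.subgroupOf D)] (hRD : R ≤ D)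
    (hR : R' ≤ R) (hc : ∀ a ∈ R, ∀ b ∈ R, a * b * a⁻¹ * b⁻¹ ∈ R') {lam : G → ℂ}
    (hl : MulOn R lam) {θ : D → ℂ} (hθ : IsIrrCharacter D θ) (ho : Over θ R' lam) :
    ∃ ν : G → ℂ, MulOn R ν ∧ (∀ r ∈ R', ν r = lam r) ∧
      classInner (fun r : R.subgroupOf D => θ r) (fun r => ν r) ≠ 0 := by
  classical
  have hθc := H3.IsIrrCharacter_isCharacter hθ
  have hres := H3.IsCharacter_restrict (R.subgroupOf D) hθc
  obtain ⟨ν, hν⟩ := H3.IsClassFunction_exists_irr (H3.IsCharacter_isClassFunction hres)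
    (fun h => H3.IsIrrCharacter_apply_one_ne_zero hθ (congrFun h 1))
  have hνc := H3.IsIrrCharacter_isCharacter ν.2
  obtain ⟨L, hL⟩ := H3.IsCharacter_exists_linear (H3.IsIrrCharacter_isCharacter
    (hl.irr (D.subtype.comp (R.subgroupOf D).subtype) fun x => x.2)) hl.1
  have hL' : ∀ r : R.subgroupOf D, lam r = L r := fun r => congrFun hL r
  -- twist by the inverse of `lam`
  have key : ∀ r : R.subgroupOf D, ((r : D) : G) ∈ R' → ν.1 r = ν.1 1 * lam r := by
    intro r hr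
    have hlin := H3.IsIrrCharacter_isCharacter (H3.isIrrCharacter_linear L⁻¹)
    have h1 := H3.IsCharacter_eq_of_constituent_ker (H3.IsCharacter_mul hlin hres)
      (H3.IsIrrCharacter_mul_linear ν.2 L⁻¹) (g := r) (by
        have h2 := H3.classInner_mul_left (fun r : R.subgroupOf D => θ r)
          (fun g => ((L⁻¹ g : ℂˣ) : ℂ)) (fun g => ((L⁻¹ g : ℂˣ) : ℂ) * ν.1 g)
        rw [mul_comm] at h2
        rw [h2]
        convert hν using 3 with g
        rw [← mul_assoc, ← H3.IsCharacter_apply_inv hlin]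
        simp) (by
        simp only [Pi.mul_apply, map_one, Units.val_one, one_mul, OneMemClass.coe_one]
        rw [ho r hr, hL']
        simp [mul_comm])
    simp only [map_one, Units.val_one, one_mul] at h1
    rw [← h1, hL']
    simp [mul_comm]
  have hz : ∀ z, ‖ν.1 z‖ = ‖ν.1 1‖ := fun z =>
    H3.mem_charCenter_of_commutator ν.2 fun g => by
      rw [key _ (hc z z.2 g g.2), hL']
      simp [mul_comm (L z) (L g)]
  have h1 : ν.1 1 = 1 := by
    have h2 := H3.IsIrrCharacter_classInner_self ν.2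
    rw [H3.classInner_self_eq] at h2
    simp only [hz, Finset.sum_const, Finset.card_univ, nsmul_eq_mul,
      ← Nat.card_eq_fintype_card] at h2
    rw [← mul_assoc, inv_mul_cancel₀ (by exact_mod_cast Nat.card_pos.ne'), one_mul] at h2
    obtain ⟨n, hn, hn'⟩ := H3.IsIrrCharacter_apply_one ν.2
    rw [hn'] at h2 ⊢
    have h3 : n ^ 2 = 1 := by
      simp only [Complex.norm_natCast] at h2
      exact_mod_cast h2
    rw [(Nat.pow_eq_one.1 h3).resolve_right two_ne_zero, Nat.cast_one]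
  obtain ⟨M, hM⟩ := H3.IsCharacter_exists_linear hνc h1
  obtain ⟨F, hF⟩ : ∃ F : G → ℂ, ∀ (g : G) (h : g ∈ R), F g = ν.1 ⟨⟨g, hRD h⟩, h⟩ :=
    ⟨fun g => if h : g ∈ R then ν.1 ⟨⟨g, hRD h⟩, h⟩ else 0, fun g h => dif_pos h⟩
  refine ⟨F, ⟨(hF 1 R.one_mem).trans h1, fun a ha b hb => ?_⟩, fun r hr => ?_, ?_⟩
  · rw [hF a ha, hF b hb, hF _ (mul_mem ha hb), hM]
    simp only
    rw [← Units.val_mul, ← map_mul]
    rfl
  · rw [hF r (hR hr), key _ hr, h1, one_mul]
  · convert hν using 3 with r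
    exact hF r r.2

end group

section jacquet

variable {A : Type*} [Ring A]

/-- the group `1 + e A f` -/
def NGs {e f : A} (hfe : f * e = 0) (he : e * e = e) (hf : f * f = f) : Subgroup Aˣ where
  carrier := NG e f
  one_mem' := by simp [NG]
  mul_mem' := fun {a b} ha hb => by
    have ha' : e * ((a : A) - 1) * f = a - 1 := ha
    have hb' : e * ((b : A) - 1) * f = b - 1 := hb
    have h0 : ((a : A) - 1) * (b - 1) = 0 := by
      rw [← ha', ← hb']
      simp only [mul_assoc]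
      rw [← mul_assoc f e, hfe]; simp
    have h1 : ((a * b : Aˣ) : A) - 1 = (a - 1) + (b - 1) := by
      rw [Units.val_mul, ← sub_eq_zero, ← h0]; noncomm_ring
    show e * (((a * b : Aˣ) : A) - 1) * f = _
    rw [h1, mul_add, add_mul, ha', hb']
  inv_mem' := fun {a} ha => by
    have ha' : e * ((a : A) - 1) * f = a - 1 := ha
    have h0 : ((a : A) - 1) * (a - 1) = 0 := by
      rw [← ha']
      simp only [mul_assoc]
      rw [← mul_assoc f e, hfe]; simp
    have h1 : ((a⁻¹ : Aˣ) : A) - 1 = -(a - 1) := by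
      have h2 : (a : A) * (1 - (a - 1)) = 1 := by rw [← sub_eq_zero, ← neg_zero, ← h0]; noncomm_ring
      rw [Units.inv_eq_of_mul_eq_one_right h2]; abel
    show e * (((a⁻¹ : Aˣ) : A) - 1) * f = _
    rw [h1, mul_neg, neg_mul, ha']

/-- the Jacquet module of a module with a skew form is even -/
theorem jacquet [Finite A] (hreg : ∀ x : A, ∃ y, x * y * x = x) {e f : A} (he : e * e = e)
    (hef : e + f = 1) {α : Aˣ →* Aˣ} (hα : ∀ g, α (α g) = g)
    (h1 : ∀ g ∈ NG e f, α g ∈ NG f e) (h2 : ∀ g ∈ NG f e, α g ∈ NG e f) {L : Subgroup Aˣ}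
    (hL : ∀ l, l ∈ L ↔ (l : A) * e = e * l) (hg : GoodOn α L) {W : Type*} [AddCommGroup W]
    [Module ℂ W] [FiniteDimensional ℂ W] {ρ : Representation ℂ Aˣ W}
    {B : LinearMap.BilinForm ℂ W} (hB : SForm α ρ B) {D : Subgroup Aˣ} [Fintype D]
    (hD : ∀ d ∈ D, f * (d : A) * e = 0) (hN : ∀ g ∈ NG e f, g ∈ D) {θ : D → ℂ}
    (hθ : IsCharacter D θ) (hθN : ∀ n : D, (n : Aˣ) ∈ NG e f → θ n = θ 1) :
    ∃ k : ℤ, classInner (fun x : D => ρ.character x) θ = 2 * k := by
  classical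
  obtain rfl : f = 1 - e := by rw [← hef]; abel
  have hf : (1 - e) * (1 - e) = 1 - e := by rw [sub_mul, mul_sub, mul_sub, he]; simp
  have hfe : (1 - e) * e = 0 := by rw [sub_mul, he]; simp
  have hef' : e * (1 - e) = 0 := by rw [mul_sub, he]; simp
  set N := NGs hfe he hf with hNd
  haveI := Fintype.ofFinite N
  -- the normalizing condition
  have hde : ∀ d ∈ D, (d : A) * e = e * d * e := fun d hd => by
    have := hD d hd
    rw [sub_mul, sub_mul, one_mul, sub_eq_zero] at this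
    exact this
  have hfd : ∀ d ∈ D, (1 - e) * (d : A) = (1 - e) * d * (1 - e) := fun d hd => by
    rw [mul_sub _ 1, hD d hd]; simp
  have hnorm : ∀ l : Aˣ, (l : A) * e = e * l * e →
      (1 - e) * ((l⁻¹ : Aˣ) : A) = (1 - e) * (l⁻¹ : Aˣ) * (1 - e) → ∀ n ∈ N, l * n * l⁻¹ ∈ N := by
    intro l h3 h4 n hn
    have hn' : e * ((n : A) - 1) * (1 - e) = n - 1 := hn
    have h5 : ((l * n * l⁻¹ : Aˣ) : A) - 1 =
        ((l : A) * e) * (n - 1) * ((1 - e) * (l⁻¹ : Aˣ)) := by
      conv_rhs => rw [mul_assoc (l : A) e, ← mul_assoc, mul_assoc (l : A), hn']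
      simp [mul_sub, sub_mul]
    show e * (((l * n * l⁻¹ : Aˣ) : A) - 1) * (1 - e) = _
    rw [h5, h3, h4]
    simp only [← mul_assoc, he]
    rw [mul_assoc _ (1 - e) (1 - e), hf]
  have hnL : ∀ l ∈ L, ∀ n ∈ N, l * n * l⁻¹ ∈ N := fun l hl => hnorm l
    (by rw [← (hL l).1 hl, mul_assoc, he]) (by
      have := (hL _).1 (inv_mem hl)
      rw [mul_sub _ 1, mul_one, mul_assoc, this, ← mul_assoc, hfe]; simp)
  let W0 : Submodule ℂ W := Representation.invariants (ρ.comp N.subtype)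
  have hW0 : ∀ v, v ∈ W0 ↔ ∀ n ∈ N, ρ n v = v := fun v =>
    ⟨fun h n hn => h ⟨n, hn⟩, fun h n => h n n.2⟩
  have hst : ∀ l ∈ L, ∀ v ∈ W0, ρ l v ∈ W0 := fun l hl v hv => (hW0 _).2 fun n hn => by
    have h3 := (hW0 v).1 hv _ (hnL l⁻¹ (inv_mem hl) n hn)
    rw [← Module.End.mul_apply, ← map_mul, show n * l = l * (l⁻¹ * n * l⁻¹⁻¹) by group, map_mul,
      Module.End.mul_apply, h3]
  let ρ0 : Representation ℂ L W0 :=
    Representation.subrepresentation (ρ.comp L.subtype) W0 fun l v hv => hst l l.2 v hv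
  let E : W →ₗ[ℂ] W := (Nat.card N : ℂ)⁻¹ • ∑ n : N, ρ n
  have hE : ∀ v, E v ∈ W0 := fun v => (hW0 _).2 fun n hn => by
    simp only [E, LinearMap.smul_apply, LinearMap.sum_apply, map_smul, map_sum]
    congr 1
    exact Fintype.sum_equiv (Equiv.mulLeft (⟨n, hn⟩ : N)) _ _ fun m => by
      rw [← Module.End.mul_apply, ← map_mul]; rfl
  have hE' : ∀ v ∈ W0, E v = v := fun v hv => by
    simp only [E, LinearMap.smul_apply, LinearMap.sum_apply, fun n : N => (hW0 v).1 hv n n.2,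
      Finset.sum_const, Finset.card_univ, ← Nat.card_eq_fintype_card]
    rw [← Nat.cast_smul_eq_nsmul ℂ, smul_smul, inv_mul_cancel₀ (H3.card_ne_zero_complex N),
      one_smul]
  obtain ⟨β, hβ, hgood⟩ := hg
  have hB0 : SForm β ρ0 (B.restrict W0) := by
    refine ⟨fun u v => hB.skew u v, fun u hu => Subtype.ext ?_, fun g u v => ?_⟩
    · refine howlett_lehrer hreg ρ he hf hef' hfe (fun g hg => (hW0 u).1 u.2 g hg) ?_
      refine hB.nd _ fun w => ?_
      have h3 : B u (E w) = 0 := hu ⟨_, hE w⟩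
      simp only [E, LinearMap.smul_apply, LinearMap.sum_apply, map_smul, map_sum, smul_eq_mul,
        mul_eq_zero, inv_eq_zero, H3.card_ne_zero_complex N, false_or] at h3
      have h4 : NG (1 - e) e = Set.range fun n : N => α (n : Aˣ)⁻¹ := by
        ext g
        constructor
        · intro hg
          exact ⟨⟨(α g)⁻¹, N.inv_mem (h2 g hg)⟩, by simp [hα]⟩
        · rintro ⟨n, rfl⟩
          exact h1 _ (N.inv_mem n.2)
      rw [h4, finsum_mem_range fun a b hab => Subtype.ext (inv_injective (by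
        simpa only [hα] using congrArg α hab)), finsum_eq_sum_of_fintype, map_sum,
        LinearMap.sum_apply, ← h3]
      refine Finset.sum_congr rfl fun n _ => ?_
      have h5 := hB.inv (α n) (ρ (α (n : Aˣ)⁻¹) u) w
      rw [hα, ← Module.End.mul_apply, ← map_mul, ← map_mul, mul_inv_cancel, map_one, map_one,
        Module.End.one_apply] at h5
      exact h5.symm
    · have := hB.inv g u v
      rwa [← hβ] at this
  have hev := hgood.ev hB0
  have hch : ∀ l : L, ρ0.character l = (Nat.card N : ℂ)⁻¹ * ∑ n : N, ρ.character (l * n) := by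
    intro l
    have h3 := LinearMap.trace_restrict_eq_of_forall_mem W0 (ρ l * E)
      (fun v => hst l l.2 _ (hE v))
    have h4 : ρ0 l = (ρ l * E).restrict (fun v _ => hst l l.2 _ (hE v)) := by
      ext v
      show ρ l v = ρ l (E v)
      rw [hE' v v.2]
    rw [Representation.character, h4, h3]
    simp only [E, mul_smul_comm, Finset.mul_sum, map_smul, map_sum, smul_eq_mul, map_mul,
      Representation.character]
  -- the projection onto the Levi subgroup
  have hmul : ∀ a ∈ D, ∀ b ∈ D, (e * (a : A) * e + (1 - e) * a * (1 - e)) *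
      (e * (b : A) * e + (1 - e) * b * (1 - e)) =
      e * (a * b : Aˣ) * e + (1 - e) * (a * b : Aˣ) * (1 - e) := by
    intro a ha b hb
    rw [← hde b hb, ← hfd a ha, ← hfd b hb, ← hfd _ (mul_mem ha hb), Units.val_mul, add_mul,
      mul_add, mul_add, mul_assoc _ e ((b : A) * e), ← mul_assoc e (b : A) e, ← hde b hb,
      mul_assoc _ e (_ * _), ← mul_assoc e (1 - e), hef', ← mul_assoc _ (b : A) e,
      ← mul_assoc _ (b : A) e, mul_assoc (1 - e) (a : A) (b : A), ← Units.val_mul,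
      hD _ (mul_mem ha hb), ← mul_assoc _ (1 - e) (b : A), ← hfd a ha]
    simp [mul_assoc]
  have hone : e * ((1 : Aˣ) : A) * e + (1 - e) * (1 : Aˣ) * (1 - e) = 1 := by
    simp [he, hf]
  let π0 : D →* Aˣ := MonoidHom.toHomUnits
    { toFun := fun d => e * ((d : Aˣ) : A) * e + (1 - e) * (d : Aˣ) * (1 - e)
      map_one' := hone
      map_mul' := fun a b => (hmul a a.2 b b.2).symm }
  have hπ0 : ∀ d : D, (π0 d : A) = e * ((d : Aˣ) : A) * e + (1 - e) * (d : Aˣ) * (1 - e) :=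
    fun _ => rfl
  let π : D →* L := π0.codRestrict L fun d => (hL _).2 (by
    rw [hπ0, add_mul, mul_add, mul_assoc _ e e, mul_assoc _ _ e, he, hfe, ← mul_assoc,
      ← mul_assoc, ← mul_assoc, ← mul_assoc, he, hef']
    simp)
  have hπ : ∀ d : D, ((π d : Aˣ))⁻¹ * d ∈ N := by
    intro d
    have h3 : (((π d : Aˣ)⁻¹ * d : Aˣ) : A) - 1 =
        (((π d : Aˣ)⁻¹ : Aˣ) : A) * e * (d : Aˣ) * (1 - e) := by
      have h4 : ((d : Aˣ) : A) - (π d : Aˣ) = e * ((d : Aˣ) * (1 - e)) := by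
        show _ - (π0 d : A) = _
        rw [hπ0, ← hde d d.2, ← hfd d d.2, ← mul_assoc, mul_sub, ← hde d d.2]
        noncomm_ring
      rw [mul_assoc, mul_assoc, ← h4, mul_sub, Units.inv_mul, Units.val_mul]
    show e * ((((π d : Aˣ)⁻¹ * d : Aˣ) : A) - 1) * (1 - e) = _
    rw [h3, (hL _).1 (inv_mem (π d).2)]
    simp only [← mul_assoc, he]
    rw [mul_assoc _ (1 - e) (1 - e), hf]
  obtain ⟨k, hk⟩ := (hev.comp π).inner (H3.IsCharacter_isGeneralized hθ)
  refine ⟨k, ?_⟩
  rw [← hk, classInner, classInner]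
  congr 1
  simp only [hch, Finset.mul_sum, Finset.sum_mul]
  rw [Finset.sum_comm]
  have h5 : ∀ d : D, ∑ n : N, (Nat.card N : ℂ)⁻¹ * ρ.character ((π d : Aˣ) * n) * conj (θ d) =
      ∑ n : N, (Nat.card N : ℂ)⁻¹ * ρ.character ((d : Aˣ) * n) * conj (θ d) := fun d =>
    (Fintype.sum_equiv (Equiv.mulLeft (⟨_, hπ d⟩ : N)) _ _ fun n => by simp [mul_assoc]).symm
  rw [Finset.sum_comm, Finset.sum_congr rfl fun d _ => h5 d, Finset.sum_comm]
  have h6 : ∀ n : N, ∑ d : D, (Nat.card N : ℂ)⁻¹ * ρ.character ((d : Aˣ) * n) * conj (θ d) =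
      (Nat.card N : ℂ)⁻¹ * ∑ d : D, ρ.character (d : Aˣ) * conj (θ d) := fun n => by
    rw [Finset.mul_sum]
    refine Fintype.sum_equiv (Equiv.mulRight (⟨n, hN n n.2⟩ : D)) _ _ fun d => ?_
    rw [Equiv.coe_mulRight, H3.IsCharacter_mul_of_eq' hθ (hθN ⟨n, hN n n.2⟩ n.2), mul_assoc]
    rfl
  simp only [h6, Finset.sum_const, Finset.card_univ, nsmul_eq_mul, ← Nat.card_eq_fintype_card]
  rw [← mul_assoc, mul_inv_cancel₀ (H3.card_ne_zero_complex N), one_mul]

end jacquet

end Cfsg.Agent.FS
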