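import Cfsg.Agent.Lib.FS.B2
import Cfsg.Agent.Lib.FS.Lin

/-!
# Pattern subgroups of `GL_n` and the chain of mirabolic subgroups
-/

set_option autoImplicit false

open scoped ComplexConjugate
open Module Cfsg Matrix

namespace Cfsg.Agent.FS

variable {K : Type*} [Field K] {n : ℕ}

/-- matrices supported on a relation -/
def Pat (S : Fin n → Fin n → Prop) (x : Matrix (Fin n) (Fin n) K) : Prop :=
  ∀ i j, ¬ S i j → x i j = 0

theorem Pat.mul {S T U : Fin n → Fin n → Prop} {x y : Matrix (Fin n) (Fin n) K} (hx : Pat S x)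
    (hy : Pat T y) (h : ∀ i k j, S i k → T k j → U i j) : Pat U (x * y) := by
  intro i j hij
  rw [Matrix.mul_apply]
  refine Finset.sum_eq_zero fun k _ => ?_
  by_cases h1 : S i k
  · rw [hy k j fun h2 => hij (h i k j h1 h2), mul_zero]
  · rw [hx i k h1, zero_mul]

theorem Pat.add {S : Fin n → Fin n → Prop} {x y : Matrix (Fin n) (Fin n) K} (hx : Pat S x)
    (hy : Pat S y) : Pat S (x + y) := fun i j h => by rw [Matrix.add_apply, hx i j h, hy i j h, add_zero]

theorem Pat.mono {S T : Fin n → Fin n → Prop} {x : Matrix (Fin n) (Fin n) K} (hx : Pat S x)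
    (h : ∀ i j, S i j → T i j) : Pat T x := fun i j hij => hx i j fun h' => hij (h i j h')

theorem Pat.unit {S : Fin n → Fin n → Prop} {x : Matrix (Fin n) (Fin n) K} (hx : Pat S (x - 1)) :
    Pat (fun i j => i = j ∨ S i j) x := fun i j h => by
  have := hx i j fun h' => h (Or.inr h')
  rwa [Matrix.sub_apply, Matrix.one_apply_ne fun h' => h (Or.inl h'), sub_zero] at this

theorem mul_sub_one (a b : GL (Fin n) K) : ((a * b : GL (Fin n) K) : Matrix (Fin n) (Fin n) K) - 1 =
    ((a : Matrix (Fin n) (Fin n) K) - 1) + (b - 1) + (a - 1) * (b - 1) := by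
  rw [Units.val_mul]; noncomm_ring

theorem conj_sub_one (d r : GL (Fin n) K) :
    ((d * r * d⁻¹ : GL (Fin n) K) : Matrix (Fin n) (Fin n) K) - 1 =
      (d : Matrix (Fin n) (Fin n) K) * (r - 1) * (d⁻¹ : GL (Fin n) K) := by
  rw [Units.val_mul, Units.val_mul, mul_sub, sub_mul, mul_one, Units.mul_inv]

variable [Finite K]

/-- the pattern group of a transitive relation -/
def PG (K : Type*) [Field K] [Finite K] (S : Fin n → Fin n → Prop)
    (hS : ∀ i k j, S i k → S k j → S i j) : Subgroup (GL (Fin n) K) :=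
  let M : Submonoid (GL (Fin n) K) :=
    { carrier := {g | Pat S ((g : Matrix (Fin n) (Fin n) K) - 1)}
      one_mem' := fun i j _ => by simp
      mul_mem' := fun {a b} ha hb => by
        show Pat S _
        rw [mul_sub_one]
        exact (Pat.add ha hb).add (Pat.mul ha hb hS) }
  { M with
    inv_mem' := fun {a} ha => by
      have h : a⁻¹ = a ^ (orderOf a - 1) := by
        rw [inv_eq_iff_mul_eq_one, ← pow_succ', Nat.sub_add_cancel (orderOf_pos a),
          pow_orderOf_eq_one]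
      show a⁻¹ ∈ M
      rw [h]
      exact M.pow_mem ha _ }

/-- rows `i ≥ m` are unitriangular -/
def Gm (K : Type*) [Field K] [Finite K] (n m : ℕ) : Subgroup (GL (Fin n) K) :=
  PG K (fun i j => i.val < m ∨ i.val < j.val) fun _ _ _ _ _ => by omega

/-- the unipotent radical of `Gm` -/
def Rm (K : Type*) [Field K] [Finite K] (n m : ℕ) : Subgroup (GL (Fin n) K) :=
  PG K (fun i j => i.val < j.val ∧ m ≤ j.val) fun _ _ _ _ _ => by omega

theorem mem_Gm {m : ℕ} {g : GL (Fin n) K} : g ∈ Gm K n m ↔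
    Pat (fun i j => i.val < m ∨ i.val < j.val) ((g : Matrix (Fin n) (Fin n) K) - 1) := Iff.rfl

theorem mem_Rm {m : ℕ} {g : GL (Fin n) K} : g ∈ Rm K n m ↔
    Pat (fun i j => i.val < j.val ∧ m ≤ j.val) ((g : Matrix (Fin n) (Fin n) K) - 1) := Iff.rfl

theorem Rm_le_Gm (m m' : ℕ) : Rm K n m ≤ Gm K n m' := fun _ hg =>
  (mem_Rm.1 hg).mono fun _ _ h => Or.inr h.1

theorem Rm_le {m m' : ℕ} (h : m ≤ m') : Rm K n m' ≤ Rm K n m := fun _ hg =>
  (mem_Rm.1 hg).mono fun _ _ h => by omega

theorem Gm_le {m m' : ℕ} (h : m ≤ m') : Gm K n m ≤ Gm K n m' := fun _ hg =>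
  (mem_Gm.1 hg).mono fun _ _ h => by omega

theorem Rm_conj {m m' : ℕ} (h : m ≤ m') {d r : GL (Fin n) K} (hd : d ∈ Gm K n m)
    (hr : r ∈ Rm K n m') : d * r * d⁻¹ ∈ Rm K n m' := by
  rw [mem_Rm, conj_sub_one]
  refine Pat.mul (T := fun i j => i = j ∨ (i.val < m ∨ i.val < j.val))
    (Pat.mul (U := fun i j => i.val < j.val ∧ m' ≤ j.val) (mem_Gm.1 hd).unit hr
      fun i k j h1 h2 => ?_) (mem_Gm.1 (inv_mem hd)).unit fun i k j h1 h2 => ?_
  · rcases h1 with rfl | h1 <;> omega
  · rcases h2 with rfl | h2 <;> omega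

/-- the sum of the superdiagonal entries in the rows `i ≥ m` -/
def sm (m : ℕ) (x : Matrix (Fin n) (Fin n) K) : K :=
  ∑ i, ∑ j, if m ≤ i.val ∧ j.val = i.val + 1 then x i j else 0

omit [Finite K] in
theorem sm_add (m : ℕ) (x y : Matrix (Fin n) (Fin n) K) : sm m (x + y) = sm m x + sm m y := by
  simp only [sm, ← Finset.sum_add_distrib]
  refine Finset.sum_congr rfl fun i _ => Finset.sum_congr rfl fun j _ => ?_
  split_ifs <;> simp

omit [Finite K] in
theorem sm_eq_zero {m : ℕ} {S : Fin n → Fin n → Prop} {x : Matrix (Fin n) (Fin n) K}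
    (hx : Pat S x) (h : ∀ i j, S i j → m ≤ i.val → j.val ≠ i.val + 1) : sm m x = 0 := by
  refine Finset.sum_eq_zero fun i _ => Finset.sum_eq_zero fun j _ => ?_
  split_ifs with h1
  · exact hx i j fun h2 => h i j h2 h1.1 h1.2
  · rfl

omit [Finite K] in
theorem sm_zero (m : ℕ) : sm m (0 : Matrix (Fin n) (Fin n) K) = 0 := by simp [sm]

omit [Finite K] in
theorem sm_succ {m : ℕ} {b c : Fin n} (hb : b.val = m) (hc : c.val = m + 1)
    (x : Matrix (Fin n) (Fin n) K) : sm m x = x b c + sm (m + 1) x := by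
  have : x b c = ∑ i, ∑ j, if i = b ∧ j = c then x i j else 0 := by
    rw [Finset.sum_eq_single b, Finset.sum_eq_single c] <;> simp +contextual
  rw [this, sm, sm, ← Finset.sum_add_distrib]
  refine Finset.sum_congr rfl fun i _ => ?_
  rw [← Finset.sum_add_distrib]
  refine Finset.sum_congr rfl fun j _ => ?_
  simp only [Fin.ext_iff]
  split_ifs <;> first | omega | simp

theorem sm_mul (m : ℕ) {m' : ℕ} {a b : GL (Fin n) K} (ha : a ∈ Rm K n m') (hb : b ∈ Rm K n m') :
    sm m (((a * b : GL (Fin n) K) : Matrix (Fin n) (Fin n) K) - 1) =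
      sm m ((a : Matrix (Fin n) (Fin n) K) - 1) + sm m ((b : Matrix (Fin n) (Fin n) K) - 1) := by
  rw [mul_sub_one, sm_add, sm_add, sm_eq_zero (Pat.mul (U := fun i j => i.val + 1 < j.val) ha hb
    fun i k j h1 h2 => by omega) fun i j h _ => by omega, add_zero]

theorem sm_conj {m m' : ℕ} {d r : GL (Fin n) K} (hd : d ∈ Gm K n m) (hr : r ∈ Rm K n m') :
    sm m (((d * r * d⁻¹ : GL (Fin n) K) : Matrix (Fin n) (Fin n) K) - 1) =
      sm m ((r : Matrix (Fin n) (Fin n) K) - 1) := by
  have e : ∀ x y z : Matrix (Fin n) (Fin n) K,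
      x * y * z = y + ((x - 1) * (y * z) + y * (z - 1)) := fun x y z => by noncomm_ring
  have hr' := mem_Rm.1 hr
  have hd' := mem_Gm.1 (inv_mem hd)
  rw [conj_sub_one, e, sm_add, sm_add,
    sm_eq_zero (Pat.mul (U := fun i j => i.val < m ∨ i.val + 1 < j.val) (mem_Gm.1 hd)
      (Pat.mul (U := fun i j => i.val < m ∨ i.val < j.val) hr' hd'.unit fun i k j h1 h2 => by
        rcases h2 with rfl | h2 <;> omega) fun i k j h1 h2 => by omega) fun i j h _ => by omega,
    sm_eq_zero (Pat.mul (U := fun i j => i.val < m ∨ i.val + 1 < j.val) hr' hd'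
      fun i k j h1 h2 => by omega) fun i j h _ => by omega, add_zero, add_zero]

theorem ent_mul {m : ℕ} {c : Fin n} (hc : c.val = m) {a b : GL (Fin n) K} (ha : a ∈ Rm K n m)
    (hb : b ∈ Rm K n m) (k : Fin n) :
    (((a * b : GL (Fin n) K) : Matrix (Fin n) (Fin n) K) - 1) k c =
      ((a : Matrix (Fin n) (Fin n) K) - 1) k c + ((b : Matrix (Fin n) (Fin n) K) - 1) k c := by
  rw [mul_sub_one, Matrix.add_apply, Matrix.add_apply, Pat.mul (U := fun _ j => m < j.val) ha hb
    (fun i k j h1 h2 => by omega) k c (by omega), add_zero]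

theorem ent_inv {m : ℕ} {c : Fin n} (hc : c.val = m) {a : GL (Fin n) K} (ha : a ∈ Rm K n m)
    (k : Fin n) : (((a⁻¹ : GL (Fin n) K) : Matrix (Fin n) (Fin n) K) - 1) k c =
      - ((a : Matrix (Fin n) (Fin n) K) - 1) k c := by
  have := ent_mul hc ha (inv_mem ha) k
  rw [mul_inv_cancel, Units.val_one, sub_self, Matrix.zero_apply] at this
  linear_combination -this

theorem mem_Rm_succ {m : ℕ} {c : Fin n} (hc : c.val = m) {a : GL (Fin n) K} (ha : a ∈ Rm K n m)
    (h : ∀ k, ((a : Matrix (Fin n) (Fin n) K) - 1) k c = 0) : a ∈ Rm K n (m + 1) := by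
  intro i j hij
  by_cases hj : j = c
  · rw [hj, h]
  · exact ha i j (by rw [Fin.ext_iff] at hj; omega)

theorem ent_conj {m : ℕ} {c : Fin n} (hc : c.val = m) {d r : GL (Fin n) K} (hd : d ∈ Gm K n m)
    (hr : r ∈ Rm K n m) (b : Fin n) :
    (((d * r * d⁻¹ : GL (Fin n) K) : Matrix (Fin n) (Fin n) K) - 1) b c =
      ∑ k, (d : Matrix (Fin n) (Fin n) K) b k * ((r : Matrix (Fin n) (Fin n) K) - 1) k c := by
  have e : ∀ y z : Matrix (Fin n) (Fin n) K, y * z = y + y * (z - 1) := fun y z => by noncomm_ring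
  rw [conj_sub_one, mul_assoc, Matrix.mul_apply]
  refine Finset.sum_congr rfl fun k _ => ?_
  rw [e, Matrix.add_apply, Pat.mul (U := fun _ j => m < j.val) (mem_Rm.1 hr)
    (mem_Gm.1 (inv_mem hd)) (fun i k j h1 h2 => by omega) k c (by omega), add_zero]

/-- a matrix with one column above the diagonal -/
def colM (c : Fin n) (a : Fin n → K) : Matrix (Fin n) (Fin n) K :=
  Matrix.of fun i j => if j = c ∧ i.val < c.val then a i else 0

omit [Finite K] in
theorem colM_pat (c : Fin n) (a : Fin n → K) :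
    Pat (fun i j => j = c ∧ i.val < c.val) (colM c a) := fun _ _ h => if_neg h

omit [Finite K] in
theorem colM_mul (c : Fin n) (a b : Fin n → K) : colM c a * colM c b = 0 := by
  ext i j
  exact Pat.mul (U := fun _ _ => False) (colM_pat c a) (colM_pat c b)
    (fun i k j h1 h2 => by rw [h1.1] at h2; omega) i j id

omit [Finite K] in
theorem colM_add (c : Fin n) (a b : Fin n → K) : colM c (a + b) = colM c a + colM c b := by
  ext i j
  simp only [colM, Matrix.of_apply, Matrix.add_apply, Pi.add_apply]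
  split_ifs <;> simp

/-- the unipotent element with one column -/
def colU (c : Fin n) (a : Fin n → K) : GL (Fin n) K :=
  ⟨1 + colM c a, 1 - colM c a,
    by rw [add_mul, mul_sub, mul_sub, colM_mul]; simp,
    by rw [sub_mul, mul_add, mul_add, colM_mul]; simp⟩

omit [Finite K] in
theorem colU_sub (c : Fin n) (a : Fin n → K) :
    (colU c a : Matrix (Fin n) (Fin n) K) - 1 = colM c a := add_sub_cancel_left _ _

omit [Finite K] in
theorem colU_add (c : Fin n) (a b : Fin n → K) : colU c (a + b) = colU c a * colU c b := by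
  apply Units.ext
  rw [← sub_left_inj (a := 1), mul_sub_one, colU_sub, colU_sub, colU_sub, colM_mul, add_zero,
    colM_add]

omit [Finite K] in
theorem colU_zero (c : Fin n) : colU c (0 : Fin n → K) = 1 := by
  have := colU_add c (0 : Fin n → K) 0
  rw [add_zero] at this
  exact left_eq_mul.1 this

theorem colU_mem {m : ℕ} {c : Fin n} (hc : c.val = m) (a : Fin n → K) : colU c a ∈ Rm K n m := by
  rw [mem_Rm, colU_sub]
  exact (colM_pat c a).mono fun i j h => by rw [h.1]; omega

/-- prescribing one row -/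
theorem exists_row {m : ℕ} {b : Fin n} (hb : b.val = m) (v : Fin n → K)
    (hv : ∃ k : Fin n, k.val ≤ m ∧ v k ≠ 0) :
    ∃ d ∈ Gm K n (m + 1), ∀ k : Fin n, k.val ≤ m → (d : Matrix (Fin n) (Fin n) K) b k = v k := by
  obtain ⟨k₀, hk₀, hv⟩ := hv
  let v' : Fin n → K := fun k => if k.val ≤ m then v k else 0
  obtain ⟨u, hu, hub, hs⟩ : ∃ u : Fin n → K, (∀ i : Fin n, ¬ i.val ≤ m → u i = 0) ∧ u b = 1 ∧
      v' ⬝ᵥ u ≠ 0 := by
    by_cases h : v b = 0
    · have hne : k₀ ≠ b := fun h' => hv (h' ▸ h)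
      refine ⟨Pi.single b 1 + Pi.single k₀ 1, fun i hi => ?_, by simp [hne.symm], ?_⟩
      · rw [Pi.add_apply, Pi.single_eq_of_ne, Pi.single_eq_of_ne, add_zero] <;>
          rintro rfl <;> omega
      · simp [v', h, hk₀, hv]
    · refine ⟨Pi.single b 1, fun i hi => Pi.single_eq_of_ne (by rintro rfl; omega) _, by simp, ?_⟩
      simp [v', hb, h]
  let w : Fin n → K := v' - Pi.single b 1
  let x := vecMulVec u w
  have hxx : x * x = (v' ⬝ᵥ u - 1) • x := by
    rw [vecMulVec_mul_vecMulVec, vecMulVec_smul]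
    simp [w, hub, x]
  have h1 : (1 + x) * (1 - (v' ⬝ᵥ u)⁻¹ • x) = 1 := by
    rw [add_mul, mul_sub, mul_sub, mul_smul_comm, mul_smul_comm, hxx, smul_smul, mul_sub,
      inv_mul_cancel₀ hs]
    simp [sub_smul]
  refine ⟨⟨1 + x, _, h1, mul_eq_one_comm.1 h1⟩, fun i j hij => ?_, fun k hk => ?_⟩
  · show (1 + x - 1) i j = 0
    rw [add_sub_cancel_left]
    show u i * w j = 0
    rw [hu i (by omega), zero_mul]
  · show (1 + x) b k = _
    simp only [Matrix.add_apply, x, vecMulVec_apply, hub, w, v', Pi.sub_apply, if_pos hk,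
      Matrix.one_apply, Pi.single_apply, eq_comm (a := k)]
    ring

section chain

variable {φ : K → ℂ} (hφ : ∀ a b, φ (a + b) = φ a * φ b) (h0 : φ 0 = 1) (h1 : ∃ a, φ a ≠ 1)

/-- the character given by the superdiagonal in rows `i ≥ m` -/
noncomputable def psi (φ : K → ℂ) (m : ℕ) (g : GL (Fin n) K) : ℂ :=
  φ (sm m ((g : Matrix (Fin n) (Fin n) K) - 1))

include hφ h0 in
theorem psi_mulOn (m m' : ℕ) : MulOn (Rm K n m') (psi φ m) :=
  ⟨by rw [psi, Units.val_one, sub_self, sm_zero, h0], fun a ha b hb => by rw [psi, sm_mul m ha hb, hφ]; rfl⟩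

include hφ h0 h1 in
theorem chain_step {χ : GL (Fin n) K → ℂ} (hχ : IsClassFunction _ χ) {m : ℕ} (hm : m + 1 < n)
    (hA : EvOver χ (Gm K n (m + 1)) (Rm K n (m + 1)) (psi φ (m + 1)))
    (hB : EvOver χ (Gm K n m) (Rm K n (m + 1)) (psi φ m)) :
    EvOver χ (Gm K n (m + 1)) (Rm K n (m + 1 + 1)) (psi φ (m + 1)) := by
  intro _ θ hθ ho
  let b : Fin n := ⟨m, by omega⟩
  let c : Fin n := ⟨m + 1, hm⟩
  have hb : b.val = m := rfl
  have hc : c.val = m + 1 := rfl
  haveI := Fintype.ofFinite ((Rm K n (m + 1)).subgroupOf (Gm K n (m + 1)))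
  obtain ⟨ν, hν, hνR, hν0⟩ := exists_lin_const (Rm_le_Gm (m + 1) (m + 1)) (Rm_le (Nat.le_succ _))
    (fun x hx y hy => mem_Rm_succ hc (mul_mem (mul_mem (mul_mem hx hy) (inv_mem hx)) (inv_mem hy))
      fun k => by
        rw [ent_mul hc (mul_mem (mul_mem hx hy) (inv_mem hx)) (inv_mem hy),
          ent_mul hc (mul_mem hx hy) (inv_mem hx), ent_mul hc hx hy, ent_inv hc hx, ent_inv hc hy]
        ring) (psi_mulOn hφ h0 (m + 1) (m + 1)) hθ ho
  obtain ⟨l, hl⟩ := exists_dual_of_addChar hφ h0 h1 (ν := fun a : Fin n → K => ν (colU c a))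
    (fun a a' => by rw [colU_add, hν.2 _ (colU_mem hc a) _ (colU_mem hc a')])
    (by rw [colU_zero, hν.1])
  let v : Fin n → K := fun k => l (Pi.single k 1)
  have hpc : ∀ a : Fin n → K, sm (m + 1) (colM c a) = 0 := fun a =>
    sm_eq_zero (colM_pat c a) fun i j h _ => by omega
  have hν' : ∀ r ∈ Rm K n (m + 1), ν r = φ (∑ k, v k * ((r : Matrix (Fin n) (Fin n) K) - 1) k c +
      sm (m + 1) ((r : Matrix (Fin n) (Fin n) K) - 1)) := by
    intro r hr
    set a : Fin n → K := fun k => ((r : Matrix (Fin n) (Fin n) K) - 1) k c with ha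
    have h2 : (colU c a)⁻¹ * r ∈ Rm K n (m + 1 + 1) :=
      mem_Rm_succ hc (mul_mem (inv_mem (colU_mem hc a)) hr) fun k => by
        rw [ent_mul hc (inv_mem (colU_mem hc a)) hr, ent_inv hc (colU_mem hc a), colU_sub, colM,
          Matrix.of_apply]
        split_ifs with h
        · exact neg_add_cancel _
        · rw [hr k c (by simp only [true_and] at h; omega)]; simp
    have h3 := hν.2 _ (colU_mem hc a) _ (Rm_le (Nat.le_succ _) h2)
    have h4 := sm_mul (m + 1) (colU_mem hc a) (Rm_le (Nat.le_succ _) h2)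
    rw [mul_inv_cancel_left] at h3 h4
    rw [h3, hl, hνR _ h2, psi, hφ, h4, colU_sub, hpc, zero_add]
    congr 2
    rw [LinearMap.pi_apply_eq_sum_univ]
    refine Finset.sum_congr rfl fun k _ => ?_
    rw [smul_eq_mul, mul_comm]
    congr 2
    ext j
    simp [Pi.single_apply, eq_comm]
  have hz : ∀ r ∈ Rm K n (m + 1), ∀ k : Fin n, ¬ k.val ≤ m →
      ((r : Matrix (Fin n) (Fin n) K) - 1) k c = 0 := fun r hr k hk => hr k c (by omega)
  by_cases hv : ∃ k : Fin n, k.val ≤ m ∧ v k ≠ 0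
  · obtain ⟨d, hd, hdv⟩ := exists_row hb v hv
    have hcj : ∀ d ∈ Gm K n (m + 1), ∀ r ∈ Rm K n (m + 1), psi φ m (d * r * d⁻¹) =
        φ (∑ k, (d : Matrix (Fin n) (Fin n) K) b k * ((r : Matrix (Fin n) (Fin n) K) - 1) k c +
          sm (m + 1) ((r : Matrix (Fin n) (Fin n) K) - 1)) := fun d hd r hr => by
      rw [psi, sm_succ hb hc, ent_conj hc hd hr, sm_conj hd hr]
    refine cl_step (Rm_le_Gm (m + 1) m) (Gm_le (Nat.le_succ m)) (fun d hd r hr => Rm_conj le_rfl hd hr)
      (psi_mulOn hφ h0 m (m + 1)) (fun g hg => ⟨fun h r hr => ?_, fun h => ?_⟩) hχ hB hθ hd ?_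
    · rw [psi, psi, sm_conj h hr]
    · intro i j hij
      by_cases hi : i = b
      swap
      · exact hg i j (by rw [Fin.ext_iff] at hi; omega)
      have h2 := dual_eq_of_addChar hφ h0 h1
        (l := LinearMap.mul K K ((g : Matrix (Fin n) (Fin n) K) b j))
        (l' := LinearMap.mul K K ((1 : Matrix (Fin n) (Fin n) K) b j)) fun s => by
          have h3 := h _ (colU_mem hc (Pi.single j s))
          have h4 := hcj 1 (one_mem _) _ (colU_mem hc (Pi.single j s))
          rw [one_mul, inv_one, mul_one] at h4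
          rw [hcj g hg _ (colU_mem hc _), h4, colU_sub, hpc, add_zero, add_zero] at h3
          have h5 : ∀ x : Fin n → K, ∑ k, x k * colM c (Pi.single j s) k c = x j * s := fun x => by
            rw [Finset.sum_eq_single j (fun k _ hk => by simp [colM, hk]) (by simp)]
            have : j.val < c.val := by rw [hi] at hij; omega
            rw [colM, Matrix.of_apply, if_pos ⟨rfl, this⟩, Pi.single_eq_same]
          rwa [h5, h5] at h3
      have h3 := LinearMap.congr_fun h2 1
      rw [hi, Matrix.sub_apply, sub_eq_zero]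
      simpa using h3
    · convert hν0 using 3 with r
      have hr : ((r : Gm K n (m + 1)) : GL (Fin n) K) ∈ Rm K n (m + 1) := r.2
      rw [hcj d hd _ hr, hν' _ hr]
      congr 2
      refine Finset.sum_congr rfl fun k _ => ?_
      by_cases hk : k.val ≤ m
      · rw [hdv k hk]
      · rw [hz _ hr k hk, mul_zero, mul_zero]
  · push Not at hv
    refine cl_step (Rm_le_Gm (m + 1) (m + 1)) le_rfl (fun d hd r hr => Rm_conj le_rfl hd hr)
      (psi_mulOn hφ h0 (m + 1) (m + 1)) (fun g hg => ⟨fun h r hr => ?_, fun _ => hg⟩) hχ hA hθ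
      (one_mem _) ?_
    · rw [psi, psi, sm_conj h hr]
    · convert hν0 using 3 with r
      have hr : ((r : Gm K n (m + 1)) : GL (Fin n) K) ∈ Rm K n (m + 1) := r.2
      rw [one_mul, inv_one, mul_one, hν' _ hr, Finset.sum_eq_zero, zero_add, psi]
      intro k _
      by_cases hk : k.val ≤ m
      · rw [hv k hk, zero_mul]
      · rw [hz _ hr k hk, mul_zero]

end chain

end Cfsg.Agent.FS
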