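import Cfsg.Agent.Lib.FS.C2

/-!
# The unitary core (notes/FS.md, part C)
-/

set_option autoImplicit false

open scoped ComplexConjugate
open Module Cfsg

namespace Cfsg.Agent.FS

universe u v

variable {K : Type u} {V : Type v} [Field K] [AddCommGroup V] [Module K V] {σ : K →+* K}
  {h : V → V → K} {v w : V}

theorem lin_of_comm {G : Type*} [Group G] [Finite G] {ν : G → ℂ} (hν : IsIrrCharacter G ν)
    (hc : ∀ z g, ν (z * g * z⁻¹ * g⁻¹) = ν 1) : ν 1 = 1 ∧ ∀ a b, ν (a * b) = ν a * ν b := by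
  haveI := Fintype.ofFinite G
  have h1 := fun z => H3.mem_charCenter_of_commutator hν (hc z)
  obtain ⟨n, hn, e⟩ := H3.IsIrrCharacter_apply_one hν
  have h2 := H3.IsIrrCharacter_classInner_self hν
  simp only [classInner, Complex.mul_conj', h1, e, Finset.sum_const, Finset.card_univ, nsmul_eq_mul,
    ← Nat.card_eq_fintype_card, ← mul_assoc, inv_mul_cancel₀ (H3.card_ne_zero_complex G), one_mul,
    Complex.norm_natCast] at h2
  have h3 : ν 1 = 1 := by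
    have : n ^ 2 = 1 := by exact_mod_cast h2
    rw [e, show n = 1 by nlinarith, Nat.cast_one]
  have hc' := H3.IsIrrCharacter_isCharacter hν
  obtain ⟨lam, hl⟩ := H3.charCenter_exists_linear hc' (H3.IsIrrCharacter_apply_one_ne_zero hν)
  refine ⟨h3, fun a b => ?_⟩
  have hm := (H3.mem_charCenter hc').2 (h1 a)
  have e1 := hl ⟨a, hm⟩ 1
  rw [mul_one, h3, mul_one] at e1
  exact (hl ⟨a, hm⟩ b).trans (by rw [← e1])

theorem Herm.exists_addChar [Finite K] [CharP K 2] (H : Herm σ h) : ∃ φ : K → ℂ,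
    (∀ a b, φ (a + b) = φ a * φ b) ∧ φ 0 = 1 ∧ (∃ a, φ a ≠ 1) ∧ (∀ a, conj (φ a) = φ a) ∧
      ∀ a, φ (σ a) = φ a := by
  obtain ⟨φ, h1, h2, ⟨a, h3⟩, h4⟩ := FS.exists_addChar K
  obtain ⟨k, hk⟩ := H.ne
  have h0 : k + σ k ≠ 0 := fun e => hk (by
    rw [← CharTwo.sub_eq_add, sub_eq_zero] at e; exact e.symm)
  refine ⟨fun x => φ (a / (k + σ k) * (x + σ x)), fun x y => ?_, by simpa using h2,
    ⟨k, by simpa only [div_mul_cancel₀ _ h0] using h3⟩, fun x => ?_,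
    fun x => by simp only [H.invol, add_comm (σ x)]⟩
  · simp only [← h1, map_add]; congr 1; ring
  · rcases h4 (a / (k + σ k) * (x + σ x)) with e | e <;> simp [e]

namespace Hyp

variable [CharP K 2] (Y : Hyp σ h v w) [Finite V] {ν : Y.N → ℂ}
include Y

/-- characters nontrivial on the centre vanish outside it -/
theorem vanish (hν : IsIrrCharacter Y.N ν) {z : Y.N} {t : K} (hz : IsQ σ h v w z 0 t)
    (h1 : ν z ≠ ν 1) {n : Y.N} {a : V} {s : K} (hn : IsQ σ h v w n a s) (ha : a ≠ 0) : ν n = 0 := by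
  have H := Y.herm
  obtain ⟨c, hc⟩ := H.exists_tr (c := t) (by
    have := hz.tr
    rw [H.zero, ← CharTwo.sub_eq_add, sub_eq_zero] at this
    exact this.symm)
  obtain ⟨U, p, t', S, hU, -⟩ := Y.exists_spl
  obtain ⟨b, hb⟩ := S.res.exists_eq (x := ⟨a, (hU a).2 ⟨hn.av, hn.aw⟩⟩)
    (fun e => ha (congrArg Subtype.val e)) c
  replace hb : h a b = c := hb
  obtain ⟨r, hr⟩ := H.exists_tr (H.self b)
  obtain ⟨u, hu⟩ := Y.exists_Q ((hU b).1 b.2).1 ((hU b).1 b.2).2 hr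
  have e1 := Y.mul hu hn
  have e2 := Y.mul (Y.mul hz hn) hu
  rw [zero_add, H.zero', add_comm a, H.symm a b, hb, show t + s + 0 + r + σ c = r + s + c by
    linear_combination (σ c) * (CharTwo.two_eq_zero : (2 : K) = 0) - hc] at e2
  rw [hb] at e1
  have e3 : (⟨u, Y.mem hu⟩ : Y.N) * n * (⟨u, Y.mem hu⟩ : Y.N)⁻¹ = z * n :=
    mul_inv_eq_iff_eq_mul.2 (Subtype.ext (e1.ext e2))
  have hc' := H3.IsIrrCharacter_isCharacter hν
  obtain ⟨lam, hl⟩ := H3.charCenter_exists_linear hc' (H3.IsIrrCharacter_apply_one_ne_zero hν)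
  have hm := (H3.mem_charCenter hc').2 (H3.IsIrrCharacter_norm_eq_of_mem_center hν (Y.central hz))
  have e4 := hl ⟨z, hm⟩ n
  have e5 := hl ⟨z, hm⟩ 1
  rw [← e3, H3.IsIrrCharacter_isClassFunction hν] at e4
  rw [mul_one] at e5
  by_contra h0
  exact h1 (by rw [e5, (mul_eq_right₀ h0).1 e4.symm, one_mul])

/-- characters trivial on the centre -/
theorem exists_lin [Finite K] (hν : IsIrrCharacter Y.N ν)
    (h1 : ∀ (z : Y.N) t, IsQ σ h v w z 0 t → ν z = ν 1) {φ : K → ℂ}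
    (hφ : ∀ a b, φ (a + b) = φ a * φ b) (h0 : φ 0 = 1) (h2 : ∃ a, φ a ≠ 1) {U : Submodule K V}
    (hU : ∀ x, x ∈ U ↔ h x v = 0 ∧ h x w = 0) (HU : Herm σ fun x y : U => h x y) :
    ν 1 = 1 ∧ ∃ z : U, ∀ (n : Y.N) a t, IsQ σ h v w n a t → ν n = φ (h a z) := by
  obtain ⟨e1, e2⟩ := lin_of_comm hν fun ⟨_, a, _, hz⟩ ⟨_, b, _, hg⟩ => by
    have := Y.mul (Y.mul (Y.mul hz hg) (Y.inv hz)) (Y.inv hg)
    rw [add_right_comm a b a, add_self_two K, zero_add, add_self_two K] at this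
    exact h1 _ _ this
  have e3 : ∀ (n m : Y.N) a t s, IsQ σ h v w n a t → IsQ σ h v w m a s → ν n = ν m :=
    fun n m a t s hn hm => by
      have := Y.mul hn (Y.inv hm)
      rw [add_self_two K] at this
      rw [← inv_mul_cancel_right n m, e2, h1 (n * m⁻¹) _ this, e1, one_mul]
  have e4 : ∀ a : U, ∃ n : Y.N, ∃ t, IsQ σ h v w n a t := fun a => by
    obtain ⟨r, hr⟩ := Y.herm.exists_tr (Y.herm.self a)
    obtain ⟨u, hu⟩ := Y.exists_Q ((hU a).1 a.2).1 ((hU a).1 a.2).2 hr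
    exact ⟨⟨u, Y.mem hu⟩, r, hu⟩
  choose q r hq using e4
  obtain ⟨l, hl⟩ := exists_dual_of_addChar hφ h0 h2 (ν := fun a : U => ν (q a))
    (fun a b => by rw [← e2]; exact e3 _ _ _ _ _ (hq _) (Y.mul (hq a) (hq b)))
    (e1 ▸ e3 _ _ _ _ _ (hq 0) Y.one)
  obtain ⟨z, hz⟩ := HU.exists_fn l
  exact ⟨e1, z, fun n a t hn => by
    rw [e3 _ _ _ _ _ hn (hq ⟨a, (hU a).2 ⟨hn.av, hn.aw⟩⟩), hl, hz]⟩

theorem goodS [Finite K]
    (IH : ∀ U : Submodule K V, Herm σ (fun x y : U => h x y) → Nat.card U < Nat.card V →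
      (GoodU σ fun x y : U => h x y) ∧ ∀ z, GoodS σ (fun x y : U => h x y) z) : GoodS σ h v := by
  have H := Y.herm
  obtain ⟨U, p, t, S, hU, pv, pw, tv, tw', hk⟩ := Y.exists_spl
  obtain ⟨hG, hS⟩ := IH U S.res (S.card_lt Y.ne pv)
  have mem : ∀ (z : U) g, g ∈ (US K (fun x y : U => h x y) z).map S.ι ↔
      (g ∈ US K h v ∧ g w = w) ∧ g z = z := fun z g => by
    rw [S.mem_map, mem_US]
    refine ⟨fun ⟨a, b, c⟩ => ⟨⟨⟨a, b v pv⟩, b w pw⟩, c⟩, fun ⟨⟨⟨a, b⟩, c⟩, d⟩ =>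
      ⟨a, fun x hx => ?_, d⟩⟩
    obtain ⟨k, l, rfl⟩ := hk x hx
    rw [map_add, map_smul, map_smul, b, c]
  have mem0 : ∀ g, g ∈ (US K (fun x y : U => h x y) 0).map S.ι ↔ g ∈ US K h v ∧ g w = w :=
    fun g => by simp [mem]
  obtain ⟨τ₀, hτ₀, -, hg₀⟩ := hS 0
  obtain ⟨α₀, hα₀⟩ := hτ₀.exists_cj H.invol
  obtain ⟨τ, hτ, e1, e2⟩ := S.exists_anti hτ₀
  have τv : τ v = v := by rw [e1 v pv, tv]
  have τw : τ w = w := by rw [e1 w pw, tw']
  refine ⟨τ, hτ, τv, fun α hα => clifford_on (N := Y.N)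
    (H := (US K (fun x y : U => h x y) 0).map S.ι) ⟨fun g hg => mem_US.2 ⟨fun x y => ?_, ?_⟩,
      fun g _ => LinearEquiv.ext fun x => ?_⟩ (fun n ⟨_, _, hn⟩ => ⟨Y.iso hn, Y.fix hn⟩)
    (fun g hg => ((mem0 g).1 hg).1) (fun g hg n ⟨_, _, hn⟩ => ⟨_, _, Y.conj hg hn⟩)
    (fun g hg => ?_) ?_ (fun n ⟨_, _, hn⟩ => ⟨_, _, Y.anti hτ τv τw hα hn⟩) fun ν hν => ?_⟩
  · rw [hα, hα, hτ.form, (mem_US.1 hg).1, hτ.form, H.invol]
  · rw [hα, τv, (mem_US.1 hg).2, τv]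
  · rw [hα, hα, hτ.invol, hτ.invol]
  · obtain ⟨n, a, t, hn, e⟩ := Y.exists_dec hg
    exact ⟨n, ⟨_, _, hn⟩, n⁻¹ * g, (mem0 _).2 ⟨mul_mem (inv_mem ⟨Y.iso hn, Y.fix hn⟩) hg,
      (LinearEquiv.symm_apply_eq n).2 e.symm⟩, by group⟩
  · refine eq_bot_iff.2 fun n ⟨⟨a, t, hn⟩, hn'⟩ => ?_
    have e := (hn.eq w).symm.trans ((mem0 n).1 hn').2
    rw [Y.wv, H.symm0 hn.aw] at e
    have e' := congrArg (h · w) e
    simp only [H.add, H.smul, Y.vw, Y.ww, hn.aw, zero_add, mul_one, mul_zero, add_zero] at e'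
    obtain rfl : a = 0 := by simpa [e'] using e
    exact (e' ▸ hn).ext Y.one
  by_cases h1 : ∀ (z : Y.N) t, IsQ σ h v w z 0 t → ν z = ν 1
  · obtain ⟨φ, f1, f2, f3, f4, f5⟩ := H.exists_addChar
    obtain ⟨n1, z, hz⟩ := Y.exists_lin hν h1 f1 f2 f3 hU S.res
    obtain ⟨τ₁, hτ₁, τz, hg₁⟩ := hS z
    obtain ⟨α₁, hα₁⟩ := hτ₁.exists_cj H.invol
    obtain ⟨τ', hτ', e1', e2'⟩ := S.exists_anti hτ₁
    obtain ⟨α', hα'⟩ := hτ'.exists_cj H.invol
    have τv' : τ' v = v := by rw [e1' v pv, tv]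
    have τw' : τ' w = w := by rw [e1' w pw, tw']
    obtain ⟨x, x1, x2, x3, x4⟩ := hτ.exists_tw H.invol hτ' hα hα'
    refine ⟨x, (mem0 x).2 ⟨⟨x1, (x2 v).trans (by rw [τv, τv'])⟩, by rw [x2, τw, τw']⟩, x3,
      (US K (fun x y : U => h x y) z).map S.ι, fun s => ?_, x4 ▸ S.good e1' e2' hα₁ hα' (hg₁ _ hα₁),
      fun n n' e => ?_, Or.inl n1⟩
    · rw [mem, mem0]
      refine and_congr_right fun hs => ⟨fun hz' n n' e => ?_, fun hs' => ?_⟩
      · obtain ⟨a, t, hn⟩ := n.2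
        rw [hz _ _ _ hn, hz n' _ _ (e ▸ Y.conj' hs.1 hs.2 hn), ← hz', (mem_US.1 hs.1).1, hz']
      · obtain ⟨g, hg, rfl⟩ := (mem0 s).2 hs
        have e : S.res.fn (g.symm z) = S.res.fn z := dual_eq_of_addChar f1 f2 f3 fun a => by
          obtain ⟨r, hr⟩ := H.exists_tr (H.self a)
          obtain ⟨u, hu⟩ := Y.exists_Q ((hU a).1 a.2).1 ((hU a).1 a.2).2 hr
          have hu' := Y.conj' hs.1 hs.2 hu
          have := hs' ⟨u, Y.mem hu⟩ ⟨_, Y.mem hu'⟩ rfl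
          rw [hz ⟨u, Y.mem hu⟩ _ _ hu, hz ⟨_, Y.mem hu'⟩ _ _ hu', S.ι_coe] at this
          have e4 := (mem_US.1 hg).1 a (g.symm z)
          rw [LinearEquiv.apply_symm_apply] at e4
          exact (congrArg φ e4).symm.trans this
        have := S.res.ext' fun x => LinearMap.congr_fun e x
        rw [S.ι_coe, ← (LinearEquiv.symm_apply_eq g).1 this]
    · rw [x4] at e
      obtain ⟨a, t, hn⟩ := n.2
      rw [hz _ _ _ hn, hz n' _ _ (e ▸ Y.anti hτ' τv' τw' hα' hn), f4, hτ'.form' H.invol, e2',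
        τz, f5]
  push Not at h1
  obtain ⟨z, t₀, hz, h1⟩ := h1
  have van := fun (n : Y.N) a s (hn : IsQ σ h v w n a s) => Y.vanish hν hz h1 hn
  have hc' := H3.IsIrrCharacter_isCharacter hν
  refine ⟨1, one_mem _, by simp, _, fun s => ⟨fun hs => ⟨hs, fun n n' e => ?_⟩,
    fun hs => hs.1⟩, by rw [tw_one]; exact S.good e1 e2 hα₀ hα (hg₀ _ hα₀),
    fun n n' e => ?_, Or.inr ⟨Y.pgroup, ?_, fun k hk _ => ?_⟩⟩
  · obtain ⟨a, t, hn⟩ := n.2
    have hn' := e ▸ Y.conj' ((mem0 s).1 hs).1 ((mem0 s).1 hs).2 hn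
    rcases eq_or_ne a 0 with rfl | ha
    · rw [map_zero] at hn'
      exact congrArg ν (Subtype.ext (hn'.ext hn))
    · rw [van _ _ _ hn ha, van _ _ _ hn' (by simpa using ha)]
  · rw [tw_one] at e
    obtain ⟨a, t, hn⟩ := n.2
    have hn' := e ▸ Y.anti hτ τv τw hα hn
    rcases eq_or_ne a 0 with rfl | ha
    · have := hn.tr
      rw [H.zero, ← CharTwo.sub_eq_add, sub_eq_zero] at this
      rw [map_zero, ← this] at hn'
      rw [← H3.IsCharacter_apply_inv hc']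
      exact congrArg ν (Subtype.ext ((hn'.ext hn).trans (eq_inv_of_mul_eq_one_left (Y.sq hn))))
    · rw [van _ _ _ hn ha, van _ _ _ hn' (fun e => ha (by rw [← hτ.invol a, e, map_zero])),
        map_zero]
  · obtain ⟨k₀, hk₀⟩ := H.ne
    have k0 : k₀ ≠ 0 := fun e => hk₀ (by simp [e])
    have k1 : σ k₀ ≠ 0 := by simpa using k0
    obtain ⟨k, k2, k3⟩ : ∃ k : Kˣ, (k : K) * σ k = 1 ∧ 1 + (k : K) ≠ 0 :=
      ⟨Units.mk0 (k₀ / σ k₀) (div_ne_zero k0 k1), by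
        simp only [Units.val_mk0, map_div₀, H.invol]; field_simp, fun e => hk₀ (by
        rw [← CharTwo.sub_eq_add, sub_eq_zero, Units.val_mk0, eq_div_iff k1, one_mul] at e
        exact e)⟩
    let c : Kˣ →* (U ≃ₗ[K] U) := DistribMulAction.toModuleAut K U
    have hc : ∀ x, c k x = (k : K) • x := fun _ => rfl
    have hcm : S.ι (c k) ∈ (US K (fun x y : U => h x y) 0).map S.ι :=
      ⟨c k, mem_US.2 ⟨fun x y => by
        rw [hc, hc, S.res.smul, S.res.smul', ← mul_assoc, k2, one_mul], map_zero _⟩, rfl⟩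
    refine ⟨S.ι (c k), hcm, ?_, ?_, fun y => ?_⟩
    · refine Odd.of_dvd_nat ?_ (((orderOf_map_dvd _ _).trans (orderOf_map_dvd c k)).trans
        (orderOf_dvd_natCard k))
      rw [Nat.card_units]
      exact Nat.Even.sub_odd Nat.card_pos (even_card K) odd_one
    · rintro _ ⟨g, -, rfl⟩
      rw [← map_mul, ← map_mul]
      exact congrArg _ (LinearEquiv.ext fun x => (map_smul g (k : K) x).symm)
    · obtain ⟨a, t, hy⟩ := y.2
      let b : U := (1 + (k : K))⁻¹ • ⟨a, (hU a).2 ⟨hy.av, hy.aw⟩⟩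
      obtain ⟨r, hr⟩ := H.exists_tr (H.self b)
      obtain ⟨u, hu⟩ := Y.exists_Q ((hU b).1 b.2).1 ((hU b).1 b.2).2 hr
      have e := Y.mul (Y.mul (Y.inv hu) hy)
        (Y.conj' ((mem0 _).1 hcm).1 ((mem0 _).1 hcm).2 hu)
      have e' : (b : V) + a + S.ι (c k) b = 0 := by
        rw [S.ι_coe, hc, add_right_comm, ← add_self_two K a]
        congr 1
        show (1 + (k : K))⁻¹ • a + (k : K) • (1 + (k : K))⁻¹ • a = a
        rw [smul_smul, ← add_smul, ← one_add_mul, mul_inv_cancel₀ k3, one_smul]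
      rw [e'] at e
      exact ⟨⟨u, Y.mem hu⟩, ⟨_, Y.mem e⟩,
        H3.IsIrrCharacter_norm_eq_of_mem_center hν (Y.central e), by simp only; group⟩
  · haveI := Fintype.ofFinite Y.N
    obtain ⟨m, m0, hm⟩ := H3.IsIrrCharacter_apply_one hν
    rw [finsum_eq_sum_of_fintype, Complex.re_sum, tw_one]
    refine Finset.sum_pos' (fun y _ => ?_) ⟨1, Finset.mem_univ _, ?_⟩
    · obtain ⟨a, t, hy⟩ := y.2
      have e := Y.mul hy (Y.conj' ((mem0 k).1 hk).1 ((mem0 k).1 hk).2 (Y.anti hτ τv τw hα hy))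
      rw [H4.extendByZero_of_mem Y.N ν (Y.mem e)]
      rcases eq_or_ne (a + k (τ a)) 0 with h0 | h0
      · have h2 : k (τ a) = a := add_left_cancel (h0.trans (add_self_two K a).symm)
        rw [h2, add_self_two K, hy.tr, CharTwo.add_self_eq_zero] at e
        rw [show (⟨_, _⟩ : Y.N) = 1 from Subtype.ext (e.ext Y.one), hm]
        simp
      · rw [van ⟨_, Y.mem e⟩ _ _ e h0]; simp
    · simpa [H4.extendByZero_of_mem Y.N ν Y.N.one_mem, show ν ⟨1, _⟩ = m from hm] using m0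

end Hyp

theorem goodS_of_lt [Finite K] [CharP K 2] {n : ℕ}
    (IH : ∀ (W : Type v) [AddCommGroup W] [Module K W] [Finite W] (h' : W → W → K), Herm σ h' →
      Nat.card W < n → GoodU σ h') [Finite V] (H : Herm σ h) (hn : Nat.card V ≤ n) (hv : v ≠ 0) :
    GoodS σ h v := by
  induction' hm : Nat.card V using Nat.strong_induction_on with m ih generalizing V
  by_cases h0 : h v v = 0
  · obtain ⟨w, Y⟩ := H.exists_hyp hv h0
    refine Y.goodS fun U HU hU => ⟨IH U _ HU (hU.trans_le hn), fun z => ?_⟩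
    rcases eq_or_ne z 0 with rfl | hz
    · exact (IH U _ HU (hU.trans_le hn)).goodS HU
    · exact ih _ (hm ▸ hU) HU (hU.le.trans hn) hz rfl
  · exact goodS_of_ne H (fun U HU hU => IH U _ HU (hU.trans_le hn)) h0

theorem ucore [Finite K] [Finite V] [CharP K 2] (H : Herm σ h)
    (IH : ∀ (W : Type v) [AddCommGroup W] [Module K W] [Finite W] (h' : W → W → K), Herm σ h' →
      Nat.card W < Nat.card V → GoodU σ h')
    {τ : V →+ V} {α : (V ≃ₗ[K] V) →* (V ≃ₗ[K] V)} (hτ : Anti σ h τ)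
    (hα : ∀ g x, α g x = τ (g (τ x))) {P : Subgroup (V ≃ₗ[K] V)} (hP : P ≤ UG K h)
    (h2 : IsPGroup 2 P) : ∃ S, P ≤ S ∧ Sub α (UG K h) S := by
  rcases subsingleton_or_nontrivial V with hV | hV
  · have e : ∀ a b : V ≃ₗ[K] V, a = b := fun a b =>
      LinearEquiv.ext fun _ => Subsingleton.elim _ _
    exact ⟨P, le_rfl, (goodOn_of_comm (fun _ _ _ _ => e _ _) fun _ _ => e _ _).sub hP⟩
  obtain ⟨v, hv, hv'⟩ := exists_fixed_ne_zero h2
  obtain ⟨τ', h1, -, h3⟩ := goodS_of_lt IH H le_rfl hv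
  obtain ⟨α', hα'⟩ := h1.exists_cj H.invol
  obtain ⟨x, x1, -, x3, x4⟩ := hτ.exists_tw H.invol h1 hα hα'
  exact ⟨US K h v, fun g hg => ⟨hP hg, hv' g hg⟩, inf_le_left, x, x1, x3, x4 ▸ h3 α' hα'⟩

end Cfsg.Agent.FS
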