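import Cfsg.Agent.Lib.FS.A3
import Cfsg.Agent.Lib.FS.Lin

/-!
# Hermitian forms: antiunitary involutions and orthogonal splittings
-/

set_option autoImplicit false

open Module Cfsg

namespace Cfsg.Agent.FS

universe u v

variable {K : Type u} {V : Type v} [Field K] [AddCommGroup V] [Module K V] {σ : K →+* K}
  {h : V → V → K}

namespace Herm

variable (H : Herm σ h)
include H

theorem add' (x y z : V) : h x (y + z) = h x y + h x z := by
  rw [H.symm (y + z), H.add, map_add, ← H.symm, ← H.symm]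

theorem smul' (k : K) (x y : V) : h x (k • y) = σ k * h x y := by
  rw [H.symm (k • y), H.smul, map_mul, ← H.symm]

theorem zero (x : V) : h 0 x = 0 := by simpa using H.smul 0 0 x

theorem zero' (x : V) : h x 0 = 0 := by simpa using H.smul' 0 x 0

theorem sub (x y z : V) : h (x - y) z = h x z - h y z := by
  rw [eq_sub_iff_add_eq, ← H.add, sub_add_cancel]

theorem sub' (x y z : V) : h x (y - z) = h x y - h x z := by
  rw [eq_sub_iff_add_eq, ← H.add', sub_add_cancel]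

theorem symm0 {x y : V} (e : h x y = 0) : h y x = 0 := by rw [H.symm, e, map_zero]

theorem self (x : V) : σ (h x x) = h x x := (H.symm x x).symm

theorem ext' {y z : V} (e : ∀ x, h x y = h x z) : y = z :=
  sub_eq_zero.1 (H.nd _ fun x => H.symm0 (by rw [H.sub', e, sub_self]))

/-- the functional `h (·, y)` -/
def fn (y : V) : V →ₗ[K] K where
  toFun x := h x y
  map_add' a b := H.add a b y
  map_smul' k a := H.smul k a y

theorem exists_fn [Finite V] (l : V →ₗ[K] K) : ∃ z, ∀ x, l x = h x z := by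
  have hi : Function.Injective (H.fn : V → Module.Dual K V) := fun y z e =>
    H.ext' fun x => LinearMap.congr_fun e x
  haveI : Module.Finite K V := Module.Finite.of_finite
  have e := (Module.Basis.toDualEquiv (Module.finBasis K V)).toEquiv
  haveI := Finite.of_equiv _ e
  obtain ⟨z, rfl⟩ := (hi.bijective_of_nat_card_le (Nat.card_congr e).ge).2 l
  exact ⟨z, fun _ => rfl⟩

theorem exists_eq {x : V} (hx : x ≠ 0) (c : K) : ∃ y, h x y = c := by
  obtain ⟨y, hy⟩ : ∃ y, h x y ≠ 0 := by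
    by_contra! h0
    exact hx (H.nd x h0)
  exact ⟨σ (c / h x y) • y, by rw [H.smul', H.invol, div_mul_cancel₀ _ hy]⟩

variable [CharP K 2]

theorem exists_tr {c : K} (hc : σ c = c) : ∃ t, t + σ t = c := by
  obtain ⟨k, hk⟩ := H.ne
  have h0 : k + σ k ≠ 0 := fun e => hk (by
    rw [← CharTwo.sub_eq_add, sub_eq_zero] at e; exact e.symm)
  refine ⟨c * k / (k + σ k), ?_⟩
  rw [map_div₀, map_mul, map_add, H.invol, hc, add_comm (σ k) k]
  field_simp

theorem exists_ne_zero [Nontrivial V] : ∃ v, h v v ≠ 0 := by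
  by_contra! h0
  obtain ⟨x, hx⟩ := exists_ne (0 : V)
  obtain ⟨k, hk⟩ := H.ne
  obtain ⟨y, hy⟩ := H.exists_eq hx k
  have := h0 (x + y)
  rw [H.add, H.add', H.add', h0, h0, H.symm x y, hy, zero_add, add_zero, ← CharTwo.sub_eq_add,
    sub_eq_zero] at this
  exact hk this.symm

end Herm

theorem Anti.exists_cj (hσ : ∀ k, σ (σ k) = k) {τ : V →+ V} (hτ : Anti σ h τ) :
    ∃ α : (V ≃ₗ[K] V) →* (V ≃ₗ[K] V), ∀ g x, α g x = τ (g (τ x)) := by
  let f : (V ≃ₗ[K] V) → V ≃ₗ[K] V := fun g =>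
    { toFun := fun x => τ (g (τ x))
      invFun := fun x => τ (g.symm (τ x))
      map_add' := fun x y => by simp
      map_smul' := fun k x => by rw [hτ.smul, map_smul, hτ.smul, hσ]; rfl
      left_inv := fun x => by simp [hτ.invol]
      right_inv := fun x => by simp [hτ.invol] }
  exact ⟨MonoidHom.mk' f fun g g' => LinearEquiv.ext fun x => by
    show τ (g (g' (τ x))) = τ (g (τ (τ (g' (τ x)))))
    rw [hτ.invol], fun _ _ => rfl⟩

theorem Anti.form' (hσ : ∀ k, σ (σ k) = k) {τ : V →+ V} (hτ : Anti σ h τ) (x y : V) :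
    h (τ x) y = σ (h x (τ y)) := by rw [← hτ.form, hτ.invol]

/-- two antiunitary involutions differ by a twist -/
theorem Anti.exists_tw (hσ : ∀ k, σ (σ k) = k) {τ τ' : V →+ V} (hτ : Anti σ h τ)
    (hτ' : Anti σ h τ') {α α' : (V ≃ₗ[K] V) →* (V ≃ₗ[K] V)} (hα : ∀ g x, α g x = τ (g (τ x)))
    (hα' : ∀ g x, α' g x = τ' (g (τ' x))) :
    ∃ x ∈ UG K h, (∀ y, x y = τ' (τ y)) ∧ x * α x = 1 ∧ tw α x = α' := by
  let x : V ≃ₗ[K] V :=
    { toFun := fun y => τ' (τ y)
      invFun := fun y => τ (τ' y)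
      map_add' := fun x y => by simp
      map_smul' := fun k x => by rw [hτ.smul, hτ'.smul, hσ]; rfl
      left_inv := fun x => by simp [hτ.invol, hτ'.invol]
      right_inv := fun x => by simp [hτ.invol, hτ'.invol] }
  refine ⟨x, fun a b => ?_, fun _ => rfl, LinearEquiv.ext fun y => ?_,
    MonoidHom.ext fun g => LinearEquiv.ext fun y => ?_⟩
  · show h (τ' (τ a)) (τ' (τ b)) = _
    rw [hτ'.form, hτ.form, hσ]
  · show τ' (τ (α x y)) = y
    rw [hα, hτ.invol]
    show τ' (τ' (τ (τ y))) = y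
    rw [hτ'.invol, hτ.invol]
  · show τ' (τ (α g (τ (τ' y)))) = _
    rw [hα, hα', hτ.invol, hτ.invol]

/-- the stabilizer of a vector in the unitary group -/
def US (K : Type*) [Field K] [Module K V] (h : V → V → K) (v : V) : Subgroup (V ≃ₗ[K] V) :=
  UG K h ⊓ MulAction.stabilizer (V ≃ₗ[K] V) v

theorem mem_US {v : V} {g : V ≃ₗ[K] V} :
    g ∈ US K h v ↔ (∀ x y, h (g x) (g y) = h x y) ∧ g v = v := Iff.rfl

theorem US_zero : US K h 0 = UG K h := by
  ext g; simp [mem_US, mem_UG]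

/-- the stabilizer of `v` is good for some antiunitary involution fixing `v` -/
def GoodS (σ : K →+* K) (h : V → V → K) (v : V) : Prop :=
  ∃ τ : V →+ V, Anti σ h τ ∧ τ v = v ∧ ∀ α : (V ≃ₗ[K] V) →* (V ≃ₗ[K] V),
    (∀ g x, α g x = τ (g (τ x))) → GoodOn α (US K h v)

/-- `V = ker p ⊥ U` with an antiunitary involution `t` of `ker p` -/
structure Spl (σ : K →+* K) (h : V → V → K) (U : Submodule K V) (p : V →ₗ[K] U) (t : V →+ V) :
    Prop where
  herm : Herm σ h
  proj : ∀ y : U, p y = y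
  orth : ∀ x (y : U), p x = 0 → h x y = 0
  smul : ∀ (k : K) x, t (k • x) = σ k • t x
  zero : ∀ y : U, t y = 0
  ker : ∀ x, p (t x) = 0
  form : ∀ x y, p x = 0 → p y = 0 → h (t x) (t y) = σ (h x y)
  invol : ∀ x, p x = 0 → t (t x) = x

namespace Spl

variable {U : Submodule K V} {p : V →ₗ[K] U} {t : V →+ V} (S : Spl σ h U p t)
include S

theorem compl : IsCompl (LinearMap.ker p) U := (LinearMap.isCompl_of_proj S.proj).symm

theorem dec (x : V) : ∃ y : V, ∃ z : U, p y = 0 ∧ x = y + z :=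
  ⟨x - p x, p x, by rw [map_sub, S.proj, sub_self], (sub_add_cancel _ _).symm⟩

theorem form_add {x x' : V} (hx : p x = 0) (hx' : p x' = 0) (y y' : U) :
    h (x + y) (x' + y') = h x x' + h y y' := by
  rw [S.herm.add, S.herm.add', S.herm.add', S.orth x y' hx, S.herm.symm0 (S.orth x' y hx'),
    add_zero, zero_add]

theorem res : Herm σ fun x y : U => h x y where
  invol := S.herm.invol
  ne := S.herm.ne
  add _ _ _ := S.herm.add _ _ _
  smul _ _ _ := S.herm.smul _ _ _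
  symm _ _ := S.herm.symm _ _
  nd y hy := Subtype.ext (S.herm.nd _ fun x => by
    obtain ⟨x, z, hx, rfl⟩ := S.dec x
    rw [S.herm.add', S.herm.symm0 (S.orth x y hx), hy z, add_zero])

theorem exists_anti {τ : U →+ U} (hτ : Anti σ (fun x y : U => h x y) τ) :
    ∃ τ' : V →+ V, Anti σ h τ' ∧ (∀ x, p x = 0 → τ' x = t x) ∧ ∀ y : U, τ' y = τ y := by
  let τ' : V →+ V := t + U.subtype.toAddMonoidHom.comp (τ.comp p.toAddMonoidHom)
  have e : ∀ x, τ' x = t x + τ (p x) := fun _ => rfl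
  have e1 : ∀ x, p x = 0 → τ' x = t x := fun x hx => by simp [e, hx]
  have e2 : ∀ y : U, τ' y = τ y := fun y => by simp [e, S.zero, S.proj]
  refine ⟨τ', ⟨fun k x => ?_, fun x y => ?_, fun x => ?_⟩, e1, e2⟩
  · rw [e, e, S.smul, map_smul, hτ.smul, smul_add]; rfl
  · obtain ⟨x, z, hx, rfl⟩ := S.dec x
    obtain ⟨y, w, hy, rfl⟩ := S.dec y
    rw [map_add, map_add, e1 x hx, e1 y hy, e2, e2, S.form_add (S.ker x) (S.ker y),
      S.form_add hx hy, S.form x y hx hy, map_add]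
    exact congrArg _ (hτ.form z w)
  · obtain ⟨x, z, hx, rfl⟩ := S.dec x
    rw [map_add, map_add, e1 x hx, e2, e1 _ (S.ker x), e2, S.invol x hx, hτ.invol]

/-- extension by the identity -/
noncomputable def ι : (U ≃ₗ[K] U) →* (V ≃ₗ[K] V) := (ext2 S.compl).comp (MonoidHom.inr _ _)

theorem ι_ker (g : U ≃ₗ[K] U) {x : V} (hx : p x = 0) : S.ι g x = x :=
  ext2_left S.compl (1, g) ⟨x, hx⟩

theorem ι_coe (g : U ≃ₗ[K] U) (y : U) : S.ι g y = g y := ext2_right S.compl (1, g) y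

theorem mem_map [Finite V] {z : U} {g : V ≃ₗ[K] V} :
    g ∈ (US K (fun x y : U => h x y) z).map S.ι ↔
      (∀ x y, h (g x) (g y) = h x y) ∧ (∀ x, p x = 0 → g x = x) ∧ g z = z := by
  constructor
  · rintro ⟨g, hg, rfl⟩
    refine ⟨fun x y => ?_, fun x hx => S.ι_ker g hx, by rw [S.ι_coe, (mem_US.1 hg).2]⟩
    obtain ⟨x, a, hx, rfl⟩ := S.dec x
    obtain ⟨y, b, hy, rfl⟩ := S.dec y
    rw [map_add, map_add, S.ι_ker g hx, S.ι_ker g hy, S.ι_coe, S.ι_coe, S.form_add hx hy,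
      S.form_add hx hy]
    exact congrArg _ (hg.1 a b)
  · rintro ⟨h1, h2, h3⟩
    haveI : Module.Finite K V := Module.Finite.of_finite
    have h4 : ∀ y ∈ U, g y ∈ U := fun y hy => by
      obtain ⟨x, a, hx, e⟩ := S.dec (g y)
      have : x = 0 := S.herm.nd x fun w => by
        obtain ⟨w, b, hw, rfl⟩ := S.dec w
        have := h1 y w
        rw [h2 w hw, e, S.herm.add, S.herm.symm0 (S.orth w a hw),
          S.herm.symm0 (S.orth w ⟨y, hy⟩ hw), add_zero] at this
        rw [S.herm.add', this, S.orth x b hx, add_zero]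
      rw [e, this, zero_add]; exact a.2
    refine ⟨resEquiv g h4, ⟨fun a b => h1 a b, Subtype.ext h3⟩, LinearEquiv.ext fun x => ?_⟩
    obtain ⟨x, a, hx, rfl⟩ := S.dec x
    rw [map_add, map_add, S.ι_ker _ hx, S.ι_coe, h2 x hx, resEquiv_apply]

theorem good [Finite V] {τ : U →+ U} {τ' : V →+ V} (e1 : ∀ x, p x = 0 → τ' x = t x)
    (e2 : ∀ y : U, τ' y = τ y) {α : (U ≃ₗ[K] U) →* (U ≃ₗ[K] U)}
    {α' : (V ≃ₗ[K] V) →* (V ≃ₗ[K] V)} (hα : ∀ g x, α g x = τ (g (τ x)))
    (hα' : ∀ g x, α' g x = τ' (g (τ' x))) {T : Subgroup (U ≃ₗ[K] U)} (hT : GoodOn α T) :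
    GoodOn α' (T.map S.ι) :=
  hT.map _ fun g _ => LinearEquiv.ext fun x => by
    obtain ⟨x, a, hx, rfl⟩ := S.dec x
    rw [hα', map_add, map_add, map_add, map_add, e1 x hx, S.ι_ker _ (S.ker x), e1 _ (S.ker x),
      S.invol x hx, S.ι_ker _ hx, e2, S.ι_coe, e2, S.ι_coe, hα]

theorem card_lt [Finite V] {v : V} (hv : v ≠ 0) (h0 : p v = 0) : Nat.card U < Nat.card V :=
  Finite.card_subtype_lt (p := fun x => x ∈ U) (x := v) fun e => hv (by
    have := S.proj ⟨v, e⟩
    rw [h0] at this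
    exact (congrArg Subtype.val this).symm)

end Spl

theorem Herm.exists_spl (H : Herm σ h) {v : V} (hv : h v v ≠ 0) :
    ∃ (U : Submodule K V) (p : V →ₗ[K] U) (t : V →+ V), Spl σ h U p t ∧ p v = 0 ∧ t v = v ∧
      ∀ x, p x = 0 → ∃ k : K, x = k • v := by
  let p : V →ₗ[K] LinearMap.ker (H.fn v) :=
    (LinearMap.id - ((h v v)⁻¹ • H.fn v).smulRight v).codRestrict _ fun x => by
      show h (x - ((h v v)⁻¹ * h x v) • v) v = 0
      rw [H.sub, H.smul]; field_simp; ring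
  have e : ∀ x, (p x : V) = x - ((h v v)⁻¹ * h x v) • v := fun _ => rfl
  have e0 : ∀ x, p x = 0 → ∃ k : K, x = k • v := fun x hx =>
    ⟨_, sub_eq_zero.1 ((e x).symm.trans (congrArg Subtype.val hx))⟩
  have e1 : ∀ k : K, p (k • v) = 0 := fun k => Subtype.ext (by
    rw [e, H.smul, show (h v v)⁻¹ * (k * h v v) = k by field_simp, sub_self]; rfl)
  let t : V →+ V := AddMonoidHom.mk' (fun x => σ ((h v v)⁻¹ * h x v) • v) fun x y => by
    rw [H.add, mul_add, map_add, add_smul]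
  have e2 : ∀ k : K, t (k • v) = σ k • v := fun k => by
    show σ _ • v = _
    rw [H.smul, show (h v v)⁻¹ * (k * h v v) = k by field_simp]
  refine ⟨_, p, t, ⟨H, fun y => Subtype.ext ?_, fun x y hx => ?_, fun k x => ?_, fun y => ?_,
    fun x => e1 _, fun x y hx hy => ?_, fun x hx => ?_⟩, by simpa using e1 1,
    by simpa using e2 1, e0⟩
  · rw [e, show h y v = 0 from y.2]; simp
  · obtain ⟨k, rfl⟩ := e0 x hx
    rw [H.smul, H.symm0 y.2, mul_zero]
  · show σ _ • v = σ k • σ _ • v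
    rw [H.smul, smul_smul, ← map_mul, mul_left_comm]
  · show σ _ • v = 0
    rw [show h y v = 0 from y.2]; simp
  · obtain ⟨k, rfl⟩ := e0 x hx
    obtain ⟨l, rfl⟩ := e0 y hy
    simp only [e2, H.smul, H.smul', map_mul, H.self]
  · obtain ⟨k, rfl⟩ := e0 x hx
    rw [e2, e2, H.invol]

theorem Herm.exists_anti [Finite V] [CharP K 2] (H : Herm σ h) : ∃ τ, Anti σ h τ := by
  induction' hn : Nat.card V using Nat.strong_induction_on with n ih generalizing V
  rcases subsingleton_or_nontrivial V with hV | hV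
  · exact ⟨0, fun _ _ => Subsingleton.elim _ _, fun x y => by
      rw [Subsingleton.elim x 0]; simp [H.zero], fun _ => Subsingleton.elim _ _⟩
  obtain ⟨v, hv⟩ := H.exists_ne_zero
  obtain ⟨U, p, t, S, h0, -, -⟩ := H.exists_spl hv
  obtain ⟨τ, hτ⟩ := ih _ (hn ▸ S.card_lt (fun e => hv (by rw [e, H.zero])) h0) S.res rfl
  obtain ⟨τ', h1, -⟩ := S.exists_anti hτ
  exact ⟨τ', h1⟩

theorem GoodU.goodS [Finite V] [CharP K 2] (H : Herm σ h) (hU : GoodU σ h) : GoodS σ h 0 := by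
  obtain ⟨τ, hτ⟩ := H.exists_anti
  exact ⟨τ, hτ, map_zero _, fun α hα => US_zero (h := h) ▸ hU τ α hτ hα⟩

/-- the stabilizer of a nonisotropic vector -/
theorem goodS_of_ne [Finite V] [CharP K 2] (H : Herm σ h)
    (IH : ∀ U : Submodule K V, Herm σ (fun x y : U => h x y) → Nat.card U < Nat.card V →
      GoodU σ fun x y : U => h x y) {v : V} (hv : h v v ≠ 0) : GoodS σ h v := by
  obtain ⟨U, p, t, S, h0, h1, h2⟩ := H.exists_spl hv
  obtain ⟨τ, hτ, -, hg⟩ := (IH U S.res (S.card_lt (fun e => hv (by rw [e, H.zero])) h0)).goodS S.res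
  obtain ⟨τ', h3, e1, e2⟩ := S.exists_anti hτ
  obtain ⟨α, hα⟩ := hτ.exists_cj H.invol
  refine ⟨τ', h3, by rw [e1 v h0, h1], fun α' hα' => ?_⟩
  have e : US K h v = (US K (fun x y : U => h x y) 0).map S.ι := by
    ext g
    rw [S.mem_map, mem_US]
    refine and_congr_right fun _ => ⟨fun hg => ⟨fun x hx => ?_, map_zero g⟩, fun hg => hg.1 v h0⟩
    obtain ⟨k, rfl⟩ := h2 x hx
    rw [map_smul, hg]
  rw [e]
  exact S.good e1 e2 hα hα' (hg α hα)

end Cfsg.Agent.FS
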