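import Cfsg.Agent.Lib.FS.C1

/-!
# The unipotent radical of the stabilizer of an isotropic vector in a unitary group
-/

set_option autoImplicit false

open Module Cfsg

namespace Cfsg.Agent.FS

universe u v

variable {K : Type u} {V : Type v} [Field K] [AddCommGroup V] [Module K V] {σ : K →+* K}
  {h : V → V → K} {v w a b : V} {t s : K} {g n : V ≃ₗ[K] V}

/-- a hyperbolic pair -/
structure Hyp (σ : K →+* K) (h : V → V → K) (v w : V) : Prop where
  herm : Herm σ h
  vv : h v v = 0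
  ww : h w w = 0
  vw : h v w = 1

/-- `g` is the element `q(a, t)` of the unipotent radical -/
structure IsQ (σ : K →+* K) (h : V → V → K) (v w : V) (g : V ≃ₗ[K] V) (a : V) (t : K) : Prop where
  av : h a v = 0
  aw : h a w = 0
  tr : t + σ t = h a a
  eq : ∀ x, g x = x + (h x a + t * h x v) • v + h x v • a

theorem IsQ.ext (h1 : IsQ σ h v w g a t) (h2 : IsQ σ h v w n a t) : g = n :=
  LinearEquiv.ext fun x => by rw [h1.eq, h2.eq]

theorem Herm.exists_hyp [CharP K 2] (H : Herm σ h) (hv : v ≠ 0) (h0 : h v v = 0) :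
    ∃ w, Hyp σ h v w := by
  obtain ⟨y, hy⟩ := H.exists_eq hv 1
  obtain ⟨c, hc⟩ := H.exists_tr (H.self y)
  refine ⟨y + c • v, H, h0, ?_, by rw [H.add', H.smul', h0, hy, mul_zero, add_zero]⟩
  simp only [H.add, H.add', H.smul, H.smul', h0, hy, H.symm v y, map_one]
  linear_combination hc + h y y * (CharTwo.two_eq_zero : (2 : K) = 0)

namespace Hyp

variable (Y : Hyp σ h v w)
include Y

theorem wv : h w v = 1 := by rw [Y.herm.symm, Y.vw, map_one]

theorem ne : v ≠ 0 := fun e => by simpa [e, Y.herm.zero] using Y.vw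

theorem exists_spl : ∃ (U : Submodule K V) (p : V →ₗ[K] U) (t : V →+ V), Spl σ h U p t ∧
    (∀ x, x ∈ U ↔ h x v = 0 ∧ h x w = 0) ∧ p v = 0 ∧ p w = 0 ∧ t v = v ∧ t w = w ∧
      ∀ x, p x = 0 → ∃ k l : K, x = k • v + l • w := by
  have H := Y.herm
  let p : V →ₗ[K] (LinearMap.ker (H.fn v) ⊓ LinearMap.ker (H.fn w) : Submodule K V) :=
    (LinearMap.id - ((H.fn w).smulRight v + (H.fn v).smulRight w)).codRestrict _ fun x =>
      ⟨show h (x - (h x w • v + h x v • w)) v = 0 by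
        simp [H.sub, H.add, H.smul, Y.vv, Y.wv],
      show h (x - (h x w • v + h x v • w)) w = 0 by
        simp [H.sub, H.add, H.smul, Y.vw, Y.ww]⟩
  have e : ∀ x, (p x : V) = x - (h x w • v + h x v • w) := fun _ => rfl
  have e0 : ∀ x, p x = 0 → ∃ k l : K, x = k • v + l • w := fun x hx =>
    ⟨_, _, sub_eq_zero.1 ((e x).symm.trans (congrArg Subtype.val hx))⟩
  have e1 : ∀ k l : K, p (k • v + l • w) = 0 := fun k l => Subtype.ext (by
    rw [e]; simp [H.add, H.smul, Y.vv, Y.wv, Y.vw, Y.ww])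
  let t : V →+ V := AddMonoidHom.mk' (fun x => σ (h x w) • v + σ (h x v) • w) fun x y => by
    simp only [H.add, map_add, add_smul]; abel
  have e3 : ∀ x, t x = σ (h x w) • v + σ (h x v) • w := fun _ => rfl
  have e2 : ∀ k l : K, t (k • v + l • w) = σ k • v + σ l • w := fun k l => by
    rw [e3]; simp [H.add, H.smul, Y.vv, Y.wv, Y.vw, Y.ww]
  refine ⟨_, p, t, ⟨H, fun y => Subtype.ext ?_, fun x y hx => ?_, fun k x => ?_, fun y => ?_,
    fun x => e1 _ _, fun x y hx hy => ?_, fun x hx => ?_⟩, fun _ => Iff.rfl,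
    by simpa using e1 1 0, by simpa using e1 0 1, by simpa using e2 1 0, by simpa using e2 0 1, e0⟩
  · rw [e, show h y v = 0 from y.2.1, show h y w = 0 from y.2.2]; simp
  · obtain ⟨k, l, rfl⟩ := e0 x hx
    rw [H.add, H.smul, H.smul, H.symm0 y.2.1, H.symm0 y.2.2]; simp
  · simp only [e3, H.smul, map_mul, smul_add, smul_smul]
  · rw [e3, show h y v = 0 from y.2.1, show h y w = 0 from y.2.2]; simp
  · obtain ⟨k, l, rfl⟩ := e0 x hx
    obtain ⟨k', l', rfl⟩ := e0 y hy
    simp [e2, H.smul, H.smul', H.add, H.add', Y.vv, Y.wv, Y.vw, Y.ww]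
  · obtain ⟨k, l, rfl⟩ := e0 x hx
    rw [e2, e2, H.invol, H.invol]

theorem one : IsQ σ h v w 1 0 0 :=
  ⟨Y.herm.zero _, Y.herm.zero _, by simp [Y.herm.zero], fun x => by simp [Y.herm.zero']⟩

theorem uniq (h1 : IsQ σ h v w g a t) (h2 : IsQ σ h v w g b s) : a = b ∧ t = s := by
  have e := (h1.eq w).symm.trans (h2.eq w)
  rw [Y.wv, Y.herm.symm0 h1.aw, Y.herm.symm0 h2.aw] at e
  have e' := congrArg (h · w) e
  simp only [Y.herm.add, Y.herm.smul, Y.vw, Y.ww, h1.aw, h2.aw, zero_add, mul_one, mul_zero,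
    add_zero] at e'
  exact ⟨by simpa [e'] using e, e'⟩

theorem fix (h1 : IsQ σ h v w g a t) : g v = v := by
  rw [h1.eq, Y.vv, Y.herm.symm0 h1.av]; simp

theorem step {f f' : V → V} (ha : h a v = 0) (hb : h b v = 0)
    (h1 : ∀ x, f x = x + (h x a + t * h x v) • v + h x v • a)
    (h2 : ∀ x, f' x = x + (h x b + s * h x v) • v + h x v • b) (x : V) :
    f (f' x) = x + (h x (a + b) + (t + s + h b a) * h x v) • v + h x v • (a + b) := by
  rw [h1, h2]
  simp only [Y.herm.add, Y.herm.add', Y.herm.smul, Y.vv, hb, Y.herm.symm0 ha]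
  module

variable [CharP K 2]

theorem mul (h1 : IsQ σ h v w g a t) (h2 : IsQ σ h v w n b s) :
    IsQ σ h v w (g * n) (a + b) (t + s + h b a) := by
  refine ⟨by rw [Y.herm.add, h1.av, h2.av, add_zero], by rw [Y.herm.add, h1.aw, h2.aw, add_zero],
    ?_, Y.step (f := g) (f' := n) h1.av h2.av h1.eq h2.eq⟩
  simp only [Y.herm.add, Y.herm.add', map_add, ← Y.herm.symm]
  linear_combination h1.tr + h2.tr

theorem exists_Q (h1 : h a v = 0) (h2 : h a w = 0) (h3 : t + σ t = h a a) :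
    ∃ g, IsQ σ h v w g a t := by
  have H := Y.herm
  let f : K → V →ₗ[K] V := fun t =>
    LinearMap.id + (H.fn a + t • H.fn v).smulRight v + (H.fn v).smulRight a
  have e : ∀ t x, f t x = x + (h x a + t * h x v) • v + h x v • a := fun _ _ => rfl
  have key : ∀ t s, t + s = h a a → ∀ x, f t (f s x) = x := fun t s e' x => by
    rw [Y.step h1 h1 (e t) (e s), add_self_two K, e', CharTwo.add_self_eq_zero, H.zero']
    simp
  exact ⟨{ f t with
      invFun := f (σ t)
      left_inv := key _ _ (by rw [add_comm, h3])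
      right_inv := key _ _ h3 }, h1, h2, h3, e t⟩

theorem inv (h1 : IsQ σ h v w g a t) : IsQ σ h v w g⁻¹ a (σ t) := by
  obtain ⟨n, hn⟩ := Y.exists_Q h1.av h1.aw (t := σ t) (by rw [Y.herm.invol, add_comm, h1.tr])
  have := Y.mul h1 hn
  rw [add_self_two K, h1.tr, CharTwo.add_self_eq_zero] at this
  rwa [inv_eq_of_mul_eq_one_right (this.ext Y.one)]

theorem iso (h1 : IsQ σ h v w g a t) (x y : V) : h (g x) (g y) = h x y := by
  rw [h1.eq, h1.eq]
  simp only [Y.herm.add, Y.herm.add', Y.herm.smul, Y.herm.smul', Y.vv, h1.av,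
    Y.herm.symm0 h1.av, map_add, map_mul, Y.herm.symm y v, Y.herm.symm y a, ← h1.tr]
  linear_combination (h x v * σ (h y a) + h x a * σ (h y v) + (t + σ t) * h x v * σ (h y v)) *
    (CharTwo.two_eq_zero : (2 : K) = 0)

theorem conj (hg : g ∈ US K h v) (h1 : IsQ σ h v w n a t) :
    IsQ σ h v w (g * n * g⁻¹) (g a + h (g a) w • v) (t + h (g a) w + σ (h (g a) w)) := by
  obtain ⟨g1, g2⟩ := mem_US.1 hg
  have H := Y.herm
  have e1 : h (g a) v = 0 := by rw [← g2, g1, h1.av]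
  refine ⟨by simp [H.add, H.smul, e1, Y.vv], by
    simp [H.add, H.smul, Y.vw, CharTwo.add_self_eq_zero], ?_, fun x => ?_⟩
  · simp only [H.add, H.add', H.smul, H.smul', e1, H.symm0 e1, Y.vv, g1, map_add, H.invol, ← h1.tr]
    linear_combination (h (g a) w + σ (h (g a) w)) * (CharTwo.two_eq_zero : (2 : K) = 0)
  · obtain ⟨x, rfl⟩ := g.surjective x
    have e2 : h (g x) v = h x v := by rw [← g2, g1, g2]
    have e3 : (g * n * g⁻¹) (g x) = g (n x) := congrArg (fun y => g (n y)) (g.symm_apply_apply x)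
    rw [e3, h1.eq, map_add, map_add, map_smul, map_smul, g2, H.add', H.smul', g1, e2]
    have e4 : h x a + σ (h (g a) w) * h x v + (t + h (g a) w + σ (h (g a) w)) * h x v =
        h x a + t * h x v - h x v * h (g a) w := by
      linear_combination (σ (h (g a) w) * h x v + h x v * h (g a) w) *
        (CharTwo.two_eq_zero : (2 : K) = 0)
    rw [e4]; module

theorem conj' (hg : g ∈ US K h v) (hw : g w = w) (h1 : IsQ σ h v w n a t) :
    IsQ σ h v w (g * n * g⁻¹) (g a) t := by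
  have := Y.conj hg h1
  rw [show h (g a) w = 0 by rw [← hw, (mem_US.1 hg).1, h1.aw]] at this
  simpa using this

theorem exists_dec (hg : g ∈ US K h v) : ∃ n a t, IsQ σ h v w n a t ∧ n w = g w := by
  obtain ⟨g1, g2⟩ := mem_US.1 hg
  have H := Y.herm
  have e1 : h (g w) v = 1 := by rw [← g2, g1, Y.wv]
  obtain ⟨n, hn⟩ := Y.exists_Q (a := g w - w - h (g w) w • v) (t := h (g w) w)
    (by simp [H.sub, H.smul, e1, Y.wv, Y.vv]) (by simp [H.sub, H.smul, Y.ww, Y.vw]) (by
      simp only [H.sub, H.sub', H.smul, H.smul', g1, Y.ww, Y.vv, Y.vw, Y.wv, e1, H.symm (g w) w,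
        H.symm (g w) v, map_one]
      linear_combination (h (g w) w + σ (h (g w) w)) * (CharTwo.two_eq_zero : (2 : K) = 0))
  refine ⟨n, _, _, hn, ?_⟩
  rw [hn.eq, H.symm0 hn.aw, Y.wv]
  module

omit [CharP K 2] in
theorem anti {τ : V →+ V} (hτ : Anti σ h τ) (h1 : τ v = v) (h2 : τ w = w)
    {α : (V ≃ₗ[K] V) →* (V ≃ₗ[K] V)} (hα : ∀ g x, α g x = τ (g (τ x)))
    (hn : IsQ σ h v w n a t) : IsQ σ h v w (α n) (τ a) (σ t) := by
  have H := Y.herm
  refine ⟨by rw [← h1, hτ.form, hn.av, map_zero], by rw [← h2, hτ.form, hn.aw, map_zero],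
    by rw [hτ.form, ← hn.tr, map_add], fun x => ?_⟩
  rw [hα, hn.eq, map_add, map_add, hτ.smul, hτ.smul, hτ.invol, h1, hτ.form' H.invol,
    hτ.form' H.invol, h1, map_add, map_mul, H.invol, H.invol]

/-- the unipotent radical -/
def N : Subgroup (V ≃ₗ[K] V) where
  carrier := {g | ∃ a t, IsQ σ h v w g a t}
  one_mem' := ⟨_, _, Y.one⟩
  mul_mem' := fun ⟨_, _, h1⟩ ⟨_, _, h2⟩ => ⟨_, _, Y.mul h1 h2⟩
  inv_mem' := fun ⟨_, _, h1⟩ => ⟨_, _, Y.inv h1⟩

theorem mem (h1 : IsQ σ h v w g a t) : g ∈ Y.N := ⟨_, _, h1⟩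

theorem comm (h1 : IsQ σ h v w g 0 t) (h2 : IsQ σ h v w n b s) : n * g = g * n := by
  have e1 := Y.mul h1 h2
  have e2 := Y.mul h2 h1
  rw [Y.herm.zero'] at e1
  rw [Y.herm.zero, add_comm b, add_comm s] at e2
  exact e2.ext e1

theorem central {g : Y.N} (h1 : IsQ σ h v w g 0 t) : g ∈ Subgroup.center Y.N :=
  Subgroup.mem_center_iff.2 fun ⟨_, _, _, h2⟩ => Subtype.ext (Y.comm h1 h2)

theorem sq (h1 : IsQ σ h v w g 0 t) : g * g = 1 := by
  have := Y.mul h1 h1
  rw [Y.herm.zero, add_zero, add_zero, CharTwo.add_self_eq_zero] at this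
  exact this.ext Y.one

theorem pgroup : IsPGroup 2 Y.N := fun ⟨g, _, _, h1⟩ => ⟨2, Subtype.ext (by
  have := Y.mul h1 h1
  rw [add_self_two K] at this
  show g ^ (2 * 2) = 1
  rw [pow_mul, pow_two, pow_two, Y.sq this])⟩

end Hyp

end Cfsg.Agent.FS
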