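import Cfsg.Agent.Lib.FS.D2
import Cfsg.Agent.Lib.FS.B
import Cfsg.Agent.Lib.FS.C

/-!
# Centralizers of fixed point free odd order isometry groups (notes/FS.md, part D)
-/

set_option autoImplicit false

open Module Cfsg

namespace Cfsg.Agent.FS

universe u

section cases

variable {F V : Type u} [Field F] [AddCommGroup V] [Module F V]
  {B : LinearMap.BilinForm F V} {C : Subgroup (V ≃ₗ[F] V)}

section U

variable {K : Type u} [Field K] [Algebra F K] [Module K V] {σ : K →+* K} {h : V → V → K}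
  {l : K →ₗ[F] F}

theorem UData.exists_rho (u : UData B C K σ h l) : ∃ ρ : (V ≃ₗ[K] V) →* (V ≃ₗ[F] V),
    Function.Injective ρ ∧ (∀ g x, ρ g x = g x) ∧ GC B C = (UG K h).map ρ := by
  have := u.tower
  let ρ : (V ≃ₗ[K] V) →* (V ≃ₗ[F] V) :=
    { toFun := fun g => g.restrictScalars F
      map_one' := rfl
      map_mul' := fun _ _ => rfl }
  refine ⟨ρ, fun a b e => LinearEquiv.ext fun x => LinearEquiv.congr_fun e x, fun _ _ => rfl, ?_⟩
  ext g
  constructor
  · intro hg
    have hk : ∀ (k : K) x, g (k • x) = k • g x := fun k x => by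
      obtain ⟨r, hr, e⟩ := u.span k
      rw [← e, ← e, GC.comm_span hg hr]
    refine ⟨{ g with map_smul' := hk }, fun x y => eq_of_dual u.lne fun k => ?_, rfl⟩
    rw [← u.herm.smul, ← u.herm.smul, ← u.form, ← u.form, ← (mem_GC.1 hg).1 (k • x), hk]
    rfl
  · rintro ⟨g, hg, rfl⟩
    refine mem_GC.2 ⟨fun x y => by rw [u.form, u.form, ← hg x y]; rfl, fun c hc => ?_⟩
    obtain ⟨k, -, e⟩ := u.scal c hc
    ext x
    rw [LinearEquiv.mul_apply, LinearEquiv.mul_apply, e, e]
    exact (map_smul g k x).symm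

theorem UData.exists_t (u : UData B C K σ h l) {τ : V →+ V} (hτ : Anti σ h τ) :
    ∃ t, TC B C t ∧ t * t = 1 ∧ (∀ x, t x = τ x) ∧ ∀ x, t⁻¹ x = τ x := by
  have := u.tower
  let t₀ : V →ₗ[F] V :=
    { τ with
      map_smul' := fun a x => by
        show τ (a • x) = a • τ x
        rw [← algebraMap_smul K, hτ.smul, u.fix, algebraMap_smul] }
  refine ⟨LinearEquiv.ofInvolutive t₀ hτ.invol, ⟨fun x y => ?_, fun c hc => ?_⟩,
    LinearEquiv.ext hτ.invol, fun _ => rfl, fun _ => rfl⟩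
  · rw [u.form, u.form, ← u.lσ (h x y), ← hτ.form]; rfl
  · obtain ⟨k, h1, e⟩ := u.scal c hc
    refine LinearEquiv.ext fun x => c.injective ?_
    show c (τ (c (τ x))) = (c * c⁻¹) x
    rw [e, e, hτ.smul, hτ.invol, smul_smul, h1, one_smul, mul_inv_cancel]; rfl

theorem UData.goodU [Finite V] (u : UData B C K σ h l) (g : Gen B C) : GoodU σ h := by
  intro τ α hτ hα
  obtain ⟨ρ, h1, h2, h3⟩ := u.exists_rho
  obtain ⟨t, h4, h5, h6, h7⟩ := u.exists_t hτ
  refine GoodOn.of_map ρ h1 (fun s _ => LinearEquiv.ext fun x => ?_) (h3 ▸ g.any h4 h5)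
  show t (ρ s (t⁻¹ x)) = _
  rw [h6, h7, h2, h2, hα]

theorem UData.small [Finite F] [CharP F 2] [Nontrivial V] (u : UData B C K σ h l) (W : Type u)
    [AddCommGroup W] [Module K W] [Finite W] {h' : W → W → K} (H : Herm σ h')
    (IH : ∀ [Module F W] (B' : LinearMap.BilinForm F W) C', Dat B' C' → Gen B' C') :
    GoodU σ h' := by
  have := u.tower
  have := u.fin
  have : CharP K 2 := charP_of_injective_algebraMap (algebraMap F K).injective 2
  let _ : Module F W := Module.compHom W (algebraMap F K)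
  have tw : IsScalarTower F K W := ⟨fun a k x => by
    rw [Algebra.smul_def, mul_smul]; rfl⟩
  have s1 : ∀ (a : F) x y, l (h' (a • x) y) = a • l (h' x y) := fun a x y => by
    rw [← algebraMap_smul K, H.smul, ← Algebra.smul_def, map_smul]
  have s2 : ∀ x y, l (h' x y) = l (h' y x) := fun x y => by rw [H.symm, u.lσ]
  let B' : LinearMap.BilinForm F W := LinearMap.mk₂ F (fun x y => l (h' x y))
    (fun x y z => by rw [H.add, map_add]) s1
    (fun x y z => by rw [s2, H.add, map_add, s2 y, s2 z]) fun a x y => by rw [s2, s1, s2]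
  have inv : ∀ k, k * σ k = 1 → k ≠ 0 := fun k hk => left_ne_zero_of_mul_eq_one hk
  let C' : Subgroup (W ≃ₗ[F] W) :=
    { carrier := {g | ∃ k : K, k * σ k = 1 ∧ ∀ x, g x = k • x}
      one_mem' := ⟨1, by simp, fun x => (one_smul _ _).symm⟩
      mul_mem' := fun {a b} ⟨k, h1, h2⟩ ⟨m, h3, h4⟩ => ⟨k * m, by
        rw [map_mul]; linear_combination m * σ m * h1 + h3, fun x => by
          rw [LinearEquiv.mul_apply, h2, h4, mul_smul]⟩
      inv_mem' := fun {a} ⟨k, h1, h2⟩ => ⟨k⁻¹, by rw [map_inv₀, ← mul_inv, h1, inv_one],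
        fun x => a.injective (by
          rw [h2 (k⁻¹ • x), smul_inv_smul₀ (inv k h1), ← LinearEquiv.mul_apply, mul_inv_cancel]
          rfl)⟩ }
  have hC : ∀ k, k * σ k = 1 → ∃ c ∈ C', ∀ x, c x = k • x := fun k hk =>
    ⟨(LinearEquiv.smulOfNeZero K W k (inv k hk)).restrictScalars F, ⟨k, hk, fun _ => rfl⟩,
      fun _ => rfl⟩
  have d' : Dat B' C' := by
    refine ⟨s2, fun x hx => H.nd x fun y => ?_, ?_, ?_, ?_, fun v hv => ?_⟩
    · rw [H.symm, eq_of_dual u.lne (a := h' y x) (b := 0) fun k => ?_, map_zero]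
      rw [← H.smul, s2, mul_zero, map_zero]
      exact hx _
    · rintro a ⟨k, -, h1⟩ b ⟨m, -, h2⟩
      ext x
      rw [LinearEquiv.mul_apply, LinearEquiv.mul_apply, h1, h2, h2, h1, smul_comm]
    · rintro a ⟨k, h1, h2⟩
      have hp : ∀ (n : ℕ) (x : W), (a ^ n) x = k ^ n • x := fun n => by
        induction n with
        | zero => exact fun x => by simp
        | succ n ih => intro x; rw [pow_succ', pow_succ', LinearEquiv.mul_apply, h2, ih, mul_smul]
      have := Fintype.ofFinite K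
      have he := even_card (V := K) K
      rw [Nat.card_eq_fintype_card] at he
      refine (Nat.Even.sub_odd Fintype.card_pos he odd_one).of_dvd_nat
        (orderOf_dvd_of_pow_eq_one (LinearEquiv.ext fun x => ?_))
      rw [hp, FiniteField.pow_card_sub_one_eq_one k (inv k h1), one_smul]; rfl
    · rintro a ⟨k, h1, h2⟩ x y
      show l (h' (a x) (a y)) = l (h' x y)
      rw [h2, h2, H.smul, H.symm, H.smul, map_mul σ, ← H.symm, ← mul_assoc, h1, one_mul]
    · obtain ⟨a, ha⟩ := H.ne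
      have h0 : σ a ≠ 0 := fun e => ha (by rw [e, ← H.invol a, e, map_zero])
      have h1 : a ≠ 0 := fun e => h0 (by rw [e, map_zero])
      obtain ⟨c, hc, e⟩ := hC (a / σ a) (by rw [map_div₀, H.invol]; field_simp)
      have h2 : (a / σ a - 1) • v = 0 := by rw [sub_smul, ← e, hv c hc, one_smul, sub_self]
      exact (smul_eq_zero.1 h2).resolve_left fun e' =>
        ha ((div_eq_one_iff_eq h0).1 (sub_eq_zero.1 e')).symm
  refine UData.goodU (l := l) ⟨u.fin, tw, H, u.fix, u.lσ, u.lne, fun _ _ => rfl, fun _ hc => hc,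
    fun k => ?_⟩ (IH B' C' d')
  obtain ⟨r, hr, e⟩ := u.span k
  have key : ∀ r ∈ spanC C, ∃ m : K, (∀ x, r x = m • x) ∧ ∃ s ∈ spanC C', ∀ x, s x = m • x := by
    intro r hr
    induction hr using Submodule.span_induction with
    | mem _ h =>
      obtain ⟨c, hc, rfl⟩ := h
      obtain ⟨m, h1, h2⟩ := u.scal c hc
      obtain ⟨c', h3, h4⟩ := hC m h1
      exact ⟨m, h2, c', mem_spanC h3, h4⟩
    | zero => exact ⟨0, by simp, 0, zero_mem _, by simp⟩
    | add _ _ _ _ h1 h2 =>
      obtain ⟨m, h1, s, hs, h3⟩ := h1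
      obtain ⟨m', h2, s', hs', h4⟩ := h2
      exact ⟨m + m', by simp [h1, h2, add_smul], s + s', add_mem hs hs', by simp [h3, h4, add_smul]⟩
    | smul a _ _ h =>
      obtain ⟨m, h1, s, hs, h3⟩ := h
      exact ⟨a • m, by simp [h1], a • s, Submodule.smul_mem _ _ hs, by simp [h3]⟩
  obtain ⟨m, h1, h2⟩ := key r hr
  obtain ⟨v, hv⟩ := exists_ne (0 : V)
  rwa [smul_left_injective K hv ((e v).symm.trans (h1 v))]

theorem UData.gen [Finite F] [Finite V] [CharP F 2] [Nontrivial V] (u : UData B C K σ h l)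
    (d : Dat B C) (IH : ∀ C', Dat B C' → spanC C < spanC C' → Gen B C')
    (IH' : ∀ (W : Type u) [AddCommGroup W] [Module F W] [Finite W], Nat.card W < Nat.card V →
      ∀ (B' : LinearMap.BilinForm F W) C', Dat B' C' → Gen B' C') : Gen B C := by
  have := u.fin
  have : CharP K 2 := charP_of_injective_algebraMap (algebraMap F K).injective 2
  obtain ⟨τ, hτ⟩ := u.herm.exists_anti
  obtain ⟨α, hα⟩ := hτ.exists_cj u.herm.invol
  obtain ⟨ρ, h1, h2, h3⟩ := u.exists_rho
  obtain ⟨t, h4, h5, h6, h7⟩ := u.exists_t hτ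
  have hc : ∀ s, tw (MonoidHom.id _) t (ρ s) = ρ (α s) := fun s => LinearEquiv.ext fun x => by
    show t (ρ s (t⁻¹ x)) = _
    rw [h6, h7, h2, h2, hα]
  refine ⟨t, h4, h5, brauer_on (h4.inv h5) (fun c hc ho => ?_) fun P hP pP => ?_⟩
  · rcases d.odd_step IH h4 h5 hc ho with h | ⟨x, hx, e1, -, e2⟩
    · exact Or.inr h
    · exact Or.inl ⟨inf_le_left, x, hx, e1, e2⟩
  · rw [h3] at hP ⊢
    obtain ⟨S, hS, e1, x, hx, e2, e3⟩ := ucore u.herm (fun W _ _ _ h' H hW => u.small W H
      fun B' C' => IH' W hW B' C') hτ hα (P := P.comap ρ)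
      (fun g hg => (Subgroup.mem_map_iff_mem h1).1 (hP hg)) (pP.comap_of_injective ρ h1)
    refine ⟨S.map ρ, fun g hg => ?_, Subgroup.map_mono e1, ρ x, ⟨x, hx, rfl⟩, ?_, e3.map ρ ?_⟩
    · obtain ⟨g, -, rfl⟩ := hP hg
      exact ⟨g, hS hg, rfl⟩
    · rw [hc, ← map_mul, e2, map_one]
    · intro s _
      rw [tw_apply, hc, tw_apply, map_mul, map_mul, map_inv]

end U

section L

open Matrix

variable {K : Type u} [Field K] [Algebra F K] {n : ℕ} {Φ : V ≃ₗ[F] (Fin n → K) × (Fin n → K)}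
  {l : K →ₗ[F] F}

theorem LData.exists_iota (u : LData B C K n Φ l) : ∃ ι : GL (Fin n) K →* (V ≃ₗ[F] V),
    Function.Injective ι ∧ GC B C = ι.range ∧ ∀ M x, Φ (ι M x) =
      ((M : Matrix (Fin n) (Fin n) K) *ᵥ (Φ x).1,
        (invT n K M : Matrix (Fin n) (Fin n) K) *ᵥ (Φ x).2) := by
  let j : GL (Fin n) K →* ((Fin n → K) ≃ₗ[K] (Fin n → K)) :=
    (Matrix.GeneralLinearGroup.toLin.trans
      (LinearMap.GeneralLinearGroup.generalLinearEquiv K _)).toMonoidHom
  let f : GL (Fin n) K → (V ≃ₗ[F] V) := fun M =>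
    (Φ.trans (((j M).prodCongr (j (invT n K M))).restrictScalars F)).trans Φ.symm
  have hf : ∀ M x, Φ (f M x) = ((M : Matrix (Fin n) (Fin n) K) *ᵥ (Φ x).1,
      (invT n K M : Matrix (Fin n) (Fin n) K) *ᵥ (Φ x).2) := fun M x => Φ.apply_symm_apply _
  let ι : GL (Fin n) K →* (V ≃ₗ[F] V) := MonoidHom.mk' f fun M N => LinearEquiv.ext fun x =>
    Φ.injective (by simp [hf])
  refine ⟨ι, (injective_iff_map_eq_one ι).2 fun M hM => Units.ext (Matrix.ext_of_mulVec_single ?_),
    ?_, hf⟩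
  · intro i
    have := congrArg Prod.fst (hf M (Φ.symm (Pi.single i 1, 0)))
    rw [show f M = 1 from hM] at this
    simpa [-mulVec_single] using this.symm
  ext g
  constructor
  · intro hg
    let g' : (Fin n → K) × (Fin n → K) → (Fin n → K) × (Fin n → K) := fun v => Φ (g (Φ.symm v))
    have hs : ∀ (k k' : K) a b, g' (k • a, k' • b) = (k • (g' (a, b)).1, k' • (g' (a, b)).2) := by
      intro k k' a b
      obtain ⟨r, hr, e⟩ := u.span k k'
      have := e (Φ.symm (a, b))
      rw [Φ.apply_symm_apply, ← Φ.eq_symm_apply] at this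
      rw [← e, GC.comm_span hg hr, this]
    have ha : ∀ v w, g' (v + w) = g' v + g' w := fun v w => by simp [g']
    let f₁ : (Fin n → K) →ₗ[K] (Fin n → K) :=
      { toFun := fun a => (g' (a, 0)).1
        map_add' := fun a b => by rw [← Prod.fst_add, ← ha]; simp
        map_smul' := fun k a => by simpa using congrArg Prod.fst (hs k 0 a 0) }
    let f₂ : (Fin n → K) →ₗ[K] (Fin n → K) :=
      { toFun := fun a => (g' (0, a)).2
        map_add' := fun a b => by rw [← Prod.snd_add, ← ha]; simp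
        map_smul' := fun k a => by simpa using congrArg Prod.snd (hs 0 k 0 a) }
    have hg' : ∀ a b, g' (a, b) = (LinearMap.toMatrix' f₁ *ᵥ a, LinearMap.toMatrix' f₂ *ᵥ b) := by
      intro a b
      rw [LinearMap.toMatrix'_mulVec, LinearMap.toMatrix'_mulVec]
      exact Prod.ext (by simpa [f₁] using (congrArg Prod.fst (hs 1 0 a b)).symm)
        (by simpa [f₂] using (congrArg Prod.snd (hs 0 1 a b)).symm)
    generalize LinearMap.toMatrix' f₁ = M, LinearMap.toMatrix' f₂ = N at hg'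
    have hd : ∀ a b, (M *ᵥ a) ⬝ᵥ (N *ᵥ b) = a ⬝ᵥ b := fun a b => eq_of_dual u.lne fun k => by
      have := hg.1 (Φ.symm (k • a, 0)) (Φ.symm (0, b))
      simp only [u.form] at this
      rw [show Φ (g (Φ.symm (k • a, 0))) = _ from hg' _ _,
        show Φ (g (Φ.symm (0, b))) = _ from hg' _ _] at this
      simpa [mulVec_smul] using this
    have h1 : Nᵀ * M = 1 := by
      ext i j
      have := hd (Pi.single j 1) (Pi.single i 1)
      rw [dotProduct_comm] at this
      simpa [Matrix.mul_apply, dotProduct, one_apply, Pi.single_apply] using this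
    refine ⟨⟨M, Nᵀ, mul_eq_one_comm.1 h1, h1⟩, LinearEquiv.ext fun x => Φ.injective ?_⟩
    refine (hf _ x).trans ?_
    have := hg' (Φ x).1 (Φ x).2
    simp only [g', Prod.mk.eta, LinearEquiv.symm_apply_apply] at this
    rw [this]; rfl
  · rintro ⟨M, rfl⟩
    have hd : ∀ a b : Fin n → K, ((M : Matrix (Fin n) (Fin n) K) *ᵥ a) ⬝ᵥ
        ((invT n K M : Matrix (Fin n) (Fin n) K) *ᵥ b) = a ⬝ᵥ b := fun a b => by
      rw [invT_val, mulVec_transpose, dotProduct_comm, ← dotProduct_mulVec, mulVec_mulVec,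
        Units.inv_mul, one_mulVec, dotProduct_comm]
    refine ⟨fun x y => ?_, fun c hc => LinearEquiv.ext fun x => Φ.injective ?_⟩
    · show B (f M x) (f M y) = B x y
      rw [u.form, u.form, hf, hf, hd, hd]
    · obtain ⟨k, -, e⟩ := u.scal c hc
      show Φ (c (f M x)) = Φ (f M (c x))
      rw [e, hf, hf, e, mulVec_smul, mulVec_smul]

theorem LData.gen [Finite F] [Finite V] [CharP F 2] (u : LData B C K n Φ l)
    (d : Dat B C) (IH : ∀ C', Dat B C' → spanC C < spanC C' → Gen B C') : Gen B C := by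
  have := u.fin
  have : CharP K 2 := charP_of_injective_algebraMap (algebraMap F K).injective 2
  obtain ⟨ι, h1, h2, h3⟩ := u.exists_iota
  let t : V ≃ₗ[F] V := (Φ.trans (LinearEquiv.prodComm F _ _)).trans Φ.symm
  have ht : ∀ x, Φ (t x) = ((Φ x).2, (Φ x).1) := fun x => Φ.apply_symm_apply _
  have h5 : t * t = 1 := LinearEquiv.ext fun x => Φ.injective (by
    rw [LinearEquiv.mul_apply, ht, ht]; rfl)
  have h6 : t⁻¹ = t := inv_eq_of_mul_eq_one_right h5
  have h4 : TC B C t := ⟨fun x y => by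
    rw [u.form, u.form, ht, ht, add_comm, dotProduct_comm, dotProduct_comm (Φ x).2], fun c hc => by
    obtain ⟨k, hk, e⟩ := u.scal c hc
    rw [eq_inv_iff_mul_eq_one, h6]
    refine LinearEquiv.ext fun x => Φ.injective ?_
    simp [ht, e, hk]⟩
  have hc : ∀ s, tw (MonoidHom.id _) t (ι s) = ι (invT n K s) := fun s =>
    LinearEquiv.ext fun x => Φ.injective (by
      show Φ (t (ι s (t⁻¹ x))) = _
      rw [h6, ht, h3, h3, ht, invT_invT])
  have hc' : ∀ x s, tw (tw (MonoidHom.id _) t) (ι x) (ι s) = ι (tw (invT n K) x s) := fun x s => by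
    rw [tw_apply, hc, tw_apply, map_mul, map_mul, map_inv]
  refine ⟨t, h4, h5, ?_⟩
  rw [h2, MonoidHom.range_eq_map]
  refine (goodOn_top.2 (lcore u.big n fun c ho hz => ?_)).map ι fun s _ => hc s
  rcases d.odd_step IH h4 h5 (c := ι c) (h2 ▸ ⟨c, rfl⟩) (orderOf_injective ι h1 c ▸ ho) with
    h | ⟨x, hx, e1, e2, e3⟩
  · exact (hz (Subgroup.mem_center_iff.2 fun g => h1 (by
      rw [map_mul, map_mul, h.1 _ (h2 ▸ ⟨g, rfl⟩)]))).elim
  · obtain ⟨x, rfl⟩ := h2.le hx
    refine ⟨x, h1 (by rw [map_mul, ← hc, e1, map_one]), h1 (by rw [← hc', e2, map_inv]),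
      GoodOn.of_map ι h1 (fun s _ => hc' x s) ?_⟩
    convert e3 using 1
    rw [h2]
    ext g
    simp only [Subgroup.mem_map, Subgroup.mem_inf, MonoidHom.mem_range,
      Subgroup.mem_centralizer_singleton_iff]
    exact ⟨fun ⟨s, hs, e⟩ => ⟨⟨s, e⟩, by rw [← e, ← map_mul, hs, map_mul]⟩,
      fun ⟨⟨s, e⟩, hs⟩ => ⟨s, h1 (by rw [map_mul, map_mul, e, hs]), e⟩⟩

end L

end cases

theorem gen {F V : Type u} [Field F] [AddCommGroup V] [Module F V] [Finite F] [Finite V]
    [CharP F 2] {B : LinearMap.BilinForm F V} {C : Subgroup (V ≃ₗ[F] V)} (d : Dat B C) :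
    Gen B C := by
  induction hn : Nat.card V using Nat.strong_induction_on generalizing V with | _ n ih => ?_
  subst hn
  have : Finite (Module.End F V) := Finite.of_injective _ DFunLike.coe_injective
  induction hM : spanC C using WellFoundedGT.induction generalizing C with | _ M ih' => ?_
  subst hM
  have IH : ∀ C', Dat B C' → spanC C < spanC C' → Gen B C' := fun C' d' h => ih' _ h d' rfl
  rcases subsingleton_or_nontrivial V with hV | hV
  · have e : ∀ a b : V ≃ₗ[F] V, a = b := fun a b => LinearEquiv.ext fun _ => Subsingleton.elim _ _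
    exact ⟨1, ⟨fun _ _ => rfl, fun _ _ => e _ _⟩, e _ _,
      goodOn_of_comm (fun _ _ _ _ => e _ _) fun _ _ => e _ _⟩
  rcases d.trichotomy with h | ⟨K, _, _, _, σ, h, l, u⟩ | ⟨K, _, _, n, Φ, l, u⟩
  · exact d.split h fun W C' hW d' => ih _ hW d' rfl
  · exact u.gen d IH fun W _ _ _ hW B' C' d' => ih _ hW d' rfl
  · exact u.gen d IH

end Cfsg.Agent.FS
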