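import Cfsg.Agent.Lib.FS.Lin

/-!
# The structure of the algebra spanned by `C` (notes/FS.md, part D1)
-/

set_option autoImplicit false

open Module Cfsg

namespace Cfsg.Agent.FS

universe u

variable {F V : Type u} [Field F] [AddCommGroup V] [Module F V]

/-- orthogonal splitting preserved by everything that centralizes `C` -/
def SplitCase (B : LinearMap.BilinForm F V) (C : Subgroup (V ≃ₗ[F] V)) : Prop :=
  ∃ W₁ W₂ : Submodule F V, W₁ ≠ ⊥ ∧ W₂ ≠ ⊥ ∧ IsCompl W₁ W₂ ∧ (∀ x ∈ W₁, ∀ y ∈ W₂, B x y = 0) ∧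
    ∀ g : V ≃ₗ[F] V, (∀ c ∈ C, c * g = g * c) → (∀ x ∈ W₁, g x ∈ W₁) ∧ ∀ x ∈ W₂, g x ∈ W₂

/-- `C` spans a field `K` acting on `V`, and `B` comes from a hermitian form -/
structure UData (B : LinearMap.BilinForm F V) (C : Subgroup (V ≃ₗ[F] V)) (K : Type u) [Field K]
    [Algebra F K] [Module K V] (σ : K →+* K) (h : V → V → K) (l : K →ₗ[F] F) : Prop where
  fin : Finite K
  tower : IsScalarTower F K V
  herm : Herm σ h
  fix : ∀ a : F, σ (algebraMap F K a) = algebraMap F K a
  lσ : ∀ k, l (σ k) = l k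
  lne : l ≠ 0
  form : ∀ x y, B x y = l (h x y)
  scal : ∀ c ∈ C, ∃ k : K, k * σ k = 1 ∧ ∀ x, c x = k • x
  span : ∀ k : K, ∃ r ∈ spanC C, ∀ x, r x = k • x

/-- `C` spans `K × K`, and `V` is `Kⁿ × Kⁿ` with the split form -/
structure LData (B : LinearMap.BilinForm F V) (C : Subgroup (V ≃ₗ[F] V)) (K : Type u) [Field K]
    [Algebra F K] (n : ℕ) (Φ : V ≃ₗ[F] (Fin n → K) × (Fin n → K)) (l : K →ₗ[F] F) : Prop where
  fin : Finite K
  big : ∃ k : K, k ≠ 0 ∧ k ≠ 1
  lne : l ≠ 0
  form : ∀ x y, B x y = l ((Φ x).1 ⬝ᵥ (Φ y).2 + (Φ y).1 ⬝ᵥ (Φ x).2)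
  scal : ∀ c ∈ C, ∃ k : K, k ≠ 0 ∧ ∀ x, Φ (c x) = (k • (Φ x).1, k⁻¹ • (Φ x).2)
  span : ∀ k k' : K, ∃ r ∈ spanC C, ∀ x, Φ (r x) = (k • (Φ x).1, k' • (Φ x).2)

theorem eq_of_dual {K : Type*} [Field K] [Algebra F K] {l : K →ₗ[F] F} (hl : l ≠ 0) {a b : K}
    (h : ∀ k, l (k * a) = l (k * b)) : a = b := by
  by_contra hne
  refine hl (LinearMap.ext fun k => ?_)
  have := h (k * (a - b)⁻¹)
  rwa [← sub_eq_zero, ← map_sub, ← mul_sub, inv_mul_cancel_right₀ (sub_ne_zero.2 hne)] at this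

theorem d1_exists_form [Finite F] {K : Type*} [Field K] [Finite K] [Algebra F K] [Module K V]
    [IsScalarTower F K V] {B : LinearMap.BilinForm F V} {l : K →ₗ[F] F} (hl : l ≠ 0) :
    ∃ h : V → V → K, (∀ k x y, l (k * h x y) = B (k • x) y) ∧
      (∀ x y z, h (x + y) z = h x z + h y z) ∧ ∀ (k : K) x y, h (k • x) y = k * h x y := by
  let Θ : K → Module.Dual F K := fun a => l ∘ₗ LinearMap.mulRight F a
  have hinj : Function.Injective Θ := fun a b h => eq_of_dual hl fun k => LinearMap.congr_fun h k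
  have hc : Nat.card (Module.Dual F K) ≤ Nat.card K :=
    (Nat.card_congr (Module.Basis.toDualEquiv (Module.finBasis F K)).toEquiv).ge
  have : Finite (Module.Dual F K) := Module.finite_of_finite F
  have hs := (hinj.bijective_of_nat_card_le hc).2
  choose h hh using fun x y : V =>
    hs (B.flip y ∘ₗ (LinearMap.toSpanSingleton K V x).restrictScalars F)
  have key : ∀ k x y, l (k * h x y) = B (k • x) y := fun k x y => LinearMap.congr_fun (hh x y) k
  refine ⟨h, key, fun x y z => eq_of_dual hl fun k => ?_, fun c x y => eq_of_dual hl fun k => ?_⟩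
  · rw [mul_add, map_add, key, key, key, smul_add, map_add, LinearMap.add_apply]
  · rw [← mul_assoc, key, key, mul_smul]

/-- `R` is the span of `C`, with the adjoint map `σ`. -/
structure RData (B : LinearMap.BilinForm F V) (C : Subgroup (V ≃ₗ[F] V)) (R : Type u) [CommRing R]
    [Algebra F R] [Module R V] (σ : R →ₐ[F] R) : Prop where
  fin : Finite R
  tower : IsScalarTower F R V
  adj : ∀ (r : R) x y, B (r • x) y = B x (σ r • y)
  faith : ∀ r : R, (∀ x : V, r • x = 0) → r = 0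
  scal : ∀ c ∈ C, ∃ r : R, r * σ r = 1 ∧ ∀ x, c x = r • x
  span : ∀ k : R, ∃ r ∈ spanC C, ∀ x, r x = k • x
  reg : ∀ r : R, ∃ s, r * r * s = r

theorem comm_spanC {C : Subgroup (V ≃ₗ[F] V)} {g : Module.End F V}
    (hg : ∀ c ∈ C, (c : Module.End F V) * g = g * c) {r : Module.End F V} (hr : r ∈ spanC C) :
    r * g = g * r := by
  induction hr using Submodule.span_induction with
  | mem _ h => obtain ⟨c, hc, rfl⟩ := h; exact hg c hc
  | zero => simp
  | add _ _ _ _ h1 h2 => rw [add_mul, mul_add, h1, h2]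
  | smul _ _ _ h => rw [smul_mul_assoc, mul_smul_comm, h]

theorem mem_spanC {C : Subgroup (V ≃ₗ[F] V)} {c : V ≃ₗ[F] V} (hc : c ∈ C) :
    (c : Module.End F V) ∈ spanC C := Submodule.subset_span ⟨c, hc, rfl⟩

theorem mul_mem_spanC {C : Subgroup (V ≃ₗ[F] V)} {r s : Module.End F V} (hr : r ∈ spanC C)
    (hs : s ∈ spanC C) : r * s ∈ spanC C := by
  induction hr using Submodule.span_induction with
  | mem _ h =>
    obtain ⟨c, hc, rfl⟩ := h
    induction hs using Submodule.span_induction with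
    | mem _ h => obtain ⟨d, hd, rfl⟩ := h; exact mem_spanC (C.mul_mem hc hd)
    | zero => simp
    | add _ _ _ _ h1 h2 => rw [mul_add]; exact add_mem h1 h2
    | smul _ _ _ h => rw [mul_smul_comm]; exact Submodule.smul_mem _ _ h
  | zero => simp
  | add _ _ _ _ h1 h2 => rw [add_mul]; exact add_mem h1 h2
  | smul _ _ _ h => rw [smul_mul_assoc]; exact Submodule.smul_mem _ _ h

variable {B : LinearMap.BilinForm F V} {C : Subgroup (V ≃ₗ[F] V)}

theorem Dat.adj_inv (d : Dat B C) {c : V ≃ₗ[F] V} (hc : c ∈ C) (x y : V) :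
    B (c x) y = B x (c⁻¹ y) := by
  rw [← d.iso c hc x, ← LinearEquiv.mul_apply, mul_inv_cancel]; rfl

theorem Dat.eq_of_right (d : Dat B C) {y z : V} (h : ∀ x, B x y = B x z) : y = z :=
  sub_eq_zero.1 (d.nd _ fun x => by rw [d.symm, map_sub, h, sub_self])

theorem Dat.exists_rdata [Finite F] [Finite V] [CharP F 2] (d : Dat B C) :
    ∃ (R : Type u) (_ : CommRing R) (_ : Algebra F R) (_ : Module R V) (σ : R →ₐ[F] R),
      RData B C R σ := by
  let R : Subalgebra F (Module.End F V) :=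
    (spanC C).toSubalgebra (mem_spanC C.one_mem) fun _ _ => mul_mem_spanC
  have hc : ∀ a b : R, a * b = b * a := fun a b => Subtype.ext (comm_spanC (fun c hc =>
    (comm_spanC (fun e he => congrArg LinearEquiv.toLinearMap (d.comm e he c hc)) b.2).symm) a.2)
  let _ : CommRing R := { (inferInstance : Ring R) with mul_comm := hc }
  have : Finite (Module.End F V) := Finite.of_injective _ DFunLike.coe_injective
  have hadj : ∀ r ∈ spanC C, ∃ s ∈ spanC C, ∀ x y, B (r x) y = B x (s y) := fun r hr => by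
    induction hr using Submodule.span_induction with
    | mem _ h =>
      obtain ⟨c, hc, rfl⟩ := h
      exact ⟨_, mem_spanC (C.inv_mem hc), d.adj_inv hc⟩
    | zero => exact ⟨0, zero_mem _, by simp⟩
    | add _ _ _ _ h1 h2 =>
      obtain ⟨s, hs, h1⟩ := h1
      obtain ⟨t, ht, h2⟩ := h2
      exact ⟨s + t, add_mem hs ht, by simp [h1, h2]⟩
    | smul a _ _ h =>
      obtain ⟨s, hs, h⟩ := h
      exact ⟨a • s, Submodule.smul_mem _ _ hs, by simp [h]⟩
  choose s hs hs' using hadj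
  have ext : ∀ {a b : R}, (∀ x y, B x (a.1 y) = B x (b.1 y)) → a = b := fun h =>
    Subtype.ext (LinearMap.ext fun y => d.eq_of_right fun x => h x y)
  let σ₀ : R → R := fun r => ⟨s r r.2, hs r r.2⟩
  have h0 : ∀ (r : R) x y, B x ((σ₀ r).1 y) = B (r.1 x) y := fun r x y => (hs' r r.2 x y).symm
  let σ : R →ₐ[F] R := AlgHom.ofLinearMap
    { toFun := σ₀
      map_add' := fun a b => ext fun x y => by simp [h0]
      map_smul' := fun a b => ext fun x y => by simp [h0] }
    (ext fun x y => h0 1 x y) fun a b => ext fun x y => by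
      show B x ((σ₀ (a * b)).1 y) = B x ((σ₀ a).1 ((σ₀ b).1 y))
      rw [h0, h0, h0, hc]; rfl
  have h2 : (2 : R) = 0 := by
    rw [← map_ofNat (algebraMap F R), CharTwo.two_eq_zero, map_zero]
  have hsq : ∀ r (hr : r ∈ spanC C), ∃ t : R, t * t = ⟨r, hr⟩ := fun r hr => by
    induction hr using Submodule.span_induction with
    | mem _ h =>
      obtain ⟨c, hc, rfl⟩ := h
      obtain ⟨k, hk⟩ := d.odd c hc
      refine ⟨⟨_, mem_spanC (C.pow_mem hc (k + 1))⟩, Subtype.ext (congrArg LinearEquiv.toLinearMap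
        (show c ^ (k + 1) * c ^ (k + 1) = c from ?_))⟩
      rw [← pow_add, show k + 1 + (k + 1) = orderOf c + 1 by omega, pow_succ, pow_orderOf_eq_one,
        one_mul]
    | zero => exact ⟨0, mul_zero _⟩
    | add a b ha hb h1 h3 =>
      obtain ⟨s, h1⟩ := h1
      obtain ⟨t, h3⟩ := h3
      refine ⟨s + t, ?_⟩
      show _ = (⟨a, ha⟩ + ⟨b, hb⟩ : R)
      rw [← h1, ← h3]
      linear_combination (s * t) * h2
    | smul a r hr h =>
      obtain ⟨s, h⟩ := h
      obtain ⟨b, rfl⟩ := exists_sq F a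
      refine ⟨b • s, ?_⟩
      show _ = (b ^ 2 • ⟨r, hr⟩ : R)
      rw [← h, smul_mul_smul_comm, sq]
  have hinj : Function.Injective fun t : R => t * t :=
    Finite.injective_iff_surjective.2 fun r => hsq r r.2
  have hred : IsReduced R := isReduced_iff_pow_one_lt 2 one_lt_two |>.2 fun x hx =>
    hinj (by simpa [sq] using hx)
  refine ⟨R, inferInstance, R.algebra, inferInstance, σ, inferInstance, inferInstance,
    fun r x y => (h0 r x y).symm, fun r h => Subtype.ext (LinearMap.ext h), fun c hc =>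
      ⟨⟨_, mem_spanC hc⟩, ext fun x y => ?_, fun _ => rfl⟩, fun k => ⟨k, k.2, fun _ => rfl⟩,
    fun r => ?_⟩
  · rw [mul_comm]
    exact (h0 _ _ _).trans (d.iso c hc x y)
  · obtain ⟨n, t, h⟩ := IsArtinian.exists_pow_succ_smul_dvd r (1 : R)
    refine ⟨t, (sub_eq_zero.1 (IsNilpotent.eq_zero ⟨n + 1, ?_⟩))⟩
    simp only [smul_eq_mul, Nat.succ_eq_add_one] at h
    rw [show r * r * t - r = r * (r * t - 1) by ring, mul_pow]
    linear_combination r * (r * t - 1) ^ n * h

namespace RData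

variable {R : Type u} [CommRing R] [Algebra F R] [Module R V] {σ : R →ₐ[F] R}

theorem ext (h : RData B C R σ) {a b : R} (e : ∀ x : V, a • x = b • x) : a = b :=
  sub_eq_zero.1 (h.faith _ fun x => by rw [sub_smul, e, sub_self])

theorem invol (h : RData B C R σ) (d : Dat B C) (r : R) : σ (σ r) = r :=
  h.ext fun y => d.eq_of_right fun x => by rw [← h.adj, d.symm, ← h.adj, d.symm]

theorem split (h : RData B C R σ) {e : R} (he : e * e = e) (hs : σ e = e) (h0 : e ≠ 0)
    (h1 : e ≠ 1) : SplitCase B C := by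
  obtain ⟨r, hr, hr'⟩ := h.span e
  have hi : IsIdempotentElem r := LinearMap.ext fun x => by
    rw [Module.End.mul_apply, hr', hr', smul_smul, he]
  refine ⟨LinearMap.range r, LinearMap.ker r, fun e' => h0 (h.faith _ fun x => ?_),
    fun e' => h1 (h.ext fun x => ?_), LinearMap.IsIdempotentElem.isCompl hi, ?_, fun g hg => ?_⟩
  · rw [← hr', LinearMap.range_eq_bot.1 e', LinearMap.zero_apply]
  · refine (LinearMap.ker_eq_bot.1 e') ?_
    rw [hr', hr', one_smul, smul_smul, he]
  · rintro _ ⟨x, rfl⟩ y hy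
    rw [hr', h.adj, hs, ← hr', LinearMap.mem_ker.1 hy, map_zero]
  · have hc : ∀ x, r (g x) = g (r x) := fun x => LinearMap.congr_fun (comm_spanC
      (g := (g : Module.End F V)) (fun c hc => congrArg LinearEquiv.toLinearMap (hg c hc)) hr) x
    exact ⟨fun _ ⟨x, hx⟩ => ⟨g x, hx ▸ hc x⟩, fun x hx => by
      rw [LinearMap.mem_ker, hc, LinearMap.mem_ker.1 hx, map_zero]⟩

theorem exists_ne_one [Nontrivial V] (h : RData B C R σ) (d : Dat B C) :
    ∃ r : R, r * σ r = 1 ∧ r * r ≠ 1 := by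
  obtain ⟨v, hv⟩ := exists_ne (0 : V)
  by_contra hn
  push Not at hn
  refine hv (d.nofix v fun c hc => ?_)
  obtain ⟨r, h1, h2⟩ := h.scal c hc
  have h3 : c ^ 2 = 1 := LinearEquiv.ext fun x => by
    rw [sq, LinearEquiv.mul_apply, h2, h2, smul_smul, hn r h1, one_smul]; rfl
  obtain ⟨k, hk⟩ := d.odd c hc
  have h4 := pow_orderOf_eq_one c
  rw [hk, pow_succ, pow_mul, h3, one_pow, one_mul] at h4
  rw [h4]; rfl

theorem udata [Finite F] [CharP F 2] [Nontrivial V] {K : Type u} [Field K] [Algebra F K]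
    [Module K V] {σ : K →ₐ[F] K} (h : RData B C K σ) (d : Dat B C) :
    ∃ (hh : V → V → K) (l : K →ₗ[F] F), UData B C K (σ : K →+* K) hh l := by
  have := h.fin
  have := h.tower
  have : CharP K 2 := charP_of_injective_algebraMap (algebraMap F K).injective 2
  obtain ⟨r, h1, h2⟩ := h.exists_ne_one d
  have h3 : σ r ≠ r := fun e => h2 (e ▸ h1 :)
  obtain ⟨l₀, hl₀⟩ := Module.Projective.exists_dual_ne_zero F
    (show r + σ r ≠ 0 from fun e => h3 (CharTwo.add_eq_zero.1 e).symm)
  let l : K →ₗ[F] F := l₀ ∘ₗ (LinearMap.id + σ.toLinearMap)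
  have hl : l ≠ 0 := fun e => hl₀ (LinearMap.congr_fun e r)
  have lσ : ∀ k, l (σ k) = l k := fun k => by simp [l, h.invol d, add_comm]
  obtain ⟨hh, e1, e2, e3⟩ := d1_exists_form (B := B) hl
  have form : ∀ x y, B x y = l (hh x y) := fun x y => by simpa using (e1 1 x y).symm
  refine ⟨hh, l, h.fin, h.tower, ⟨h.invol d, ⟨r, h3⟩, e2, e3, fun x y => eq_of_dual hl fun k => ?_,
    fun x hx => d.nd x fun y => by rw [form, hx, map_zero]⟩, σ.commutes, lσ, hl, form, h.scal,
    h.span⟩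
  rw [e1, ← lσ, map_mul, RingHom.coe_coe, h.invol d, e1, h.adj, d.symm]

theorem ldata [Finite F] [Finite V] [Nontrivial V] (h : RData B C R σ) (d : Dat B C) {e : R}
    (he : e * e = e) (he1 : e + σ e = 1) {K : Type u} [Field K] [Algebra F K] [Module K V]
    [IsScalarTower F K V] (ι : K →+* R) (hι : ∀ (k : K) (x : V), k • x = ι k • x)
    (hfix : ∀ r, σ r = r ↔ ∃ k, ι k = r) :
    ∃ (n : ℕ) (Φ : V ≃ₗ[F] (Fin n → K) × (Fin n → K)) (l : K →ₗ[F] F), LData B C K n Φ l := by
  have := h.fin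
  have : Nontrivial R := ⟨⟨1, 0, fun e => by
    obtain ⟨v, hv⟩ := exists_ne (0 : V)
    exact hv (by rw [← one_smul R v, e, zero_smul])⟩⟩
  have : Finite K := Finite.of_injective ι ι.injective
  have he0 : e * σ e = 0 := by linear_combination e * he1 - he
  have hσι : ∀ k, σ (ι k) = ι k := fun k => (hfix _).2 ⟨k, rfl⟩
  obtain ⟨l, hl⟩ := Module.Projective.exists_dual_ne_zero F (one_ne_zero (α := K))
  replace hl : l ≠ 0 := fun e => hl (LinearMap.congr_fun e 1)
  obtain ⟨hh, e1, e2, e3⟩ := d1_exists_form (B := B) hl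
  have form : ∀ x y, B x y = l (hh x y) := fun x y => by simpa using (e1 1 x y).symm
  have adj : ∀ (r : R) x y, hh (r • x) y = hh x (σ r • y) := fun r x y => eq_of_dual hl fun k => by
    rw [e1, e1, hι, hι, smul_comm, h.adj]
  have symm : ∀ x y, hh x y = hh y x := fun x y => eq_of_dual hl fun k => by
    rw [e1, e1, hι, hι, h.adj, hσι, d.symm]
  let H : V →ₗ[K] V →ₗ[K] K := LinearMap.mk₂ K hh e2 e3
    (fun x y z => by rw [symm, e2, symm y, symm z]) fun k x y => by rw [symm, e3, symm y]; rfl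
  have hH : ∀ x y, hh x y = H x y := fun _ _ => rfl
  let E : V →ₗ[K] V :=
    { toFun := fun x => e • x
      map_add' := smul_add e
      map_smul' := fun k x => by rw [RingHom.id_apply, hι, hι, smul_comm] }
  let b := Module.finBasis K (LinearMap.range E)
  have hb : ∀ x : LinearMap.range E, e • (x : V) = x := by
    rintro ⟨_, x, rfl⟩
    exact (smul_smul e e x).trans (by rw [he]; rfl)
  let Φ₀ : V →ₗ[K] (Fin _ → K) × (Fin _ → K) :=
    (b.equivFun.toLinearMap ∘ₗ E.rangeRestrict).prod (LinearMap.pi fun i => H (b i))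
  have p1 : ∀ x, (Φ₀ x).1 = b.equivFun (E.rangeRestrict x) := fun _ => rfl
  have p2 : ∀ x i, (Φ₀ x).2 i = H (b i) x := fun _ _ => rfl
  have dot : ∀ x y, (Φ₀ x).1 ⬝ᵥ (Φ₀ y).2 = H (e • x) y := fun x y => by
    have := congrArg (fun z : LinearMap.range E => H z y) (b.sum_equivFun (E.rangeRestrict x))
    simp only [AddSubmonoidClass.coe_finset_sum, map_sum, LinearMap.sum_apply, SetLike.val_smul,
      map_smul, LinearMap.smul_apply, smul_eq_mul] at this
    exact this
  have frm : ∀ x y, hh x y = (Φ₀ x).1 ⬝ᵥ (Φ₀ y).2 + (Φ₀ y).1 ⬝ᵥ (Φ₀ x).2 := fun x y => by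
    rw [dot, dot, ← hH, ← hH, adj e y, symm y, ← e2, ← add_smul, he1, one_smul]
  have nd : ∀ x, (∀ y, hh x y = 0) → x = 0 := fun x hx => d.nd x fun y => by
    rw [form, hx, map_zero]
  have hinj : Function.Injective Φ₀ := (injective_iff_map_eq_zero _).2 fun x hx =>
    nd x fun y => by simp [frm, hx]
  have hHs : Function.Surjective H := by
    have : Finite (Module.Dual K V) := Module.finite_of_finite K
    exact (Function.Injective.bijective_of_nat_card_le ((injective_iff_map_eq_zero H).2 fun x hx =>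
      nd x fun y => LinearMap.congr_fun hx y)
      (Nat.card_congr (Module.Basis.toDualEquiv (Module.finBasis K V)).toEquiv).ge).2
  have act : ∀ (r : R) (k k' : K), e * r = e * ι k → e * σ r = e * ι k' → ∀ x,
      Φ₀ (r • x) = (k • (Φ₀ x).1, k' • (Φ₀ x).2) := fun r k k' h1 h2 x => by
    refine Prod.ext ?_ (funext fun i => ?_)
    · rw [p1, p1, ← map_smul, ← map_smul]
      exact congrArg _ (Subtype.ext ((smul_smul e r x).trans (by
        rw [h1, mul_smul, ← hι]; rfl)))
    · show _ = k' • (Φ₀ x).2 i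
      rw [p2, p2, ← hH, ← hH, ← h.invol d r, ← adj, ← hb, smul_smul, mul_comm, h2,
        mul_comm, mul_smul, hb, ← hι, e3, smul_eq_mul]
  have hsurj : Function.Surjective Φ₀ := by
    rintro ⟨a, c⟩
    obtain ⟨z, hz⟩ := hHs ((b.constr K c) ∘ₗ E.rangeRestrict)
    have hr : ∀ x : LinearMap.range E, E.rangeRestrict x = x := fun x => Subtype.ext (hb x)
    refine ⟨b.equivFun.symm a + σ e • z, ?_⟩
    have a1 := act e 1 0 (by simp [he]) (by simp [he0]) (b.equivFun.symm a)
    have a2 := act (σ e) 0 1 (by simp [he0]) (by simp [h.invol d, he]) z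
    rw [hb, p1, hr, LinearEquiv.apply_symm_apply] at a1
    rw [map_add, a1, a2]
    refine Prod.ext (by simp) (funext fun i => ?_)
    simp only [Prod.mk_add_mk, zero_smul, one_smul, zero_add]
    rw [p2, ← hH, symm, hH, hz, LinearMap.comp_apply, hr, b.constr_basis]
  have hk : ∀ r : R, ∃ k, e * r = e * ι k := fun r => by
    obtain ⟨k, hk⟩ := (hfix (e * r + σ (e * r))).1 (by rw [map_add, h.invol d, add_comm])
    exact ⟨k, by rw [hk, map_mul]; linear_combination -r * he - σ r * he0⟩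
  have hunit : ∀ r : R, r * σ r = 1 → ∃ k, k ≠ 0 ∧ e * r = e * ι k ∧ e * σ r = e * ι k⁻¹ := by
    intro r hr
    obtain ⟨k, h1⟩ := hk r
    obtain ⟨k', h2⟩ := hk (σ r)
    have h3 : e * ι (k * k') = e := by
      rw [map_mul]
      linear_combination e * hr + (r * σ r - ι k * ι k') * he - e * σ r * h1 - e * ι k * h2
    have h4 := congrArg σ h3
    rw [map_mul, hσι] at h4
    have h5 : k * k' = 1 := ι.injective (by
      rw [map_one]; linear_combination h3 + h4 + (1 - ι (k * k')) * he1)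
    exact ⟨k, left_ne_zero_of_mul_eq_one h5, h1, eq_inv_of_mul_eq_one_right h5 ▸ h2⟩
  refine ⟨_, (LinearEquiv.ofBijective Φ₀ ⟨hinj, hsurj⟩).restrictScalars F, l, ‹_›, ?_, hl,
    fun x y => (form x y).trans (congrArg l (frm x y)), fun c hc => ?_, fun k k' => ?_⟩
  · obtain ⟨r, h1, h2⟩ := h.exists_ne_one d
    obtain ⟨k, h3, h4, h5⟩ := hunit r h1
    refine ⟨k, h3, fun e' => h2 ?_⟩
    rw [e', inv_one] at h5
    rw [e'] at h4
    have h6 := congrArg σ h5
    rw [map_mul, map_mul, hσι, h.invol d] at h6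
    rw [map_one] at h4 h6
    have : r = 1 := by linear_combination h4 + h6 + (1 - r) * he1
    rw [this, one_mul]
  · obtain ⟨r, h1, h2⟩ := h.scal c hc
    obtain ⟨k, h3, h4, h5⟩ := hunit r h1
    exact ⟨k, h3, fun x => h2 x ▸ act r k k⁻¹ h4 h5 x⟩
  · obtain ⟨r, h1, h2⟩ := h.span (e * ι k + σ e * ι k')
    refine ⟨r, h1, fun x => h2 x ▸ act _ k k' ?_ ?_ x⟩
    · linear_combination ι k * he + ι k' * he0
    · rw [map_add, map_mul, map_mul, hσι, hσι, h.invol d]
      linear_combination ι k' * he + ι k * he0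

end RData

theorem Dat.trichotomy [Finite F] [Finite V] [CharP F 2] [Nontrivial V]
    {B : LinearMap.BilinForm F V} {C : Subgroup (V ≃ₗ[F] V)} (d : Dat B C) :
    SplitCase B C ∨
      (∃ (K : Type u) (_ : Field K) (_ : Algebra F K) (_ : Module K V) (σ : K →+* K)
        (h : V → V → K) (l : K →ₗ[F] F), UData B C K σ h l) ∨
      ∃ (K : Type u) (_ : Field K) (_ : Algebra F K) (n : ℕ)
        (Φ : V ≃ₗ[F] (Fin n → K) × (Fin n → K)) (l : K →ₗ[F] F), LData B C K n Φ l := by
  obtain ⟨R, _, _, _, σ, h⟩ := d.exists_rdata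
  by_cases h1 : ∃ e : R, e * e = e ∧ σ e = e ∧ e ≠ 0 ∧ e ≠ 1
  · obtain ⟨e, h1, h2, h3, h4⟩ := h1
    exact Or.inl (h.split h1 h2 h3 h4)
  push Not at h1
  have hnt : Nontrivial R := ⟨⟨1, 0, fun e => by
    obtain ⟨v, hv⟩ := exists_ne (0 : V)
    exact hv (by rw [← one_smul R v, e, zero_smul])⟩⟩
  by_cases h2 : ∀ e : R, e * e = e → e ≠ 0 → e = 1
  · have hf : IsField R := ⟨hnt.1, mul_comm, fun {a} ha => by
      obtain ⟨s, hs⟩ := h.reg a
      exact ⟨s, h2 _ (by linear_combination s * hs) fun e => ha (by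
        linear_combination a * e - hs)⟩⟩
    letI := hf.toField
    obtain ⟨hh, l, u⟩ := RData.udata (K := R) h d
    exact Or.inr (Or.inl ⟨R, inferInstance, inferInstance, inferInstance, _, hh, l, u⟩)
  push Not at h2
  obtain ⟨e, he, he0, he1⟩ := h2
  have hs : σ e * σ e = σ e := by rw [← map_mul, he]
  have h3 : e * σ e = 0 := by
    by_contra h3
    have := h1 _ (by linear_combination (σ e * σ e) * he + e * hs)
      (by rw [map_mul, h.invol d, mul_comm]) h3
    exact he1 (by linear_combination σ e * he + (1 - e) * this)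
  have h4 : e + σ e = 1 := h1 _ (by linear_combination he + hs + 2 * h3)
    (by rw [map_add, h.invol d, add_comm]) fun e' => he0 (by linear_combination e * e' - he - h3)
  let K := AlgHom.equalizer σ (AlgHom.id F R)
  have hf : IsField K := ⟨exists_pair_ne K, mul_comm, fun {a} ha => by
    obtain ⟨s, hs⟩ := h.reg a
    have ha' : σ a = a := a.2
    have h5 := congrArg σ hs
    rw [map_mul, map_mul, ha'] at h5
    have h6 : a * s = 1 := h1 _ (by linear_combination s * hs)
      (by rw [map_mul, ha']; linear_combination s * h5 - σ s * hs)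
      fun e => ha (Subtype.ext (by show a.1 = 0; linear_combination a * e - hs))
    have h7 := congrArg σ h6
    rw [map_mul, ha', map_one] at h7
    exact ⟨⟨s, show σ s = s by linear_combination s * h7 - σ s * h6⟩, Subtype.ext h6⟩⟩
  letI := hf.toField
  have := h.tower
  obtain ⟨n, Φ, l, u⟩ := RData.ldata (K := K) h d he h4 K.val.toRingHom (fun _ _ => rfl)
    fun r => ⟨fun e => ⟨⟨r, e⟩, rfl⟩, fun ⟨k, e⟩ => e ▸ k.2⟩
  exact Or.inr (Or.inr ⟨K, inferInstance, inferInstance, n, Φ, l, u⟩)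

end Cfsg.Agent.FS
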