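import Cfsg.Agent.Lib.FS.D1
import Cfsg.Agent.Lib.FS.A2

/-!
# Centralizers of fixed point free odd order isometry groups: the odd step and the split case
-/

set_option autoImplicit false

open Module Cfsg

namespace Cfsg.Agent.FS

universe u

variable {F V : Type u} [Field F] [AddCommGroup V] [Module F V]
  {B : LinearMap.BilinForm F V} {C : Subgroup (V ≃ₗ[F] V)} {t t' : V ≃ₗ[F] V}

theorem TC.mul_mem (h : TC B C t) (ht : t * t = 1) (h' : TC B C t') : t' * t ∈ GC B C := by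
  refine mem_GC.2 ⟨fun x y => (h'.1 _ _).trans (h.1 x y), fun c hc => ?_⟩
  have h1 := h.2 c hc
  have h2 := h'.2 _ (C.inv_mem hc)
  rw [inv_inv, ← h1] at h2
  calc c * (t' * t) = t' * (t * c * t⁻¹) * t'⁻¹ * (t' * t) := by rw [h2]
    _ = _ := by group

theorem tw_inv_aux {G : Type*} [Group G] {t t' : G} (ht : t * t = 1) (ht' : t' * t' = 1) :
    t' * t * tw (MonoidHom.id G) t (t' * t) = 1 ∧
      tw (tw (MonoidHom.id G) t) (t' * t) = tw (MonoidHom.id G) t' := by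
  refine ⟨?_, by rw [tw_tw, mul_assoc, ht, mul_one]⟩
  calc t' * t * (t * (t' * t) * t⁻¹) = t' * (t * t) * t' := by group
    _ = 1 := by rw [ht, mul_one, ht']

theorem Gen.any [Finite V] (h : Gen B C) (h' : TC B C t') (ht' : t' * t' = 1) :
    GoodOn (tw (MonoidHom.id _) t') (GC B C) := by
  obtain ⟨t, h1, h2, h3⟩ := h
  exact (tw_inv_aux h2 ht').2 ▸ h3.tw (h1.mul_mem h2 h') (tw_inv_aux h2 ht').1

theorem TC.inv (h : TC B C t) (ht : t * t = 1) : Inv (tw (MonoidHom.id _) t) (GC B C) := by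
  have e : t⁻¹ = t := inv_eq_of_mul_eq_one_right ht
  refine ⟨fun g hg => ?_, fun g _ => ?_⟩
  · show t * g * t⁻¹ ∈ _
    rw [e]
    refine TC.mul_mem h ht ⟨fun x y => (h.1 _ _).trans (hg.1 x y), fun c hc => ?_⟩
    rw [← h.2 c hc, mul_assoc t, ← (mem_GC.1 hg).2 c hc]; group
  · calc t * (t * g * t⁻¹) * t⁻¹ = t * t * g * (t * t)⁻¹ := by group
      _ = g := by rw [ht]; group

theorem GC.comm_span {g : V ≃ₗ[F] V} (hg : g ∈ GC B C) {r : Module.End F V} (hr : r ∈ spanC C)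
    (x : V) : r (g x) = g (r x) :=
  LinearMap.congr_fun (comm_spanC (g := (g : Module.End F V))
    (fun c hc => congrArg LinearEquiv.toLinearMap ((mem_GC.1 hg).2 c hc)) hr) x

theorem Dat.inv_of_span (d : Dat B C) (h : TC B C t) {c : V ≃ₗ[F] V} (hc : c ∈ GC B C)
    (hs : (c : Module.End F V) ∈ spanC C) : t * c * t⁻¹ = c⁻¹ := by
  have key : ∀ r ∈ spanC C, ∀ x y, B x (t (r (t⁻¹ y))) = B (r x) y := fun r hr => by
    induction hr using Submodule.span_induction with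
    | mem _ h' =>
      obtain ⟨c, hc, rfl⟩ := h'
      intro x y
      rw [LinearEquiv.coe_coe, d.adj_inv hc, ← h.2 c hc]; rfl
    | zero => simp
    | add _ _ _ _ h1 h2 => intro x y; simp [← h1, ← h2]
    | smul _ _ _ h => intro x y; simp [← h]
  refine LinearEquiv.ext fun y => d.eq_of_right fun x => (key c hs x y).trans ?_
  rw [← (mem_GC.1 hc).1 x, ← LinearEquiv.mul_apply c c⁻¹, mul_inv_cancel]; rfl

theorem Dat.sup (d : Dat B C) {c : V ≃ₗ[F] V} (hc : c ∈ GC B C) (ho : Odd (orderOf c)) :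
    Dat B (C ⊔ Subgroup.zpowers c) ∧
      GC B (C ⊔ Subgroup.zpowers c) = GC B C ⊓ Subgroup.centralizer {c} := by
  have cen : ∀ g, g ∈ Subgroup.centralizer ((C ⊔ Subgroup.zpowers c : Subgroup _) : Set _) ↔
      g ∈ Subgroup.centralizer (C : Set _) ∧ g ∈ Subgroup.centralizer {c} := fun g => by
    refine ⟨fun h => ⟨fun x hx => h x (Subgroup.mem_sup_left hx), fun x hx => h x
      (Subgroup.mem_sup_right (hx ▸ Subgroup.mem_zpowers c))⟩, fun h x hx => ?_⟩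
    refine ((sup_le (fun y hy => ?_) (Subgroup.zpowers_le.2 ?_) :
      C ⊔ Subgroup.zpowers c ≤ Subgroup.centralizer {g}) hx g rfl).symm
    · rintro _ rfl; exact (h.1 y hy).symm
    · rintro _ rfl; exact (h.2 c rfl).symm
  have comm : ∀ a ∈ C ⊔ Subgroup.zpowers c, ∀ b ∈ C ⊔ Subgroup.zpowers c, a * b = b * a :=
    fun a ha b hb => (sup_le (fun y hy => (cen y).2 ⟨fun x hx => d.comm x hx y hy, by
      rintro _ rfl; exact (hc.2 y hy).symm⟩) (Subgroup.zpowers_le.2 ((cen c).2 ⟨hc.2, by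
        rintro _ rfl; rfl⟩)) : C ⊔ Subgroup.zpowers c ≤ Subgroup.centralizer _) hb a ha
  let O : Subgroup (V ≃ₗ[F] V) :=
    { carrier := {g | g ∈ C ⊔ Subgroup.zpowers c ∧ Odd (orderOf g)}
      one_mem' := ⟨one_mem _, by simp⟩
      mul_mem' := fun {a b} ha hb => ⟨mul_mem ha.1 hb.1, (ha.2.mul hb.2).of_dvd_nat
        (Commute.orderOf_mul_dvd_mul_orderOf (comm a ha.1 b hb.1))⟩
      inv_mem' := fun ha => ⟨inv_mem ha.1, by simpa using ha.2⟩ }
  refine ⟨⟨d.symm, d.nd, comm, fun a ha => ((sup_le (fun y hy => ⟨Subgroup.mem_sup_left hy,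
    d.odd y hy⟩) (Subgroup.zpowers_le.2 ⟨Subgroup.mem_sup_right (Subgroup.mem_zpowers c), ho⟩) :
      _ ≤ O) ha).2, fun a ha => (sup_le d.iso (Subgroup.zpowers_le.2 hc.1) :
        _ ≤ UG F fun x y => B x y) ha, fun v hv => d.nofix v fun a ha =>
          hv a (Subgroup.mem_sup_left ha)⟩, ?_⟩
  ext g
  simp only [GC, Subgroup.mem_inf, cen, and_assoc]

theorem Dat.odd_step [Finite V] (d : Dat B C)
    (IH : ∀ C', Dat B C' → spanC C < spanC C' → Gen B C') (h : TC B C t) (ht : t * t = 1)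
    {c : V ≃ₗ[F] V} (hc : c ∈ GC B C) (ho : Odd (orderOf c)) :
    ((∀ g ∈ GC B C, c * g = g * c) ∧ tw (MonoidHom.id _) t c = c⁻¹) ∨
      ∃ x ∈ GC B C, x * tw (MonoidHom.id _) t x = 1 ∧ tw (tw (MonoidHom.id _) t) x c = c⁻¹ ∧
        GoodOn (tw (tw (MonoidHom.id _) t) x) (GC B C ⊓ Subgroup.centralizer {c}) := by
  by_cases hs : (c : Module.End F V) ∈ spanC C
  · exact Or.inl ⟨fun g hg => LinearEquiv.ext (GC.comm_span hg hs), d.inv_of_span h hc hs⟩
  obtain ⟨d', e⟩ := d.sup hc ho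
  have hc' := Subgroup.mem_sup_right (S := C) (Subgroup.mem_zpowers c)
  obtain ⟨t', h1, h2, h3⟩ := IH _ d' (lt_of_le_of_ne (Submodule.span_mono fun _ ⟨a, ha, e⟩ =>
    ⟨a, Subgroup.mem_sup_left ha, e⟩) fun e => hs (e ▸ mem_spanC hc'))
  refine Or.inr ⟨t' * t, h.mul_mem ht ⟨h1.1, fun a ha => h1.2 a (Subgroup.mem_sup_left ha)⟩,
    (tw_inv_aux ht h2).1, ?_⟩
  rw [(tw_inv_aux ht h2).2, ← e]
  exact ⟨h1.2 c hc', h3⟩

/-- the restriction of `C` to a subspace -/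
def resC (C : Subgroup (V ≃ₗ[F] V)) (W : Submodule F V) : Subgroup (W ≃ₗ[F] W) where
  carrier := {g | ∃ c ∈ C, ∀ x : W, (g x : V) = c x}
  one_mem' := ⟨1, C.one_mem, fun _ => rfl⟩
  mul_mem' := fun {a b} ⟨c, hc, h⟩ ⟨e, he, h'⟩ => ⟨c * e, C.mul_mem hc he, fun x => by
    rw [LinearEquiv.mul_apply, h, h', LinearEquiv.mul_apply]⟩
  inv_mem' := fun {a} ⟨c, hc, h⟩ => ⟨c⁻¹, C.inv_mem hc, fun x => c.injective (by
    rw [← h, ← LinearEquiv.mul_apply, ← LinearEquiv.mul_apply, mul_inv_cancel, mul_inv_cancel]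
    rfl)⟩

theorem Dat.res [Finite V] (d : Dat B C) {W W' : Submodule F V} (h : IsCompl W W')
    (ho : ∀ x ∈ W, ∀ y ∈ W', B x y = 0) (hW : ∀ c ∈ C, ∀ x ∈ W, c x ∈ W) :
    Dat (B.restrict W) (resC C W) := by
  refine ⟨fun x y => d.symm x y, fun x hx => Subtype.ext (d.nd x fun y => ?_), ?_, ?_, ?_,
    fun v hv => Subtype.ext (d.nofix v fun c hc =>
      congrArg Subtype.val (hv (resEquiv c (hW c hc)) ⟨c, hc, fun _ => rfl⟩))⟩
  · obtain ⟨a, b, rfl⟩ := exists_add_of_isCompl h y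
    rw [map_add, ho x x.2 b b.2, add_zero]
    exact hx a
  · rintro a ⟨c, hc, h1⟩ b ⟨e, he, h2⟩
    ext x
    rw [LinearEquiv.mul_apply, LinearEquiv.mul_apply, h1, h2, h2, h1, ← LinearEquiv.mul_apply,
      d.comm c hc e he, LinearEquiv.mul_apply]
  · rintro a ⟨c, hc, h1⟩
    have : ∀ (n : ℕ) (x : W), ((a ^ n) x : V) = (c ^ n) x := fun n => by
      induction n with
      | zero => exact fun _ => rfl
      | succ n ih => intro x; rw [pow_succ', pow_succ', LinearEquiv.mul_apply, h1, ih]; rfl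
    refine (d.odd c hc).of_dvd_nat (orderOf_dvd_of_pow_eq_one (LinearEquiv.ext fun x =>
      Subtype.ext ?_))
    rw [this, pow_orderOf_eq_one]; rfl
  · rintro a ⟨c, hc, h1⟩ x y
    show B (a x) (a y) = B x y
    rw [h1, h1, d.iso c hc]

theorem Dat.split [Finite V] (d : Dat B C) (h : SplitCase B C)
    (IH : ∀ (W : Submodule F V) C', Nat.card W < Nat.card V → Dat (B.restrict W) C' →
      Gen (B.restrict W) C') : Gen B C := by
  obtain ⟨W₁, W₂, n1, n2, hc, ho, hi⟩ := h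
  have ho' : ∀ x ∈ W₂, ∀ y ∈ W₁, B x y = 0 := fun x hx y hy => (d.symm x y).trans (ho y hy x hx)
  have hC := fun c hc => hi c fun e he => d.comm e he c hc
  have lt : ∀ {W W' : Submodule F V}, IsCompl W W' → W' ≠ ⊥ → Nat.card W < Nat.card V := by
    intro W W' h hn
    obtain ⟨x, hx, hx0⟩ := W'.exists_mem_ne_zero_of_ne_bot hn
    exact Finite.card_subtype_lt fun e => hx0 (Submodule.disjoint_def.1 h.disjoint x e hx)
  obtain ⟨t₁, a1, a2, a3⟩ := IH W₁ _ (lt hc n2) (d.res hc ho fun c h => (hC c h).1)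
  obtain ⟨t₂, b1, b2, b3⟩ := IH W₂ _ (lt hc.symm n1) (d.res hc.symm ho' fun c h => (hC c h).2)
  have iso : ∀ p : (W₁ ≃ₗ[F] W₁) × (W₂ ≃ₗ[F] W₂), (∀ x y : W₁, B (p.1 x) (p.1 y) = B x y) →
      (∀ x y : W₂, B (p.2 x) (p.2 y) = B x y) → ∀ x y, B (ext2 hc p x) (ext2 hc p y) = B x y := by
    intro p h1 h2 x y
    obtain ⟨a, b, rfl⟩ := exists_add_of_isCompl hc x
    obtain ⟨a', b', rfl⟩ := exists_add_of_isCompl hc y
    simp only [ext2_left, ext2_right, map_add, LinearMap.add_apply, h1, h2, ho _ (p.1 _).2 _ (p.2 _).2,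
      ho' _ (p.2 _).2 _ (p.1 _).2, ho _ a.2 _ b'.2, ho' _ b.2 _ a'.2]
  have dec : ∀ c ∈ C, ∃ p, ext2 hc p = c ∧ p.1 ∈ resC C W₁ ∧ p.2 ∈ resC C W₂ := fun c h => by
    obtain ⟨p, rfl⟩ := exists_ext2 hc (hC c h).1 (hC c h).2
    exact ⟨p, rfl, ⟨_, h, fun x => (ext2_left hc p x).symm⟩, _, h,
      fun x => (ext2_right hc p x).symm⟩
  have e : GC B C = ((GC (B.restrict W₁) (resC C W₁)).prod
      (GC (B.restrict W₂) (resC C W₂))).map (ext2 hc) := by
    ext g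
    constructor
    · intro hg
      obtain ⟨p, rfl⟩ := exists_ext2 hc (hi g hg.2).1 (hi g hg.2).2
      refine ⟨p, ⟨⟨fun x y => ?_, ?_⟩, fun x y => ?_, ?_⟩, rfl⟩
      · simpa [ext2_left] using hg.1 x y
      · rintro a ⟨c, hc', h⟩
        ext x
        rw [LinearEquiv.mul_apply, LinearEquiv.mul_apply, h, ← ext2_left hc, ← ext2_left hc, h,
          ← LinearEquiv.mul_apply, hg.2 c hc', LinearEquiv.mul_apply]
      · simpa [ext2_right] using hg.1 x y
      · rintro a ⟨c, hc', h⟩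
        ext x
        rw [LinearEquiv.mul_apply, LinearEquiv.mul_apply, h, ← ext2_right hc, ← ext2_right hc, h,
          ← LinearEquiv.mul_apply, hg.2 c hc', LinearEquiv.mul_apply]
    · rintro ⟨p, ⟨h1, h2⟩, rfl⟩
      refine ⟨iso p h1.1 h2.1, fun c h => ?_⟩
      obtain ⟨q, rfl, h3, h4⟩ := dec c h
      rw [← map_mul, ← map_mul]
      exact congrArg _ (Prod.ext (h1.2 _ h3) (h2.2 _ h4))
  refine ⟨ext2 hc (t₁, t₂), ⟨iso _ a1.1 b1.1, fun c h => ?_⟩, ?_, e ▸ (a3.prod b3).map _ ?_⟩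
  · obtain ⟨q, rfl, h3, h4⟩ := dec c h
    rw [← map_inv, ← map_mul, ← map_mul, ← map_inv]
    exact congrArg _ (Prod.ext (a1.2 _ h3) (b1.2 _ h4))
  · rw [← map_mul, ← map_one (ext2 hc)]
    exact congrArg _ (Prod.ext a2 b2)
  · intro s _
    rw [tw_apply, MonoidHom.id_apply, ← map_inv, ← map_mul, ← map_mul]
    rfl

end Cfsg.Agent.FS
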