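import Cfsg.Agent.Lib.FS.D

/-!
# The orthogonal family (notes/FS.md, part E)
-/

set_option autoImplicit false

open scoped ComplexConjugate
open Module Cfsg

namespace Cfsg.Agent.FS

universe u

namespace E

section basic

variable {F V : Type*} [Field F] [AddCommGroup V] [Module F V] {Q : V → F}
  {B : LinearMap.BilinForm F V} {w y : V} {W₁ W₂ : Submodule F V}

theorem perp_perp (h : OD Q B w) {x : V} (hx : ∀ a, B w a = 0 → B x a = 0) :
    ∃ s : F, x = s • w := by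
  by_cases h0 : ∀ v, B w v = 0
  · exact h.rad x fun v => hx v (h0 v)
  push Not at h0
  obtain ⟨v₀, hv₀⟩ := h0
  obtain ⟨v, hv⟩ : ∃ v, B w v = 1 := ⟨(B w v₀)⁻¹ • v₀, by simp [hv₀]⟩
  obtain ⟨s, hs⟩ := h.rad (x - B x v • w) fun u => by
    have := hx (u - B w u • v) (by simp [hv])
    simp only [map_sub, map_smul, smul_eq_mul, LinearMap.sub_apply, LinearMap.smul_apply] at this ⊢
    linear_combination this
  exact ⟨s + B x v, by rw [add_smul, ← hs, sub_add_cancel]⟩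

theorem od_right (h : OD Q B w) (hc : IsCompl W₁ W₂) (ho : ∀ x ∈ W₁, ∀ y ∈ W₂, B x y = 0)
    (hw : w ∈ W₂) : OD (fun x : W₂ => Q x) (B.restrict W₂) ⟨w, hw⟩ where
  toQS := h.toQS.restrict W₂
  hw := h.hw.imp_left fun e => Subtype.ext e
  rad x hx := by
    obtain ⟨s, hs⟩ := h.rad x fun v => by
      obtain ⟨a, b, rfl⟩ := exists_add_of_isCompl hc v
      rw [map_add, h.symm, ho a a.2 x x.2, zero_add]
      exact hx b
    exact ⟨s, Subtype.ext hs⟩

theorem nd_left (h : OD Q B w) (hc : IsCompl W₁ W₂) (ho : ∀ x ∈ W₁, ∀ y ∈ W₂, B x y = 0)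
    (hw : w ∈ W₂) (x : W₁) (hx : ∀ y : W₁, B x y = 0) : x = 0 := by
  obtain ⟨s, hs⟩ := h.rad x fun v => by
    obtain ⟨a, b, rfl⟩ := exists_add_of_isCompl hc v
    rw [map_add, ho x x.2 b b.2, add_zero]
    exact hx a
  exact Subtype.ext (Submodule.disjoint_def.1 hc.disjoint x x.2 (hs ▸ W₂.smul_mem s hw))

theorem od_left (h : OD Q B w) (hc : IsCompl W₁ W₂) (ho : ∀ x ∈ W₁, ∀ y ∈ W₂, B x y = 0)
    (hw : w ∈ W₂) : OD (fun x : W₁ => Q x) (B.restrict W₁) 0 where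
  toQS := h.toQS.restrict W₁
  hw := Or.inl rfl
  rad x hx := ⟨0, by rw [nd_left h hc ho hw x hx, zero_smul]⟩

theorem ext2_iso (h : QS Q B) (hc : IsCompl W₁ W₂) (ho : ∀ x ∈ W₁, ∀ y ∈ W₂, B x y = 0)
    {p : (W₁ ≃ₗ[F] W₁) × (W₂ ≃ₗ[F] W₂)} (h1 : ∀ x, Q (p.1 x) = Q x) (h2 : ∀ x, Q (p.2 x) = Q x)
    (v : V) : Q (ext2 hc p v) = Q v := by
  obtain ⟨a, b, rfl⟩ := exists_add_of_isCompl hc v
  rw [ext2_add, h.add, h.add, h1, h2, ho _ (p.1 a).2 _ (p.2 b).2, ho _ a.2 _ b.2]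

theorem pres (h : QS Q B) {g : V ≃ₗ[F] V} (hg : g ∈ OG F Q w y) (a b : V) :
    B (g a) (g b) = B a b := h.pres (f := (g : V →ₗ[F] V)) hg.1 a b

theorem card_sub_le [Finite V] (W : Submodule F V) : Nat.card W ≤ Nat.card V :=
  Nat.card_le_card_of_injective _ W.subtype_injective

theorem card_sub_lt [Finite V] {W : Submodule F V} {v : V} (hv : v ∉ W) :
    Nat.card W < Nat.card V := by
  refine (card_sub_le W).lt_of_ne fun e => hv ?_
  obtain ⟨x, rfl⟩ := (W.subtype_injective.bijective_of_nat_card_le e.ge).2 v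
  exact x.2

/-- The Siegel transformation. -/
def sgL (Q : V → F) (B : LinearMap.BilinForm F V) (y a : V) : V →ₗ[F] V :=
  LinearMap.id + (B y).smulRight a + (B a + Q a • B y).smulRight y

theorem sgL_apply (a v : V) :
    sgL Q B y a v = v + B y v • a + (B a v + Q a * B y v) • y := rfl

variable [CharP F 2]

theorem sgL_sgL (h : QS Q B) {a b : V} (ha : B y a = 0) (hb : B y b = 0) (v : V) :
    sgL Q B y a (sgL Q B y b v) = sgL Q B y (a + b) v := by
  have ha' : B a y = 0 := by rw [h.symm, ha]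
  simp only [sgL_apply, map_add, map_smul, smul_eq_mul, hb, h.self, ha', h.add, LinearMap.add_apply]
  module

theorem sgL_smul (h : QS Q B) (hy : Q y = 0) (t : F) (v : V) : sgL Q B y (t • y) v = v := by
  rw [sgL_apply, h.smul, hy, smul_smul, add_assoc, ← add_smul, map_smul, LinearMap.smul_apply,
    smul_eq_mul, mul_zero, zero_mul, add_zero, mul_comm, CharTwo.add_self_eq_zero, zero_smul,
    add_zero]

theorem sgL_iso (h : QS Q B) (hy : Q y = 0) {a : V} (ha : B y a = 0) (v : V) :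
    Q (sgL Q B y a v) = Q v := by
  simp only [sgL_apply, h.add, h.smul, map_add, map_smul, smul_eq_mul, LinearMap.add_apply,
    LinearMap.smul_apply, hy, h.symm v y, h.symm v a, h.symm a y, ha]
  linear_combination (B y v ^ 2 * Q a + B y v * B a v) * (CharTwo.two_eq_zero : (2 : F) = 0)

/-- The Siegel transformation as an automorphism. -/
def sg (h : QS Q B) (y a : V) (ha : B y a = 0) : V ≃ₗ[F] V :=
  LinearEquiv.ofInvolutive (sgL Q B y a) fun v => by
    rw [sgL_sgL h ha ha, add_self_two F, sgL_apply]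
    simp [h.zero]

theorem sg_apply (h : QS Q B) {a : V} (ha : B y a = 0) (v : V) : sg h y a ha v = sgL Q B y a v := rfl

theorem sg_mul (h : QS Q B) {a b : V} (ha : B y a = 0) (hb : B y b = 0) :
    sg h y a ha * sg h y b hb = sg h y (a + b) (by rw [map_add, ha, hb, add_zero]) :=
  LinearEquiv.ext fun v => sgL_sgL h ha hb v

theorem sg_zero (h : QS Q B) : sg h y 0 (map_zero _) = 1 :=
  LinearEquiv.ext fun v => by simp [sg_apply, sgL_apply, h.zero]

theorem sg_inv (h : QS Q B) {a : V} (ha : B y a = 0) : (sg h y a ha)⁻¹ = sg h y a ha := rfl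

theorem sg_conj (h : QS Q B) {g : V ≃ₗ[F] V} (hg : g ∈ OG F Q w y) {a : V} (ha : B y a = 0) :
    g * sg h y a ha * g⁻¹ = sg h y (g a) (by rw [← ha, ← pres h hg y a, hg.2.2]) := by
  rw [mul_inv_eq_iff_eq_mul]
  refine LinearEquiv.ext fun v => ?_
  have e : B y (g v) = B y v := by rw [← pres h hg y v, hg.2.2]
  simp only [LinearEquiv.mul_apply, sg_apply, sgL_apply, map_add, map_smul, e, pres h hg, hg.1,
    hg.2.2]

/-- The group of Siegel transformations fixing `w`. -/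
def sgG (h : QS Q B) (w y : V) : Subgroup (V ≃ₗ[F] V) where
  carrier := {g | ∃ (a : V) (ha : B y a = 0), B w a = 0 ∧ g = sg h y a ha}
  one_mem' := ⟨0, map_zero _, map_zero _, (sg_zero h).symm⟩
  mul_mem' := by
    rintro _ _ ⟨a, ha, ha', rfl⟩ ⟨b, hb, hb', rfl⟩
    exact ⟨a + b, _, by rw [map_add, ha', hb', add_zero], sg_mul h ha hb⟩
  inv_mem' := by
    rintro _ ⟨a, ha, ha', rfl⟩
    exact ⟨a, ha, ha', sg_inv h ha⟩

theorem sgG_le (h : QS Q B) (hy : Q y = 0) (hyw : B y w = 0) : sgG h w y ≤ OG F Q w y := by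
  rintro _ ⟨a, ha, ha', rfl⟩
  refine ⟨sgL_iso h hy ha, ?_, ?_⟩
  · simp [sg_apply, sgL_apply, hyw, h.symm a w, ha']
  · simp [sg_apply, sgL_apply, h.self, h.symm a y, ha]

theorem sgG_char [Finite F] [Finite V] (h : QS Q B) {φ : F → ℂ}
    (hφ : ∀ a b, φ (a + b) = φ a * φ b) (h0 : φ 0 = 1) (h1 : ∃ a, φ a ≠ 1) {ν : sgG h w y → ℂ}
    (hν : IsIrrCharacter _ ν) : ν 1 = 1 ∧ ∃ L : V →ₗ[F] F, ∀ (n : sgG h w y) (a : V)
      (ha : B y a = 0), B w a = 0 → (n : V ≃ₗ[F] V) = sg h y a ha → ν n = φ (L a) := by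
  obtain ⟨lam, rfl⟩ := H3.IsIrrCharacter_linear_of_comm (by
    rintro ⟨_, a, ha, ha', rfl⟩ ⟨_, b, hb, hb', rfl⟩
    refine Subtype.ext ?_
    simp only [Subgroup.coe_mul, sg_mul, add_comm a b]) hν
  refine ⟨by simp, ?_⟩
  let A : Submodule F V := LinearMap.ker (B y) ⊓ LinearMap.ker (B w)
  let e : A → sgG h w y := fun a => ⟨sg h y a a.2.1, a, a.2.1, a.2.2, rfl⟩
  obtain ⟨l, hl⟩ := exists_dual_of_addChar hφ h0 h1 (ν := fun a : A => (lam (e a) : ℂ))
    (fun a b => by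
      rw [← Units.val_mul, ← map_mul]
      exact congrArg (fun n => (lam n : ℂ)) (Subtype.ext (sg_mul h a.2.1 b.2.1).symm))
    (by rw [show e 0 = 1 from Subtype.ext (sg_zero h), map_one, Units.val_one])
  obtain ⟨L, hL⟩ := l.exists_extend
  refine ⟨L, fun n a ha ha' hn => ?_⟩
  rw [show n = e ⟨a, ha, ha'⟩ from Subtype.ext hn]
  exact (hl _).trans (by rw [← hL]; rfl)

end basic

/-- The induction hypothesis. -/
def Fam (F : Type u) [Field F] (n : ℕ) : Prop :=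
  ∀ (W : Type u) [AddCommGroup W] [Module F W] [Finite W] (Q : W → F)
    (B : LinearMap.BilinForm F W) (w y : W), Nat.card W < n → OD Q B w → Q y = 0 → B y w = 0 →
      GoodOn (MonoidHom.id _) (OG F Q w y)

variable {F V : Type u} [Field F] [AddCommGroup V] [Module F V] [Finite F] [Finite V]
  [CharP F 2] {Q : V → F} {B : LinearMap.BilinForm F V} {w y : V}

theorem OG_swap (w y : V) : OG F Q w y = OG F Q y w :=
  Subgroup.ext fun _ => ⟨fun h => ⟨h.1, h.2.2, h.2.1⟩, fun h => ⟨h.1, h.2.2, h.2.1⟩⟩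

theorem exists_sing (h : QS Q B) (hw : Q w ≠ 0) {z : V} (hz : B z w = 0) :
    ∃ t : F, Q (z + t • w) = 0 := by
  obtain ⟨t, ht⟩ := exists_sq F (Q z * (Q w)⁻¹)
  refine ⟨t, ?_⟩
  rw [h.add, h.smul, ht, map_smul, hz, smul_zero, add_zero, mul_assoc, inv_mul_cancel₀ hw, mul_one,
    CharTwo.add_self_eq_zero]

theorem eq_zero_of_Q (h : QS Q B) (hw : Q w ≠ 0) {z : V} (hz : B z w = 0) {t : F}
    (ht : Q (z + t • w) = Q z) : t = 0 := by
  rw [h.add, h.smul, map_smul, hz, smul_zero, add_zero, add_eq_left] at ht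
  simpa [hw] using ht

theorem stab_dual₁ {n : ℕ} (IH : Fam F n) (hn : Nat.card V < n) (h : OD Q B w) (L : V →ₗ[F] F)
    (hL : L w = 0) : ∃ S : Subgroup (V ≃ₗ[F] V),
      (∀ s, s ∈ S ↔ s ∈ OG F Q w 0 ∧ ∀ a, B w a = 0 → L (s a) = L a) ∧
        GoodOn (MonoidHom.id _) S := by
  haveI : FiniteDimensional F V := Module.Finite.of_finite
  obtain ⟨z, hz⟩ : ∃ z, ∀ a, B w a = 0 → L a = B z a := by
    let A := LinearMap.ker (B w)
    let B' : A →ₗ[F] V →ₗ[F] F := LinearMap.comp B A.subtype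
    have : L.comp A.subtype ∈ (LinearMap.ker B').dualAnnihilator := by
      rw [Submodule.mem_dualAnnihilator]
      intro a ha
      obtain ⟨s, hs⟩ := h.rad a fun v => LinearMap.congr_fun ha v
      simp [hs, hL]
    rw [LinearMap.dualAnnihilator_ker_eq_range_flip] at this
    obtain ⟨z, hz⟩ := this
    exact ⟨z, fun a ha => (LinearMap.congr_fun hz ⟨a, ha⟩).symm.trans (h.symm _ _)⟩
  have hzw : B z w = 0 := by rw [← hz w (h.toQS.self w), hL]
  refine ⟨OG F Q w z, fun s => ⟨fun hs => ⟨⟨hs.1, hs.2.1, map_zero _⟩, fun a ha => ?_⟩,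
    fun ⟨hs, hs'⟩ => ⟨hs.1, hs.2.1, ?_⟩⟩, ?_⟩
  · rw [hz a ha, hz _ (by rw [← ha, ← pres h.toQS hs w a, hs.2.1]), ← pres h.toQS hs z a, hs.2.2]
  · obtain ⟨t, ht⟩ := perp_perp h (x := s z - z) fun a ha => by
      obtain ⟨a, rfl⟩ := s.surjective a
      have ha' : B w a = 0 := by rw [← ha, ← pres h.toQS hs w a, hs.2.1]
      rw [map_sub, LinearMap.sub_apply, pres h.toQS hs, ← hz a ha', ← hz _ ha, hs' a ha', sub_self]
    rw [sub_eq_iff_eq_add'] at ht
    rcases h.hw with e | e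
    · rw [ht, e, smul_zero, add_zero]
    · rw [ht, eq_zero_of_Q h.toQS e hzw (t := t) (by rw [← ht, hs.1]), zero_smul, add_zero]
  · rcases h.hw with e | e
    · subst e
      by_cases hq : Q z = 0
      · exact IH V Q B 0 z hn h hq hzw
      · rw [OG_swap]
        exact IH V Q B z 0 hn ⟨h.toQS, Or.inr hq, fun x hx => (h.rad x hx).elim fun s hs =>
          ⟨0, by rw [hs, smul_zero, zero_smul]⟩⟩ h.toQS.zero (by simp)
    · obtain ⟨t, ht⟩ := exists_sing h.toQS e hzw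
      have : OG F Q w z = OG F Q w (z + t • w) := Subgroup.ext fun g =>
        ⟨fun hg => ⟨hg.1, hg.2.1, by rw [map_add, map_smul, hg.2.1, hg.2.2]⟩, fun hg =>
          ⟨hg.1, hg.2.1, by simpa [hg.2.1] using hg.2.2⟩⟩
      rw [this]
      exact IH V Q B w _ hn h ht (by simp [hzw, h.toQS.self])

theorem stab_dual₂ {n : ℕ} (IH : Fam F n) (hn : Nat.card V < n) (h : OD Q B w) (L : V →ₗ[F] F)
    (hL : L w ≠ 0) : ∃ S : Subgroup (V ≃ₗ[F] V),
      (∀ s, s ∈ S ↔ s ∈ OG F Q w 0 ∧ ∀ a, B w a = 0 → L (s a) = L a) ∧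
        GoodOn (MonoidHom.id _) S := by
  haveI : FiniteDimensional F V := Module.Finite.of_finite
  let W₁ : Submodule F V := LinearMap.ker (B w) ⊓ LinearMap.ker L
  let W₂ : Submodule F V := B.orthogonal W₁
  have hdec : ∀ a, B w a = 0 → a - (L a * (L w)⁻¹) • w ∈ W₁ := fun a ha =>
    ⟨by simp [ha, h.toQS.self], by simp [hL]⟩
  have ho : ∀ x ∈ W₁, ∀ v ∈ W₂, B x v = 0 := fun x hx v hv => hv x hx
  have hw : w ∈ W₂ := fun x hx => (h.symm x w).trans hx.1
  have hc : IsCompl W₁ W₂ := by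
    refine (LinearMap.BilinForm.isCompl_orthogonal_iff_disjoint
      (fun a b hab => (h.symm b a).trans hab)).2 (Submodule.disjoint_def.2 fun x hx hx' => ?_)
    obtain ⟨s, hs⟩ := perp_perp h (x := x) fun a ha => by
      have := hx' _ (hdec a ha)
      have h1 : B w x = 0 := hx.1
      simpa [LinearMap.BilinForm.IsOrtho, h1, h.symm a x] using this
    have h2 : L x = 0 := hx.2
    rw [hs, map_smul, smul_eq_mul, mul_eq_zero, or_iff_left hL] at h2
    rw [hs, h2, zero_smul]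
  have g1 := IH W₁ _ _ 0 0 ((card_sub_le W₁).trans_lt hn) (od_left h hc ho hw) h.toQS.zero (by simp)
  have g2 := IH W₂ _ _ ⟨w, hw⟩ 0 ((card_sub_le W₂).trans_lt hn) (od_right h hc ho hw) h.toQS.zero
    (by simp)
  refine ⟨_, fun s => ⟨?_, fun ⟨hs, hs'⟩ => ?_⟩, (g1.prod g2).map (β := MonoidHom.id _) (ext2 hc)
    fun _ _ => rfl⟩
  · rintro ⟨p, ⟨h1, h2⟩, rfl⟩
    have e : ext2 hc p w = w := (ext2_right hc p ⟨w, hw⟩).trans (congrArg Subtype.val h2.2.1)
    refine ⟨⟨ext2_iso h.toQS hc ho h1.1 h2.1, e, map_zero _⟩, fun a ha => ?_⟩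
    have e1 := ext2_left hc p ⟨_, hdec a ha⟩
    have e2 : L (p.1 ⟨_, hdec a ha⟩) = 0 := (p.1 ⟨_, hdec a ha⟩).2.2
    rw [← e1] at e2
    simp only [map_sub, map_smul, e, smul_eq_mul, mul_assoc, inv_mul_cancel₀ hL, mul_one] at e2
    exact sub_eq_zero.1 e2
  · have a1 : ∀ x ∈ W₁, s x ∈ W₁ := fun x hx =>
      ⟨show B w (s x) = 0 by rw [← hs.2.1, pres h.toQS hs]; exact hx.1,
        show L (s x) = 0 by rw [hs' x hx.1]; exact hx.2⟩
    have a2 : ∀ x ∈ W₂, s x ∈ W₂ := fun x hx v hv => by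
      obtain ⟨v', hv'⟩ := (resEquiv s a1).surjective ⟨v, hv⟩
      have : v = s v' := (congrArg Subtype.val hv').symm
      exact this ▸ (pres h.toQS hs _ _).trans (hx _ v'.2)
    obtain ⟨p, rfl⟩ := exists_ext2 hc a1 a2
    refine ⟨p, ⟨⟨fun x => ?_, map_zero _, map_zero _⟩, fun x => ?_, Subtype.ext ?_, map_zero _⟩, rfl⟩
    · exact (congrArg Q (ext2_left hc p x)).symm.trans (hs.1 _)
    · exact (congrArg Q (ext2_right hc p x)).symm.trans (hs.1 _)
    · rw [← ext2_right hc p]; exact hs.2.1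

theorem case_y (IH : Fam F (Nat.card V)) (h : OD Q B w) (hy : Q y = 0) (hyw : B y w = 0)
    (hy0 : y ≠ 0) : GoodOn (MonoidHom.id _) (OG F Q w y) := by
  haveI : FiniteDimensional F V := Module.Finite.of_finite
  have q := h.toQS
  obtain ⟨y', h1, h2⟩ : ∃ y', B y y' = 1 ∧ B w y' = 0 := by
    by_contra hc
    push Not at hc
    obtain ⟨s, hs⟩ := perp_perp h (x := y) fun a ha => by
      by_contra hne
      exact hc ((B y a)⁻¹ • a) (by simp [hne]) (by simp [ha])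
    rcases h.hw with e | e
    · exact hy0 (by rw [hs, e, smul_zero])
    · rw [hs, h.smul] at hy
      have : s = 0 := by simpa [e] using hy
      exact hy0 (by rw [hs, this, zero_smul])
  have h1' : B y' y = 1 := (h.symm _ _).trans h1
  let W₁ : Submodule F V := Submodule.span F {y, y'}
  let W₂ : Submodule F V := LinearMap.ker (B y) ⊓ LinearMap.ker (B y')
  have hy1 : y ∈ W₁ := Submodule.subset_span (by simp)
  have hy2 : y' ∈ W₁ := Submodule.subset_span (by simp)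
  have ho : ∀ x ∈ W₁, ∀ v ∈ W₂, B x v = 0 := fun x hx v hv => by
    obtain ⟨a, b, rfl⟩ := Submodule.mem_span_pair.1 hx
    have a1 : B y v = 0 := hv.1
    have a2 : B y' v = 0 := hv.2
    simp [a1, a2]
  have hc : IsCompl W₁ W₂ := by
    refine ⟨Submodule.disjoint_def.2 fun x hx hx' => ?_, codisjoint_iff_le_sup.2 fun v _ => ?_⟩
    · obtain ⟨a, b, rfl⟩ := Submodule.mem_span_pair.1 hx
      have a1 : b = 0 := by simpa [q.self, h1] using hx'.1
      have a2 : a = 0 := by simpa [q.self, h1'] using hx'.2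
      simp [a1, a2]
    · refine Submodule.mem_sup.2 ⟨B y' v • y + B y v • y', W₁.add_mem (W₁.smul_mem _ hy1)
        (W₁.smul_mem _ hy2), v - (B y' v • y + B y v • y'), ⟨?_, ?_⟩, add_sub_cancel _ _⟩
      · simp [q.self, h1]
      · simp [q.self, h1']
  have hw : w ∈ W₂ := ⟨hyw, (h.symm _ _).trans h2⟩
  have hlt : Nat.card W₂ < Nat.card V := card_sub_lt (v := y') fun hh => by
    have : B y y' = 0 := hh.1
    rw [h1] at this
    exact one_ne_zero this
  let ι : (W₂ ≃ₗ[F] W₂) →* (V ≃ₗ[F] V) := (ext2 hc).comp (MonoidHom.inr _ _)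
  have ι1 : ∀ s, ∀ x ∈ W₁, ι s x = x := fun s x hx => ext2_left hc _ ⟨x, hx⟩
  have ι2 : ∀ s, ∀ x : W₂, ι s x = s x := fun s x => ext2_right hc _ x
  obtain ⟨φ, hφ, hφ0, hφ1, hφ2⟩ := exists_addChar F
  refine clifford_on (N := sgG q w y) (H := OG F Q w y ⊓ MulAction.stabilizer _ y')
    ⟨fun g hg => hg, fun _ _ => rfl⟩ (sgG_le q hy hyw) inf_le_left ?_ ?_ ?_ (fun n hn => hn) ?_
  · rintro g hg _ ⟨a, ha, ha', rfl⟩
    exact ⟨g a, _, by rw [← ha', ← pres q hg w a, hg.2.1], sg_conj q hg ha⟩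
  · intro g hg
    have a1 : B y (g y' + y') = 0 := by
      rw [map_add, h1, ← hg.2.2, pres q hg, h1, CharTwo.add_self_eq_zero]
    have a2 : B w (g y' + y') = 0 := by rw [map_add, h2, ← hg.2.1, pres q hg, h2, add_zero]
    have a3 : sg q y _ a1 ∈ sgG q w y := ⟨_, a1, a2, rfl⟩
    refine ⟨_, a3, (sg q y _ a1)⁻¹ * g, ⟨Subgroup.mul_mem _ (Subgroup.inv_mem _ (sgG_le q hy hyw a3))
      hg, ?_⟩, (mul_inv_cancel_left _ _).symm⟩
    show (sg q y _ a1).symm (g y') = y'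
    rw [LinearEquiv.symm_apply_eq, sg_apply, sgL_apply, h1, q.add, hg.1, CharTwo.add_self_eq_zero,
      map_add, LinearMap.add_apply, q.self, one_smul, zero_add, add_zero, mul_one,
      CharTwo.add_self_eq_zero, zero_smul, add_zero, add_comm (g y'), ← add_assoc, add_self_two F,
      zero_add]
  · rw [eq_bot_iff]
    rintro _ ⟨⟨a, ha, ha', rfl⟩, -, h3⟩
    have h4 : sgL Q B y a y' = y' := h3
    rw [sgL_apply, h1, one_smul, add_assoc, add_eq_left, add_eq_zero_iff_eq_neg, ← neg_smul] at h4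
    refine LinearEquiv.ext fun v => ?_
    rw [sg_apply, h4]
    exact sgL_smul q hy _ v
  intro ν hν
  obtain ⟨hν1, L, hL⟩ := sgG_char q hφ hφ0 hφ1 hν
  obtain ⟨S, hS, hS'⟩ : ∃ S : Subgroup (W₂ ≃ₗ[F] W₂), (∀ s, s ∈ S ↔
      s ∈ OG F (fun x : W₂ => Q x) ⟨w, hw⟩ 0 ∧ ∀ a, B.restrict W₂ ⟨w, hw⟩ a = 0 →
        L.comp W₂.subtype (s a) = L.comp W₂.subtype a) ∧ GoodOn (MonoidHom.id _) S := by
    by_cases hLw : L.comp W₂.subtype ⟨w, hw⟩ = 0
    · exact stab_dual₁ IH hlt (od_right h hc ho hw) _ hLw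
    · exact stab_dual₂ IH hlt (od_right h hc ho hw) _ hLw
  refine ⟨1, Subgroup.one_mem _, one_mul _, S.map ι, fun s => ⟨?_, fun ⟨⟨hs, hs1⟩, hs2⟩ => ?_⟩,
    ?_, ?_, Or.inl hν1⟩
  · rintro ⟨s, hs, rfl⟩
    obtain ⟨hs1, hs2⟩ := (hS s).1 hs
    have a1 : ι s ∈ OG F Q w y := ⟨ext2_iso q hc ho (fun _ => rfl) hs1.1,
      (ι2 s ⟨w, hw⟩).trans (congrArg Subtype.val hs1.2.1), ι1 s y hy1⟩
    refine ⟨⟨a1, ι1 s y' hy2⟩, ?_⟩
    rintro ⟨_, a, ha, ha', rfl⟩ n' hn'
    rw [hL ⟨_, a, ha, ha', rfl⟩ a ha ha' rfl, hL n' _ _ (by rw [← ha', ← pres q a1 w a, a1.2.1])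
      (hn'.trans (sg_conj q a1 ha))]
    obtain ⟨x, v, rfl⟩ := exists_add_of_isCompl hc a
    rw [map_add, h.symm, ho x x.2 w hw, zero_add] at ha'
    rw [map_add, ι1 s x x.2, ι2, map_add, map_add]
    exact congrArg (fun t => φ (L x + t)) (hs2 v ha')
  · have hs1' : s y' = y' := hs1
    have a2 : ∀ x ∈ W₂, s x ∈ W₂ := fun x hx =>
      ⟨show B y (s x) = 0 by rw [← hs.2.2, pres q hs]; exact hx.1,
        show B y' (s x) = 0 by rw [← hs1', pres q hs]; exact hx.2⟩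
    refine ⟨resEquiv s a2, (hS _).2 ⟨⟨fun x => hs.1 x, Subtype.ext hs.2.1, map_zero _⟩,
      fun a ha => ?_⟩, LinearEquiv.ext fun v => ?_⟩
    · let A : Submodule F V := LinearMap.ker (B y) ⊓ LinearMap.ker (B w)
      have := dual_eq_of_addChar hφ hφ0 hφ1 (l := (L.comp (s : V →ₗ[F] V)).comp A.subtype)
        (l' := L.comp A.subtype) fun b => by
          have b1 : B w (s b) = 0 := by rw [← hs.2.1, pres q hs]; exact b.2.2
          have b2 : B y (s b) = 0 := by rw [← hs.2.2, pres q hs]; exact b.2.1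
          have b3 := hs2 ⟨_, b, b.2.1, b.2.2, rfl⟩ ⟨_, s b, b2, b1, rfl⟩ (sg_conj q hs b.2.1).symm
          rw [hL _ _ b2 b1 rfl, hL _ b b.2.1 b.2.2 rfl] at b3
          exact b3
      exact LinearMap.congr_fun this ⟨a, a.2.1, ha⟩
    · obtain ⟨x, v, rfl⟩ := exists_add_of_isCompl hc v
      obtain ⟨a, b, hx⟩ := Submodule.mem_span_pair.1 x.2
      rw [map_add, ι1 _ x x.2, ι2, map_add, resEquiv_apply, ← hx, map_add, map_smul, map_smul,
        hs.2.2, hs1']
  · rw [tw_one]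
    exact hS'.map ι fun _ _ => rfl
  · rintro ⟨_, a, ha, ha', rfl⟩ n' hn'
    rw [tw_one] at hn'
    rw [hL n' a ha ha' hn', hL _ a ha ha' rfl]
    rcases hφ2 (L a) with e | e <;> simp [e]

theorem case_zero (IH : Fam F (Nat.card V)) (h : OD Q B w)
    (h2 : ∀ P : Subgroup (V ≃ₗ[F] V), P ≤ OG F Q w 0 → IsPGroup 2 P →
      ∃ S, P ≤ S ∧ S ≤ OG F Q w 0 ∧ GoodOn (MonoidHom.id _) S) :
    GoodOn (MonoidHom.id _) (OG F Q w 0) := by
  haveI : FiniteDimensional F V := Module.Finite.of_finite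
  have q := h.toQS
  refine brauer_on ⟨fun g hg => hg, fun _ _ => rfl⟩ (fun c hc hodd => ?_) fun P hP pP =>
    let ⟨S, a1, a2, a3⟩ := h2 P hP pP; ⟨S, a1, a3.sub a2⟩
  by_cases hc1 : c = 1
  · exact Or.inr ⟨fun g _ => by rw [hc1, one_mul, mul_one], by rw [hc1]; rfl⟩
  left
  have hs := (odd_split hodd).symm
  set W₁ := LinearMap.range ((c : V →ₗ[F] V) - LinearMap.id) with hW₁
  set W₂ := LinearMap.ker ((c : V →ₗ[F] V) - LinearMap.id) with hW₂
  have m2 : ∀ {x}, x ∈ W₂ ↔ c x = x := sub_eq_zero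
  have ho : ∀ x ∈ W₁, ∀ v ∈ W₂, B x v = 0 := by
    rintro _ ⟨x, rfl⟩ v hv
    have := pres q hc x v
    rw [m2.1 hv] at this
    simp [this]
  have hw : w ∈ W₂ := m2.2 hc.2.1
  have hcen : ∀ g : V ≃ₗ[F] V, c * g = g * c → (∀ x ∈ W₁, g x ∈ W₁) ∧ ∀ x ∈ W₂, g x ∈ W₂ :=
    fun g hg => by
    have e : ∀ x, c (g x) = g (c x) := fun x => LinearEquiv.congr_fun hg x
    refine ⟨?_, fun x hx => m2.2 (by rw [e, m2.1 hx])⟩
    rintro _ ⟨x, rfl⟩
    exact ⟨g x, by simp [e]⟩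
  let c' := resEquiv c (hcen c rfl).1
  have hcc : ext2 hs (c', 1) = c := LinearEquiv.ext fun v => by
    obtain ⟨x, u, rfl⟩ := exists_add_of_isCompl hs v
    rw [ext2_add, map_add, m2.1 u.2]
    rfl
  have hf : ∀ x, c' x = x → x = 0 := fun x hx => Subtype.ext
    (Submodule.disjoint_def.1 hs.disjoint x x.2 (m2.2 (congrArg Subtype.val hx)))
  have hord : orderOf c' ∣ orderOf c := orderOf_dvd_of_pow_eq_one (congrArg Prod.fst
    (ext2_injective hs (a₁ := (c', 1) ^ orderOf c) (a₂ := 1)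
      (by rw [map_pow, hcc, pow_orderOf_eq_one, map_one])))
  obtain ⟨t, ht, htt, hG⟩ := gen (B := B.restrict W₁) (C := Subgroup.zpowers c')
    { symm := fun x y => q.symm x y
      nd := fun x hx => nd_left h hs ho hw x hx
      comm := by
        rintro _ ⟨i, rfl⟩ _ ⟨j, rfl⟩
        exact zpow_mul_comm c' i j
      odd := fun d hd => hodd.of_dvd_nat ((orderOf_dvd_of_mem_zpowers hd).trans hord)
      iso := fun d hd => (Subgroup.zpowers_le (H := UG F fun x y => B.restrict W₁ x y)).2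
        (fun x y => pres q hc x y) hd
      nofix := fun v hv => hf v (hv c' (Subgroup.mem_zpowers _)) }
  have hq : ∀ g : W₁ ≃ₗ[F] W₁, (∀ x y, B.restrict W₁ (g x) (g y) = B.restrict W₁ x y) →
      (g * c' * g⁻¹ = c' ∨ g * c' * g⁻¹ = c'⁻¹) → ∀ x, Q (g x) = Q x := fun g a b =>
    (q.restrict W₁).q_pres (fun x => hc.1 x) hf a b
  have hlt : Nat.card W₂ < Nat.card V := by
    obtain ⟨v, hv⟩ : ∃ v, c v ≠ v := by
      by_contra hh
      push Not at hh
      exact hc1 (LinearEquiv.ext hh)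
    exact card_sub_lt (mt m2.1 hv)
  have g2 := IH W₂ _ _ ⟨w, hw⟩ 0 hlt (od_right h hs ho hw) q.zero (by simp)
  refine ⟨inf_le_left, ext2 hs (t, 1), ⟨ext2_iso q hs ho
    (hq t ht.1 (Or.inr (ht.2 c' (Subgroup.mem_zpowers _)))) fun _ => rfl,
    ext2_right hs _ ⟨w, hw⟩, map_zero _⟩, ?_, ?_⟩
  · rw [MonoidHom.id_apply, ← map_mul, Prod.mk_mul_mk, htt, one_mul]
    exact map_one _
  convert (hG.prod g2).map (β := tw (MonoidHom.id _) (ext2 hs (t, 1))) (ext2 hs) fun p _ => by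
    rw [tw_apply, MonoidHom.id_apply, ← map_inv, ← map_mul, ← map_mul]
    exact congrArg (ext2 hs) (Prod.ext rfl (by simp))
  refine le_antisymm (fun g hg => ?_) ?_
  · have a1 : c * g = g * c := hg.2 c rfl
    obtain ⟨p, rfl⟩ := exists_ext2 hs (hcen g a1).1 (hcen g a1).2
    rw [← hcc, ← map_mul, ← map_mul] at a1
    have a2 : c' * p.1 = p.1 * c' := congrArg Prod.fst (ext2_injective hs a1)
    refine ⟨p, ⟨⟨fun x y => ?_, ?_⟩, fun x => ?_, Subtype.ext ?_, map_zero _⟩, rfl⟩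
    · show B (p.1 x) (p.1 y) = B x y
      rw [← ext2_left hs p, ← ext2_left hs p, pres q hg.1]
    · rintro _ ⟨i, rfl⟩
      exact (Commute.zpow_left a2 i).eq
    · exact (congrArg Q (ext2_right hs p x)).symm.trans (hg.1.1 _)
    · rw [← ext2_right hs p]; exact hg.1.2.1
  · rintro _ ⟨p, ⟨a1, a2⟩, rfl⟩
    have a3 : c' * p.1 = p.1 * c' := a1.2 c' (Subgroup.mem_zpowers _)
    refine ⟨⟨ext2_iso q hs ho (hq p.1 a1.1 (Or.inl (by rw [← a3, mul_inv_cancel_right]))) a2.1,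
      (ext2_right hs _ ⟨w, hw⟩).trans (congrArg Subtype.val a2.2.1), map_zero _⟩, ?_⟩
    rintro _ rfl
    rw [← hcc, ← map_mul, ← map_mul]
    exact congrArg (ext2 hs) (Prod.ext a3 (by simp))

theorem case_w (IH : Fam F (Nat.card V)) (h : OD Q B w) (hw : Q w ≠ 0) :
    GoodOn (MonoidHom.id _) (OG F Q w 0) := by
  have q := h.toQS
  by_cases h0 : ∀ x, B w x = 0 → ∃ s : F, x = s • w
  · have key : ∀ g ∈ OG F Q w 0, ∀ x, ∃ s : F, g x = x + s • w := fun g hg x => by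
      obtain ⟨s, hs⟩ := h0 (g x - x) (by rw [map_sub, ← pres q hg w x, hg.2.1, sub_self])
      exact ⟨s, sub_eq_iff_eq_add'.1 hs⟩
    refine goodOn_of_comm (fun a ha b hb => LinearEquiv.ext fun x => ?_) fun a ha => ?_
    · obtain ⟨s, hs⟩ := key a ha x
      obtain ⟨t, ht⟩ := key b hb x
      rw [LinearEquiv.mul_apply, LinearEquiv.mul_apply, hs, ht, map_add, map_add, map_smul, map_smul,
        hs, ht, ha.2.1, hb.2.1, add_right_comm]
    · refine eq_inv_of_mul_eq_one_left (LinearEquiv.ext fun x => ?_)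
      obtain ⟨s, hs⟩ := key a ha x
      rw [MonoidHom.id_apply, LinearEquiv.mul_apply, hs, map_add, map_smul, hs, ha.2.1, add_assoc,
        add_self_two F, add_zero]
      rfl
  push Not at h0
  obtain ⟨u, hu, hu'⟩ := h0
  refine case_zero IH h fun P hP pP => ?_
  let A : Submodule F V := LinearMap.ker (B w)
  let R : Submodule F A := Submodule.span F {⟨w, q.self w⟩}
  let X : Set V := {x | B w x = 0 ∧ Q x = 0}
  have hX : Nat.card X = Nat.card (A ⧸ R) := by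
    refine Nat.card_congr (Equiv.ofBijective (fun x => R.mkQ ⟨x.1, x.2.1⟩) ⟨fun a b hab => ?_,
      fun x => ?_⟩)
    · obtain ⟨t, ht⟩ := Submodule.mem_span_singleton.1 ((Submodule.Quotient.eq R).1 hab)
      have e : a.1 = b.1 + t • w := sub_eq_iff_eq_add'.1 (congrArg Subtype.val ht).symm
      rw [eq_zero_of_Q q hw ((q.symm _ _).trans b.2.1) (t := t) (by rw [← e, a.2.2, b.2.2]),
        zero_smul, add_zero] at e
      exact Subtype.ext e
    · obtain ⟨x, rfl⟩ := R.mkQ_surjective x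
      obtain ⟨t, ht⟩ := exists_sing q hw ((q.symm _ _).trans x.2)
      have hx : B w x = 0 := x.2
      exact ⟨⟨x + t • w, by simp [hx, q.self], ht⟩, (Submodule.Quotient.eq R).2
        (Submodule.mem_span_singleton.2 ⟨t, Subtype.ext (by simp)⟩)⟩
  haveI : Nontrivial (A ⧸ R) := ⟨R.mkQ ⟨u, hu⟩, 0, fun e => by
    obtain ⟨t, ht⟩ := Submodule.mem_span_singleton.1 ((Submodule.Quotient.mk_eq_zero R).1 e)
    exact hu' t (congrArg Subtype.val ht).symm⟩
  haveI : Finite (A ⧸ R) := Finite.of_surjective _ R.mkQ_surjective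
  have h1 := even_card (V := A ⧸ R) F
  have h2 : Nat.card ↥(X \ {0}) + 1 = Nat.card X :=
    Set.ncard_diff_singleton_add_one (s := X) ⟨map_zero _, q.zero⟩
  obtain ⟨x, ⟨hx, hx0⟩, hx'⟩ := exists_fixed_of_odd pP (X := X \ {0})
    (fun g hg x hx => ⟨⟨by rw [← (hP hg).2.1, pres q (hP hg)]; exact hx.1.1,
      ((hP hg).1 x).trans hx.1.2⟩, by simpa using hx.2⟩) (by
      rw [← hX, ← h2] at h1
      exact Nat.not_even_iff_odd.1 (Nat.even_add_one.1 h1))
  exact ⟨OG F Q w x, fun g hg => ⟨(hP hg).1, (hP hg).2.1, hx' g hg⟩,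
    fun g hg => ⟨hg.1, hg.2.1, map_zero _⟩,
    case_y IH h hx.2 ((q.symm _ _).trans hx.1) hx0⟩

theorem step (IH : Fam F (Nat.card V)) (h : OD Q B w) (hy : Q y = 0) (hyw : B y w = 0) :
    GoodOn (MonoidHom.id _) (OG F Q w y) := by
  by_cases hy0 : y = 0
  swap
  · exact case_y IH h hy hyw hy0
  subst hy0
  rcases h.hw with rfl | hw
  swap
  · exact case_w IH h hw
  rcases subsingleton_or_nontrivial V with hV | hV
  · exact goodOn_of_comm (fun a _ b _ => LinearEquiv.ext fun x => Subsingleton.elim _ _)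
      fun a _ => LinearEquiv.ext fun x => Subsingleton.elim _ _
  refine case_zero IH h fun P hP pP => ?_
  obtain ⟨v, hv, hv'⟩ := exists_fixed_ne_zero pP
  refine ⟨OG F Q 0 v, fun g hg => ⟨(hP hg).1, map_zero _, hv' g hg⟩,
    fun g hg => ⟨hg.1, map_zero _, map_zero _⟩, ?_⟩
  by_cases hq : Q v = 0
  · exact case_y IH h hq (map_zero _) hv
  · rw [OG_swap]
    exact case_w IH ⟨h.toQS, Or.inr hq, fun x hx => (h.rad x hx).elim fun s hs =>
      ⟨0, by rw [hs, smul_zero, zero_smul]⟩⟩ hq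

theorem fam (F : Type u) [Field F] [Finite F] [CharP F 2] (n : ℕ) : Fam F n := by
  induction n with
  | zero => exact fun W _ _ _ Q B w y hn => absurd hn (Nat.not_lt_zero _)
  | succ n ih =>
    intro W _ _ _ Q B w y hn h hy hyw
    exact step (fun U _ _ _ Q' B' w' y' hU => ih U Q' B' w' y' (by omega)) h hy hyw

end E

theorem ofam {F V : Type u} [Field F] [AddCommGroup V] [Module F V] [Finite F] [Finite V]
    [CharP F 2] {Q : V → F} {B : LinearMap.BilinForm F V} {w y : V} (h : OD Q B w) (hy : Q y = 0)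
    (hyw : B y w = 0) : GoodOn (MonoidHom.id _) (OG F Q w y) :=
  E.fam F _ V Q B w y (Nat.lt_succ_self _) h hy hyw

end Cfsg.Agent.FS
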