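import Cfsg.Agent.Lib.FS.F2
import Cfsg.Agent.Lib.FS.E

/-!
# The derived orthogonal group in dimension `4m` (notes/FS.md, part F)
-/

set_option autoImplicit false

open Module Cfsg

namespace Cfsg.Agent.FS

universe u

variable {F V : Type u} [Field F] [AddCommGroup V] [Module F V] [Finite F] [Finite V] [CharP F 2]
  {Q : V → F} {B : LinearMap.BilinForm F V}

omit [Finite F] [Finite V] [CharP F 2] in
theorem f_nd (h : OD Q B 0) (x : V) (hx : ∀ y, B x y = 0) : x = 0 := by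
  obtain ⟨s, hs⟩ := h.rad x hx
  rw [hs, smul_zero]

omit [Finite F] [Finite V] [CharP F 2] in
theorem f_pres (h : OD Q B 0) {g : V ≃ₗ[F] V} (hg : g ∈ OG F Q 0 0) (x y : V) :
    B (g x) (g y) = B x y := h.toQS.pres (f := (g : V →ₗ[F] V)) hg.1 x y

omit [Finite F] [Finite V] [CharP F 2] in
theorem f_mem {g : V ≃ₗ[F] V} (hg : ∀ x, Q (g x) = Q x) : g ∈ OG F Q 0 0 :=
  ⟨hg, map_zero _, map_zero _⟩

omit [Finite F] [Finite V] [CharP F 2] in
theorem f_pow_fix {d : V ≃ₗ[F] V} {x : V} (hx : d x = x) (m : ℕ) : (d ^ m) x = x := by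
  induction m with
  | zero => rfl
  | succ m ih => rw [pow_succ, LinearEquiv.mul_apply, hx, ih]

omit [Finite F] [Finite V] [CharP F 2] in
theorem f_fix_of_pow {c : V ≃ₗ[F] V} (hodd : Odd (orderOf c)) {k : ℕ} {x : V}
    (hx : (c ^ 2 ^ k) x = x) : c x = x := by
  obtain ⟨m, hm⟩ := exists_pow_eq_self_of_coprime (x := c) (n := 2 ^ k)
    (Nat.Coprime.pow_left k (Nat.coprime_two_left.2 hodd))
  rw [← hm]
  exact f_pow_fix hx m

omit [Finite F] in
theorem f_dk_pow (h : OD Q B 0) {g : V ≃ₗ[F] V} (hg : g ∈ OG F Q 0 0) (m : ℕ) :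
    Even (Dk (g ^ m) + m * Dk g) := by
  induction m with
  | zero =>
    have : Dk (1 : V ≃ₗ[F] V) = 0 := by
      unfold Dk
      rw [show ((1 : V ≃ₗ[F] V) : V →ₗ[F] V) - LinearMap.id = 0 from sub_self _]
      simp
    simp [this]
  | succ m ih =>
    have := dk_mul h (pow_mem hg m) hg
    rw [← pow_succ] at this
    rw [add_mul, one_mul]
    grind

/-- isometries centralizing a fixed point free odd order isometry are even -/
theorem f_dk_cent (h : OD Q B 0) {c g : V ≃ₗ[F] V} (hc : c ∈ OG F Q 0 0)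
    (hodd : Odd (orderOf c)) (hf : ∀ x, c x = x → x = 0) (hg : g ∈ OG F Q 0 0)
    (hgc : Commute g c) : Even (Dk g) := by
  obtain ⟨a, m, hm, hord⟩ := Nat.exists_eq_two_pow_mul_odd (orderOf_pos g).ne'
  have hu1 : (g ^ m) ^ 2 ^ a = 1 := by rw [← pow_mul, mul_comm, ← hord, pow_orderOf_eq_one]
  suffices Even (Dk (g ^ m)) by
    have h1 := f_dk_pow h hg m
    obtain ⟨k, rfl⟩ := hm
    rw [add_mul, mul_assoc] at h1
    grind
  have hu := pow_mem hg m
  have huc : Commute (g ^ m) c := hgc.pow_left m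
  generalize g ^ m = u at hu1 hu huc
  have huc' : ∀ x, u (c x) = c (u x) := fun x => by
    rw [← LinearEquiv.mul_apply, huc.eq, LinearEquiv.mul_apply]
  let d : V ≃ₗ[F] V := (u * c)⁻¹
  have hd : ∀ x, d (u x) = c⁻¹ x := fun x => by
    rw [← LinearEquiv.mul_apply, show d * u = c⁻¹ by simp [d]]
  let L : V →ₗ[F] V := ((c : V →ₗ[F] V) + (d : V →ₗ[F] V)) ∘ₗ ((u : V →ₗ[F] V) - LinearMap.id)
  have hL : ∀ x, L x = (u * c) x - c x + (c⁻¹ x - (u * c)⁻¹ x) := fun x => by
    simp only [L, LinearMap.comp_apply, LinearMap.add_apply, LinearMap.sub_apply,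
      LinearEquiv.coe_coe, LinearMap.id_apply, map_sub, hd, LinearEquiv.mul_apply, huc']
    abel
  have hadj : ∀ {e : V ≃ₗ[F] V}, e ∈ OG F Q 0 0 → ∀ x y, B (e x) y = B (e⁻¹ y) x :=
    fun {e} he x y => by
      rw [h.symm _ x, ← f_pres h he x (e⁻¹ y), ← LinearEquiv.mul_apply e e⁻¹, mul_inv_cancel]
      rfl
  let B' : LinearMap.BilinForm F V := B ∘ₗ L
  have hB' : ∀ x y, B' x y = B (L x) y := fun _ _ => rfl
  have hs : ∀ x y, B' x y = B' y x := fun x y => by
    have h1 := hadj (mul_mem hu hc) x y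
    have h2 := hadj hc x y
    have h3 := hadj (mul_mem hu hc) y x
    have h4 := hadj hc y x
    simp only [hB', hL, map_add, map_sub, LinearMap.add_apply, LinearMap.sub_apply]
    rw [h1, h2, h3, h4]
    linear_combination (B ((u * c)⁻¹ y) x - B (c⁻¹ y) x + B (c⁻¹ x) y - B ((u * c)⁻¹ x) y) *
      (CharTwo.two_eq_zero : (2 : F) = 0)
  have hLc : ∀ x, L (c x) = c (L x) := fun x => by
    have h1 : Commute (u * c) c := huc.mul_left (Commute.refl c)
    simp only [hL, map_add, map_sub, ← LinearEquiv.mul_apply, h1.eq, h1.inv_left.eq,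
      inv_mul_cancel, mul_inv_cancel]
  have halt := alt_of_nofix B' hs (c : V →ₗ[F] V) (fun x y => by
    simp only [hB', LinearEquiv.coe_coe, hLc, f_pres h hc]) hf
  obtain ⟨k, hk⟩ := alt_even B' halt
  have hker : LinearMap.ker B' = LinearMap.ker ((u : V →ₗ[F] V) - LinearMap.id) := by
    ext x
    simp only [LinearMap.mem_ker]
    constructor
    · intro hx
      have h1 : L x = 0 := f_nd h _ fun y => by rw [← hB', hx]; rfl
      set w := ((u : V →ₗ[F] V) - LinearMap.id : V →ₗ[F] V) x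
      have h2 : c w + d w = 0 := h1
      have h3 : d w = c w := by
        rw [← add_left_cancel_iff (a := c w), h2, add_self_two F]
      have h4 : (u * c ^ 2) w = w := by
        rw [pow_two, ← mul_assoc, LinearEquiv.mul_apply, ← h3, ← LinearEquiv.mul_apply,
          mul_inv_cancel]
        rfl
      have h5 := f_pow_fix h4 (2 ^ a)
      rw [(huc.pow_right 2).mul_pow, hu1, one_mul, ← pow_mul, ← pow_succ'] at h5
      exact hf _ (f_fix_of_pow hodd h5)
    · intro hx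
      change B (L x) = 0
      simp only [L, LinearMap.comp_apply, hx, map_zero]
  have := LinearMap.finrank_range_add_finrank_ker ((u : V →ₗ[F] V) - LinearMap.id)
  rw [hker] at hk
  exact ⟨k, by unfold Dk; omega⟩

/-- isometries inverting a fixed point free odd order isometry -/
theorem dk_inverting (h : OD Q B 0) {c t : V ≃ₗ[F] V} (hc : c ∈ OG F Q 0 0)
    (hodd : Odd (orderOf c)) (hf : ∀ x, c x = x → x = 0) (ht : t ∈ OG F Q 0 0)
    (htc : t * c * t⁻¹ = c⁻¹) : 2 * Dk t ≡ finrank F V [MOD 4] := by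
  have hC : ∀ d ∈ Subgroup.zpowers c, d ∈ OG F Q (0 : V) 0 := fun d hd =>
    (Subgroup.zpowers_le.2 hc) hd
  obtain ⟨τ, hτ, hττ, -⟩ := gen (B := B) (C := Subgroup.zpowers c)
    { symm := h.symm
      nd := f_nd h
      comm := by
        rintro _ ⟨i, rfl⟩ _ ⟨j, rfl⟩
        exact zpow_mul_comm c i j
      odd := fun d hd => Odd.of_dvd_nat hodd (orderOf_dvd_of_mem_zpowers hd)
      iso := fun d hd => f_pres h (hC d hd)
      nofix := fun v hv => hf v (hv c (Subgroup.mem_zpowers c)) }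
  have hτc := hτ.2 c (Subgroup.mem_zpowers c)
  have hτO : τ ∈ OG F Q (0 : V) 0 := f_mem (h.toQS.q_pres hc.1 hf hτ.1 (Or.inr hτc))
  have h1 : Even (Dk (t * τ)) := f_dk_cent h hc hodd hf (mul_mem ht hτO) (by
    have h2 : t * c⁻¹ * t⁻¹ = c := by rw [← conj_inv, htc, inv_inv]
    change t * τ * c = c * (t * τ)
    calc t * τ * c = t * (τ * c * τ⁻¹) * t⁻¹ * (t * τ) := by group
      _ = c * (t * τ) := by rw [hτc, h2])
  have h2 := dk_mul h ht hτO
  let K := LinearMap.ker ((τ : V →ₗ[F] V) - LinearMap.id)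
  have hK : ∀ x, x ∈ K ↔ τ x = x := fun x => sub_eq_zero
  have h3 := LinearMap.finrank_range_add_finrank_ker ((τ : V →ₗ[F] V) - LinearMap.id)
  have h4 : LinearMap.range ((τ : V →ₗ[F] V) - LinearMap.id) ≤ K := by
    rintro _ ⟨x, rfl⟩
    rw [hK]
    change τ (τ x - x) = τ x - x
    rw [map_sub, ← LinearEquiv.mul_apply τ τ, hττ, ← neg_sub, neg_eq_iff_add_eq_zero]
    exact add_self_two F _
  have h5 : K ⊓ K.map (c : V →ₗ[F] V) = ⊥ := by
    rw [eq_bot_iff]
    rintro _ ⟨h6, y, h7, rfl⟩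
    have h8 : τ (c y) = c y := (hK _).1 h6
    have h9 : τ y = y := (hK _).1 h7
    rw [← LinearEquiv.mul_apply τ c, mul_inv_eq_iff_eq_mul.1 hτc, LinearEquiv.mul_apply, h9] at h8
    have h10 : (c ^ 2 ^ 1) y = y := by
      rw [pow_one, pow_two, LinearEquiv.mul_apply, ← h8, ← LinearEquiv.mul_apply, mul_inv_cancel]
      rfl
    rw [hf y (f_fix_of_pow hodd h10), map_zero]
    exact zero_mem _
  have h6 := Submodule.finrank_sup_add_finrank_inf_eq K (K.map (c : V →ₗ[F] V))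
  rw [h5, finrank_bot, add_zero, LinearEquiv.finrank_map_eq] at h6
  have h7 := Submodule.finrank_le (K ⊔ K.map (c : V →ₗ[F] V))
  have h8 := Submodule.finrank_mono h4
  have h9 : 2 * Dk τ = finrank F V := by
    change finrank F (LinearMap.range _) + finrank F K = _ at h3
    unfold Dk
    omega
  obtain ⟨a, ha⟩ := h1
  obtain ⟨b, hb⟩ := h2
  unfold Nat.ModEq
  omega

theorem real_even (h : OD Q B 0) (h4 : 4 ∣ finrank F V) {g : V ≃ₗ[F] V} (hg : g ∈ OG F Q 0 0) :
    ∃ x ∈ OG F Q (0 : V) 0, Even (Dk x) ∧ x * g * x⁻¹ = g⁻¹ := by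
  obtain ⟨x, hx, hxg⟩ := (ofam (y := 0) h h.toQS.zero (by simp)).real hg
  replace hxg : x * g * x⁻¹ = g⁻¹ := hxg
  rcases Nat.even_or_odd (Dk x) with hev | hodx
  · exact ⟨x, hx, hev, hxg⟩
  obtain ⟨a, m, hm, hord⟩ := Nat.exists_eq_two_pow_mul_odd (orderOf_pos g).ne'
  obtain ⟨c, hcd⟩ : ∃ c, c = g ^ 2 ^ a := ⟨_, rfl⟩
  have hc : c ∈ OG F Q (0 : V) 0 := hcd ▸ pow_mem hg _
  have hodd : Odd (orderOf c) := Odd.of_dvd_nat hm (orderOf_dvd_of_pow_eq_one (by
    rw [hcd, ← pow_mul, ← hord, pow_orderOf_eq_one]))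
  have hxc : x * c * x⁻¹ = c⁻¹ := by rw [hcd, ← conj_pow, hxg, inv_pow]
  have hgc : g * c = c * g := by rw [hcd, ← pow_succ, ← pow_succ']
  have hV := odd_split hodd
  set V₁ := LinearMap.ker ((c : V →ₗ[F] V) - LinearMap.id) with hV₁
  set V₂ := LinearMap.range ((c : V →ₗ[F] V) - LinearMap.id) with hV₂
  have hm1 : ∀ v, v ∈ V₁ ↔ c v = v := fun v => sub_eq_zero
  have hm2 : ∀ v, v ∈ V₂ ↔ ∃ y, c y - y = v := fun v => Iff.rfl
  have horth : ∀ (v : V₁) (w : V₂), B v w = 0 := by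
    rintro ⟨v, hv⟩ ⟨w, hw⟩
    obtain ⟨y, rfl⟩ := (hm2 w).1 hw
    have := f_pres h hc v y
    rw [(hm1 v).1 hv] at this
    simp [this]
  have hO1 : OD (fun v : V₁ => Q v) (B.restrict V₁) 0 :=
    { h.toQS.restrict V₁ with
      hw := Or.inl rfl
      rad := fun v hv => ⟨0, by
        rw [zero_smul]
        refine Subtype.ext (f_nd h _ fun y => ?_)
        obtain ⟨y₁, y₂, rfl⟩ := exists_add_of_isCompl hV y
        rw [map_add, horth, add_zero]
        exact hv y₁⟩ }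
  have hO2 : OD (fun v : V₂ => Q v) (B.restrict V₂) 0 :=
    { h.toQS.restrict V₂ with
      hw := Or.inl rfl
      rad := fun v hv => ⟨0, by
        rw [zero_smul]
        refine Subtype.ext (f_nd h _ fun y => ?_)
        obtain ⟨y₁, y₂, rfl⟩ := exists_add_of_isCompl hV y
        rw [map_add, h.symm, horth, zero_add]
        exact hv y₂⟩ }
  have hinv : ∀ e : V ≃ₗ[F] V, e * c = c * e ∨ e * c * e⁻¹ = c⁻¹ → ∃ p, ext2 hV p = e := by
    rintro e (he | he)
    · have he' : ∀ v, e (c v) = c (e v) := fun v => by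
        rw [← LinearEquiv.mul_apply, he, LinearEquiv.mul_apply]
      refine exists_ext2 hV (fun v hv => ?_) fun v hv => ?_
      · rw [hm1, ← he', (hm1 v).1 hv]
      · obtain ⟨y, rfl⟩ := (hm2 v).1 hv
        exact ⟨e y, by rw [map_sub e, he']; rfl⟩
    · have he' : ∀ v, c (e (c v)) = e v := fun v => by
        rw [← LinearEquiv.mul_apply e c, mul_inv_eq_iff_eq_mul.1 he, ← LinearEquiv.mul_apply,
          mul_inv_cancel_left]
      refine exists_ext2 hV (fun v hv => ?_) fun v hv => ?_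
      · have := he' v
        rwa [(hm1 v).1 hv, ← hm1] at this
      · obtain ⟨y, rfl⟩ := (hm2 v).1 hv
        refine (hm2 _).2 ⟨-e (c y), ?_⟩
        rw [map_neg, he', map_sub]
        abel
  have hres : ∀ p, ext2 hV p ∈ OG F Q (0 : V) 0 ↔
      p.1 ∈ OG F (fun v : V₁ => Q v) 0 0 ∧ p.2 ∈ OG F (fun v : V₂ => Q v) 0 0 := fun p => by
    refine ⟨fun hp => ⟨f_mem fun v => ?_, f_mem fun v => ?_⟩, fun hp => f_mem fun v => ?_⟩
    · rw [← ext2_left hV, hp.1]
    · rw [← ext2_right hV, hp.1]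
    · obtain ⟨y₁, y₂, rfl⟩ := exists_add_of_isCompl hV v
      have h1 : Q (p.1 y₁) = Q y₁ := hp.1.1 y₁
      have h2 : Q (p.2 y₂) = Q y₂ := hp.2.1 y₂
      rw [ext2_add, h.add, h.add, horth, horth, h1, h2]
  obtain ⟨pg, hpg⟩ := hinv g (Or.inl hgc)
  obtain ⟨px, hpx⟩ := hinv x (Or.inr hxc)
  obtain ⟨pc, hpc⟩ := hinv c (Or.inl rfl)
  have hg' := (hres pg).1 (hpg ▸ hg)
  have hx' := (hres px).1 (hpx ▸ hx)
  have hc' := (hres pc).1 (hpc ▸ hc)
  have hxg' : px * pg * px⁻¹ = pg⁻¹ := ext2_injective hV (by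
    simp only [map_mul, map_inv, hpg, hpx, hxg])
  have hxc' : px * pc * px⁻¹ = pc⁻¹ := ext2_injective hV (by
    simp only [map_mul, map_inv, hpc, hpx, hxc])
  by_cases hA : ∃ (v : V₁) (k : ℕ), (((pg.1 : V₁ →ₗ[F] V₁) - 1) ^ (2 * k + 1)) v = 0 ∧
      Q ((((pg.1 : V₁ →ₗ[F] V₁) - 1) ^ k) v : V₁) ≠ 0
  · obtain ⟨v, k, h1, h2⟩ := hA
    obtain ⟨z, hz, hzg, hzo⟩ := exists_odd_cent hO1 hg'.1 h1 h2
    have hz' : ext2 hV (z, 1) ∈ OG F Q (0 : V) 0 := (hres _).2 ⟨hz, one_mem _⟩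
    have h3 : ext2 hV (z, 1) * g = g * ext2 hV (z, 1) := by
      rw [← hpg, ← map_mul, ← map_mul]
      congr 1
      exact Prod.ext hzg (by simp)
    have h5 : Odd (Dk (ext2 hV (z, 1))) := by
      have := f_dk_pow hO2 (one_mem _) 0
      rw [Dk_ext2]
      simp only [pow_zero, zero_mul, add_zero] at this
      exact hzo.add_even this
    refine ⟨x * ext2 hV (z, 1), mul_mem hx hz', ?_, ?_⟩
    · have := dk_mul h hx hz'
      grind
    · rw [← hxg, mul_assoc x, h3]
      group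
  · push Not at hA
    have hnil : IsNilpotent ((pg.1 : V₁ →ₗ[F] V₁) - 1) := by
      refine ⟨2 ^ a, ?_⟩
      rcases subsingleton_or_nontrivial V₁ with hs | hs
      · exact Subsingleton.elim _ _
      have : CharP (Module.End F V₁) 2 :=
        charP_of_injective_algebraMap (algebraMap F (Module.End F V₁)).injective 2
      have := Fact.mk Nat.prime_two
      rw [sub_pow_char_pow_of_commute 2 a (Commute.one_right _), one_pow, sub_eq_zero]
      ext v
      have h1 : ext2 hV (pg ^ 2 ^ a) v = v := by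
        rw [map_pow, hpg, ← hcd]
        exact (hm1 v).1 v.2
      rw [ext2_left] at h1
      rw [Module.End.pow_apply]
      rw [Prod.pow_fst, LinearEquiv.pow_apply] at h1
      exact h1
    obtain ⟨h41, Y, hY, hYx⟩ := exists_can_lagr hO1 hg'.1 hnil hA
    have h1 := dk_lagr hO1 hx'.1 hY (hYx _ (congrArg Prod.fst hxg'))
    have h2 := dk_inverting hO2 hc'.2 (Odd.of_dvd_nat hodd (by
        rw [← hpc, orderOf_injective _ (ext2_injective hV)]
        exact orderOf_map_dvd (MonoidHom.snd _ _) pc))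
      (fun v hv => by
        have h3 : c v = v := by rw [← hpc, ext2_right, hv]
        exact Subtype.ext (Submodule.disjoint_def.1 hV.disjoint v ((hm1 v).2 h3) v.2))
      hx'.2 (congrArg Prod.snd hxc')
    have h3 := Submodule.finrank_add_eq_of_isCompl hV
    rw [← hpx, Dk_ext2] at hodx
    unfold Nat.ModEq at h2
    obtain ⟨k1, hk1⟩ := h1
    obtain ⟨k2, hk2⟩ := hodx
    omega

theorem goodOn_omega (h : OD Q B 0) (h4 : 4 ∣ finrank F V) (h5 : 5 ≤ finrank F V) :
    GoodOn (MonoidHom.id _) ⁅OG F Q (0 : V) 0, OG F Q (0 : V) 0⁆ := by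
  have : Nontrivial V := Module.nontrivial_of_finrank_pos (R := F) (by omega)
  obtain ⟨r, hr, hrr, hr1⟩ := exists_refl h
  have hle : ⁅OG F Q (0 : V) 0, OG F Q (0 : V) 0⁆ ≤ OG F Q (0 : V) 0 :=
    Subgroup.commutator_le.2 fun a ha b hb =>
      mul_mem (mul_mem (mul_mem ha hb) (inv_mem ha)) (inv_mem hb)
  refine goodOn_index_two (ofam (y := 0) h h.toQS.zero (by simp)) hle hr hrr (fun g hg => ?_)
    fun g hg => ?_
  · rw [mem_commutator_iff h h5 hg, mem_commutator_iff h h5 (mul_mem hg hr)]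
    have := dk_mul h hg hr
    grind
  · obtain ⟨x, hx, h1, h2⟩ := real_even h h4 (hle hg)
    exact ⟨x, (mem_commutator_iff h h5 hx).2 h1, h2⟩

end Cfsg.Agent.FS
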