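import Cfsg.Agent.Lib.FS.F1

/-!
# Unipotent isometries and the Dickson invariant (notes/FS.md, part F2)
-/

set_option autoImplicit false

open Module Cfsg Polynomial

namespace Cfsg.Agent.FS

variable {F V : Type*} [Field F] [AddCommGroup V] [Module F V] [FiniteDimensional F V]
  [Finite F] [CharP F 2] {Q : V → F} {B : LinearMap.BilinForm F V}

theorem OD.nondeg (h : OD Q B 0) : B.Nondegenerate := by
  have h1 : ∀ x, (∀ y, B x y = 0) → x = 0 := fun x hx => by simpa using h.rad x hx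
  exact ⟨h1, fun x hx => h1 x fun y => by rw [h.symm, hx]⟩

section wall

variable {u : V ≃ₗ[F] V} {R : Type*} [CommRing R] [Algebra F R] {x y : R} {k : ℕ}
  {σ : R →ₐ[F] R} {ev : R →ₗ[F] V}

theorem wall_form (h : OD Q B 0) (hu : u ∈ OG F Q 0 0) (hxy : x * y = 1)
    (b : Basis (Fin (2 * k + 1)) F R) (hb : ∀ i, b i = x ^ (i : ℕ)) (hσ : σ x = y)
    (hev : ∀ r, ev (x * r) = u (ev r)) :
    (∀ r, σ (σ r) = r) ∧ ∃ f : R →ₗ[F] F, ∀ r, f (σ r * r) = Q (ev r) := by
  have hB : ∀ v w, B (u v) (u w) = B v w := h.toQS.pres (f := u) hu.1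
  have hyx : y * x = 1 := (mul_comm _ _).trans hxy
  have hσy : σ y = x := by
    have := congrArg σ hxy
    rw [map_mul, map_one, hσ] at this
    rw [← one_mul (σ y), ← hxy, mul_assoc, this, mul_one]
  have hind : ∀ {p : R → Prop}, p 0 → (∀ i : ℕ, p (x ^ i)) → (∀ r s, p r → p s → p (r + s)) →
      (∀ (c : F) r, p r → p (c • r)) → ∀ r, p r := fun {p} h0 h1 h2 h3 r =>
    Submodule.span_induction (p := fun r _ => p r) (by rintro _ ⟨i, rfl⟩; exact hb i ▸ h1 i) h0
      (fun r s _ _ => h2 r s) (fun c r _ => h3 c r) (b.mem_span r)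
  have hσσ : ∀ r, σ (σ r) = r := hind (by simp) (by simp [hσ, hσy]) (by simp +contextual)
    (by simp +contextual)
  have hadj : ∀ r s t, B (ev (r * s)) (ev t) = B (ev s) (ev (σ r * t)) := by
    refine hind (by simp) (fun i => ?_) (by simp +contextual [add_mul]) (by simp +contextual)
    induction i with
    | zero => simp
    | succ i ih =>
      intro s t
      rw [pow_succ, mul_assoc, ih, hev, ← hB (ev s), ← hev (_ * t), map_mul σ, hσ]
      congr 2
      linear_combination (-σ (x ^ i) * t) * hxy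
  have hQ : ∀ i : ℕ, Q (ev (x ^ i)) = Q (ev 1) := fun i => by
    induction i with
    | zero => rw [pow_zero]
    | succ i ih => rw [pow_succ', hev, hu.1, ih]
  have hbσ : ∀ r, B (ev (σ r)) (ev 1) = B (ev r) (ev 1) := fun r => by
    rw [← mul_one (σ r), hadj, hσσ, mul_one, h.symm]
  obtain ⟨f₀, hf₀⟩ : ∃ f₀ : R →ₗ[F] F, ∀ i : Fin (2 * k + 1), f₀ (x ^ (i : ℕ)) =
      if k < i then B (ev (y ^ k * x ^ (i : ℕ))) (ev 1) else if k = i then Q (ev 1) else 0 :=
    ⟨b.constr F _, fun i => by rw [← hb, b.constr_basis]⟩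
  have hxk : ∀ j r, x ^ j * (y ^ j * r) = r := fun j r => by
    rw [← mul_assoc, ← mul_pow, hxy, one_pow, one_mul]
  have hf1 : f₀ (x ^ k) = Q (ev 1) := by simpa using hf₀ ⟨k, by omega⟩
  have hg : ∀ r, f₀ r + f₀ (x ^ k * σ (y ^ k * r)) = B (ev (y ^ k * r)) (ev 1) := fun r => by
    refine LinearMap.congr_fun (show f₀ + f₀ ∘ₗ LinearMap.mulLeft F (x ^ k) ∘ₗ σ.toLinearMap ∘ₗ
      LinearMap.mulLeft F (y ^ k) = B.flip (ev 1) ∘ₗ ev ∘ₗ LinearMap.mulLeft F (y ^ k) from
        b.ext fun i => ?_) r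
    have h3 : σ (y ^ k * x ^ (i : ℕ)) = y ^ k * x ^ (i.rev : ℕ) := by
      rw [map_mul, map_pow, map_pow, hσ, hσy, ← hxk k (x ^ k * y ^ (i : ℕ)), ← mul_left_comm,
        ← mul_assoc (x ^ k), ← pow_add, show k + k = i.rev + (i : ℕ) by
          rw [Fin.val_rev]; omega, pow_add, mul_assoc, ← mul_pow, hxy, one_pow, mul_one]
    have h4 := hbσ (y ^ k * x ^ (i : ℕ))
    rw [hb]
    change f₀ (x ^ (i : ℕ)) + f₀ (x ^ k * σ (y ^ k * x ^ (i : ℕ))) =
      B (ev (y ^ k * x ^ (i : ℕ))) (ev 1)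
    rw [h3] at h4
    rw [h3, hxk, hf₀, hf₀, h4]
    have h5 := i.2
    rcases lt_trichotomy k i with h6 | h6 | h6
    · rw [if_pos h6, if_neg, if_neg, add_zero] <;> rw [Fin.val_rev] <;> omega
    · rw [if_neg h6.not_lt, if_pos h6, if_neg, if_pos, CharTwo.add_self_eq_zero, ← h6,
        ← mul_pow, hyx, one_pow, h.toQS.self] <;> rw [Fin.val_rev] <;> omega
    · rw [if_neg h6.not_gt, if_neg h6.ne', if_pos, zero_add]; rw [Fin.val_rev]; omega
  refine ⟨hσσ, f₀ ∘ₗ LinearMap.mulLeft F (x ^ k), ?_⟩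
  simp only [LinearMap.comp_apply, LinearMap.mulLeft_apply]
  refine hind (by simp [h.toQS.zero]) (fun i => ?_) (fun r s hr hs => ?_) fun c r hr => ?_
  · rw [map_pow, hσ, ← mul_pow, hyx, one_pow, mul_one, hf1, hQ]
  · have := hg (x ^ k * (σ s * r))
    rw [mul_left_comm (y ^ k), hxk, hadj, map_mul σ, hσσ, mul_one] at this
    rw [map_add σ, map_add ev, h.add, ← hr, ← hs, ← this, ← map_add f₀, ← map_add f₀, ← map_add f₀]
    congr 1; ring
  · rw [map_smul, map_smul, h.smul, ← hr, smul_mul_smul_comm, mul_smul_comm, map_smul,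
      smul_eq_mul, sq]

theorem wall_core (h : OD Q B 0) (hu : u ∈ OG F Q 0 0) (hxy : x * y = 1)
    (b : Basis (Fin (2 * k + 1)) F R) (hb : ∀ i, b i = x ^ (i : ℕ)) (hσ : σ x = y)
    (hev : ∀ r, ev (x * r) = u (ev r)) (hi : Function.Injective ev)
    (hs : ∀ s : R, s ≠ 0 → ∃ r, s * r = (x - 1) ^ (2 * k)) (h1 : Q (ev ((x - 1) ^ k)) ≠ 0) :
    ∃ z ∈ OG F Q (0 : V) 0, z * u = u * z ∧ Odd (Dk z) := by
  have := Module.Finite.of_basis b
  have hB : ∀ v w, B (u v) (u w) = B v w := h.toQS.pres (f := u) hu.1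
  obtain ⟨hσσ, f, hq⟩ := wall_form h hu hxy b hb hσ hev
  have hβ' : ∀ s, (∀ r, f (s * r) = 0) → s = 0 := fun s h2 => by
    by_contra h3
    obtain ⟨r, hr⟩ := hs s h3
    refine h1 ?_
    rw [← hq, ← h2 (r * (-y) ^ k), ← mul_assoc, hr, map_pow, map_sub, hσ, map_one, two_mul,
      pow_add, ← mul_pow, ← mul_pow, ← mul_pow]
    congr 2
    linear_combination (x - 1) * hxy
  obtain ⟨β, hβd⟩ : ∃ β : LinearMap.BilinForm F R, ∀ r s, β r s = f (σ r * s) :=
    ⟨(LinearMap.mul F R ∘ₗ σ.toLinearMap).compr₂ f, fun _ _ => rfl⟩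
  have hβ : β.Nondegenerate := ⟨fun s h2 => by
    rw [← hσσ s, hβ' (σ s) fun r => by rw [← hβd, h2], map_zero],
    fun s h2 => hβ' s fun r => by rw [mul_comm, ← hσσ r, ← hβd, h2]⟩
  obtain ⟨φ, hφ, h2⟩ : ∃ φ : V →ₗ[F] R, (∀ v r, β (φ v) r = B v (ev r)) ∧ Function.Surjective φ :=
    ⟨(β.toDual hβ).symm.toLinearMap ∘ₗ ev.dualMap ∘ₗ B, fun v r =>
      LinearMap.BilinForm.apply_toDual_symm_apply (hB := hβ) _ r,
      (β.toDual hβ).symm.surjective.comp
        ((LinearMap.dualMap_surjective_of_injective hi).comp (B.toDual h.nondeg).surjective)⟩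
  let z := LinearMap.id + ev ∘ₗ φ
  have hz : ∀ v, Q (z v) = Q v := fun v => by
    change Q (v + ev (φ v)) = _
    rw [h.add, ← hφ, hβd, hq, add_assoc, CharTwo.add_self_eq_zero, add_zero]
  have hzi : Function.Injective z := (injective_iff_map_eq_zero z).2 fun v hv =>
    h.nondeg.1 v fun w => by rw [← h.toQS.pres hz, hv, map_zero, LinearMap.zero_apply]
  have hφu : ∀ v, φ (u v) = x * φ v := fun v => (β.toDual hβ).injective (LinearMap.ext fun r => by
    change β (φ (u v)) r = β (x * φ v) r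
    rw [hφ, hβd, map_mul σ, hσ, mul_comm y, mul_assoc, ← hβd, hφ, ← hB v, ← hev, ← mul_assoc, hxy,
      one_mul])
  refine ⟨LinearEquiv.ofInjectiveEndo z hzi, ⟨hz, map_zero _, map_zero _⟩,
    LinearEquiv.ext fun v => ?_, ?_⟩
  · change u v + ev (φ (u v)) = u (v + ev (φ v))
    rw [hφu, hev, map_add]
  · rw [Dk, show ((LinearEquiv.ofInjectiveEndo z hzi : V ≃ₗ[F] V) : V →ₗ[F] V) - LinearMap.id =
      ev ∘ₗ φ from add_sub_cancel_left _ _, LinearMap.range_comp_of_range_eq_top _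
      (LinearMap.range_eq_top.2 h2), LinearMap.finrank_range_of_inj hi, finrank_eq_card_basis b,
      Fintype.card_fin]
    exact odd_two_mul_add_one k

end wall

theorem odd_cent_aux (h : OD Q B 0) {u : V ≃ₗ[F] V} (hu : u ∈ OG F Q 0 0) {a : V} {k : ℕ}
    (h0 : (((u : V →ₗ[F] V) - 1) ^ (2 * k + 1)) a = 0)
    (h1 : Q ((((u : V →ₗ[F] V) - 1) ^ k) a) ≠ 0) (h2 : (((u : V →ₗ[F] V) - 1) ^ (2 * k)) a ≠ 0) :
    ∃ z ∈ OG F Q (0 : V) 0, z * u = u * z ∧ Odd (Dk z) := by
  let P : F[X] := (X - C 1) ^ (2 * k + 1)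
  have hP : P.Monic := (monic_X_sub_C 1).pow _
  have hunit : ∀ q : F[X], ¬ X - C 1 ∣ q → ∃ y, AdjoinRoot.mk P q * y = 1 := fun q hq => by
    obtain ⟨c, d, e⟩ := ((irreducible_X_sub_C 1).coprime_iff_not_dvd.2 hq).pow_left
      (m := 2 * k + 1)
    refine ⟨AdjoinRoot.mk P d, ?_⟩
    rw [← map_one (AdjoinRoot.mk P), ← e, map_add, map_mul, map_mul, AdjoinRoot.mk_self, mul_zero,
      zero_add, mul_comm]
  obtain ⟨y, hy⟩ := hunit X (by rw [dvd_iff_isRoot]; simp)
  have ht : ∀ j, AdjoinRoot.mk P ((X - C 1) ^ j) = (AdjoinRoot.root P - 1) ^ j := fun j => by simp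
  rw [AdjoinRoot.mk_X] at hy
  let ev : AdjoinRoot P →ₗ[F] V := LinearMap.applyₗ a ∘ₗ (aeval (u : V →ₗ[F] V)).toLinearMap ∘ₗ
    AdjoinRoot.modByMonicHom hP
  have hu' : ∀ j, aeval (u : V →ₗ[F] V) ((X - C 1 : F[X]) ^ j) = ((u : V →ₗ[F] V) - 1) ^ j :=
    fun j => by simp
  have hev : ∀ p, ev (AdjoinRoot.mk P p) = aeval (u : V →ₗ[F] V) p a := fun p => by
    change aeval (u : V →ₗ[F] V) (p %ₘ P) a = _
    rw [modByMonic_eq_sub_mul_div, map_sub, mul_comm, map_mul, LinearMap.sub_apply, End.mul_apply,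
      hu', h0, map_zero, sub_zero]
  have hev' : ∀ q r, ev (AdjoinRoot.mk P q * r) = aeval (u : V →ₗ[F] V) q (ev r) := fun q r => by
    obtain ⟨p, rfl⟩ := AdjoinRoot.mk_surjective r
    rw [← map_mul, hev, hev, map_mul, End.mul_apply]
  have hs : ∀ s : AdjoinRoot P, s ≠ 0 → ∃ r, s * r = (AdjoinRoot.root P - 1) ^ (2 * k) := by
    intro s hs
    obtain ⟨p, rfl⟩ := AdjoinRoot.mk_surjective s
    obtain ⟨q, h3, h4⟩ := exists_eq_pow_rootMultiplicity_mul_and_not_dvd p (by
      rintro rfl; exact hs (map_zero _)) 1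
    obtain ⟨w, hw⟩ := hunit q h4
    have h5 : p.rootMultiplicity 1 ≤ 2 * k := by
      by_contra h5
      exact hs (AdjoinRoot.mk_eq_zero.2 (h3 ▸ (pow_dvd_pow _ (not_le.1 h5)).mul_right _))
    refine ⟨w * (AdjoinRoot.root P - 1) ^ (2 * k - p.rootMultiplicity 1), ?_⟩
    conv_lhs => rw [congrArg (AdjoinRoot.mk P) h3, map_mul, ht, mul_assoc, ← mul_assoc _ w, hw,
      one_mul, ← pow_add, Nat.add_sub_cancel' h5]
  refine wall_core (σ := AdjoinRoot.liftAlgHom P (Algebra.ofId F _) y ?_) (ev := ev) h hu hy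
    ((AdjoinRoot.powerBasis' hP).basis.reindex (finCongr (show P.natDegree = 2 * k + 1 by
      rw [(monic_X_sub_C (1 : F)).natDegree_pow, natDegree_X_sub_C, mul_one]))) (fun i => ?_)
    (AdjoinRoot.liftAlgHom_root ..)
    (fun r => by simpa using hev' X r) ((injective_iff_map_eq_zero ev).2 fun s e => ?_) hs
    (by rwa [← ht, hev, hu'])
  · have h3 := ht (2 * k + 1)
    rw [AdjoinRoot.mk_self] at h3
    change aeval y P = 0
    rw [map_pow, map_sub, aeval_X, C_1, map_one,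
      show y - 1 = -y * (AdjoinRoot.root P - 1) by linear_combination hy, mul_pow, ← h3, mul_zero]
  · rw [Basis.reindex_apply, PowerBasis.basis_eq_pow]; rfl
  · by_contra h3
    obtain ⟨r, hr⟩ := hs s h3
    obtain ⟨q, rfl⟩ := AdjoinRoot.mk_surjective r
    exact h2 (by rw [← hu', ← hev, ht, ← hr, mul_comm, hev', e, map_zero])

theorem finrank_comap_eq (f : V →ₗ[F] V) {S : Submodule F V} (h : S ≤ LinearMap.range f) :
    finrank F (S.comap f) = finrank F (LinearMap.ker f) + finrank F S := by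
  rw [← (f.domRestrict (S.comap f)).finrank_range_add_finrank_ker, LinearMap.range_domRestrict,
    Submodule.map_comap_eq_of_le h, LinearMap.ker_domRestrict, add_comm,
    (Submodule.comapSubtypeEquivOfLe (LinearMap.ker_le_comap f)).finrank_eq]

/-- Wall form construction of an odd isometry centralizing `u` -/
theorem exists_odd_cent (h : OD Q B 0) {u : V ≃ₗ[F] V} (hu : u ∈ OG F Q 0 0) {a : V} {k : ℕ}
    (h0 : (((u : V →ₗ[F] V) - 1) ^ (2 * k + 1)) a = 0)
    (h1 : Q ((((u : V →ₗ[F] V) - 1) ^ k) a) ≠ 0) :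
    ∃ z ∈ OG F Q (0 : V) 0, z * u = u * z ∧ Odd (Dk z) := by
  induction k generalizing a with
  | zero =>
    by_cases h2 : a = 0
    · exact (h1 (by rw [h2, map_zero, h.toQS.zero])).elim
    · exact odd_cent_aux h hu h0 h1 h2
  | succ k ih =>
    by_cases h2 : (((u : V →ₗ[F] V) - 1) ^ (2 * (k + 1))) a = 0
    · exact ih (a := ((u : V →ₗ[F] V) - 1) a) (by rwa [← End.mul_apply, ← pow_succ])
        (by rwa [← End.mul_apply, ← pow_succ])
    · exact odd_cent_aux h hu h0 h1 h2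

/-- otherwise there is a canonical Lagrangian and the dimension is divisible by four -/
theorem exists_can_lagr (h : OD Q B 0) {u : V ≃ₗ[F] V} (hu : u ∈ OG F Q 0 0)
    (hn : IsNilpotent ((u : V →ₗ[F] V) - 1))
    (h0 : ∀ (a : V) (k : ℕ), (((u : V →ₗ[F] V) - 1) ^ (2 * k + 1)) a = 0 →
      Q ((((u : V →ₗ[F] V) - 1) ^ k) a) = 0) :
    4 ∣ finrank F V ∧ ∃ Y : Submodule F V, Lagr Q B Y ∧
      ∀ x : V ≃ₗ[F] V, x * u * x⁻¹ = u⁻¹ → ∀ y ∈ Y, x y ∈ Y := by
  set N := (u : V →ₗ[F] V) - 1 with hN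
  have hr : B.IsRefl := fun x y e => (h.symm y x).trans e
  have hoo := LinearMap.BilinForm.orthogonal_orthogonal h.nondeg hr
  have hB : ∀ v w, B (u v) (u w) = B v w := h.toQS.pres (f := u) hu.1
  have hc : ∀ j i v, (N ^ j) ((u ^ i) v) = (u ^ i) ((N ^ j) v) := fun j i v => by
    have : Commute (N ^ j) ((u : V →ₗ[F] V) ^ i) :=
      (((Commute.refl _).sub_left (Commute.one_left _)).pow_pow j i)
    have e : (u : V →ₗ[F] V) ^ i = (u ^ i : V ≃ₗ[F] V) :=
      (map_pow LinearEquiv.automorphismGroup.toLinearMapMonoidHom u i).symm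
    rw [e] at this
    exact LinearMap.congr_fun this.eq v
  have hc1 : ∀ i v, N ((u ^ i) v) = (u ^ i) (N v) := fun i v => by simpa using hc 1 i v
  have hadj : ∀ j v w, B ((N ^ j) v) w = B ((u ^ j) v) ((N ^ j) w) := fun j => by
    induction j with
    | zero => simp
    | succ j ih =>
      intro v w
      rw [pow_succ' u, LinearEquiv.mul_apply, show (N ^ (j + 1)) w = N ((N ^ j) w) by
        rw [pow_succ', End.mul_apply], pow_succ, End.mul_apply, ih, ← hc1]
      simp only [hN, LinearMap.sub_apply, End.one_apply, LinearEquiv.coe_coe, map_sub, hB,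
        CharTwo.sub_eq_add, add_comm]
  have hk : ∀ j i v, (N ^ j) ((u ^ i) v) = 0 ↔ (N ^ j) v = 0 := fun j i v => by
    rw [hc, map_eq_zero_iff _ (u ^ i).injective]
  have ho1 : ∀ j w, (∀ v, B ((N ^ j) v) w = 0) → (N ^ j) w = 0 := fun j w hw =>
    h.nondeg.2 _ fun v => by
      obtain ⟨v, rfl⟩ := (u ^ j).surjective v
      rw [← hadj, hw]
  have ho2 : ∀ j w, (∀ v, (N ^ j) v = 0 → B v w = 0) → w ∈ LinearMap.range (N ^ j) :=
    fun j w hw => hoo (LinearMap.range (N ^ j)) ▸ fun v hv =>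
      hw v (ho1 j v fun x => hv _ (LinearMap.mem_range_self _ x))
  have hpow : ∀ {i j} v, i ≤ j → (N ^ i) v = 0 → (N ^ j) v = 0 := fun {i j} v e hv => by
    rw [← Nat.sub_add_cancel e, pow_add, End.mul_apply, hv, map_zero]
  let S := fun k => LinearMap.range (N ^ k) ⊓ LinearMap.ker (N ^ (k + 1))
  have hQ : ∀ k, ∀ y ∈ S k, Q y = 0 := by
    rintro k _ ⟨⟨a, rfl⟩, ha⟩
    exact h0 a k (by rwa [two_mul, add_right_comm, pow_add, End.mul_apply])
  have hS : ∀ k l, k ≤ l → ∀ y ∈ S k, ∀ z ∈ S l, B z y = 0 := fun k l e y hy z hz => by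
    rcases e.eq_or_lt with rfl | e
    · have := h.add z y
      rw [hQ k _ (add_mem hz hy), hQ k _ hz, hQ k _ hy, zero_add, zero_add] at this
      exact this.symm
    · obtain ⟨a, rfl⟩ := hz.1
      rw [hadj, hpow y e hy.2, map_zero]
  obtain ⟨m, hm⟩ := hn
  refine ⟨?_, ⨆ k, S k, ⟨fun y hy => ?_, fun x hx => ?_⟩, fun x hx y hy => ?_⟩
  · let D := fun j => finrank F ↥(LinearMap.range (N ^ j) ⊓ LinearMap.ker N)
    have hD : ∀ j i, j ≤ i → finrank F ((LinearMap.range (N ^ i) ⊓ LinearMap.ker N).comap (N ^ j)) =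
        finrank F (LinearMap.ker (N ^ j)) + D i := fun j i e =>
      finrank_comap_eq _ (inf_le_left.trans (by
        rintro _ ⟨v, rfl⟩
        exact ⟨(N ^ (i - j)) v, by rw [← End.mul_apply, ← pow_add, Nat.add_sub_cancel' e]⟩))
    have h1 : ∀ j, finrank F (LinearMap.ker (N ^ (j + 1))) =
        finrank F (LinearMap.ker (N ^ j)) + D j := fun j => by
      rw [← hD j j le_rfl]
      refine congrArg (fun S : Submodule F V => finrank F S) (Submodule.ext fun v => ?_)
      simp [pow_succ']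
    have h2 : ∀ k, D (2 * k) = D (2 * k + 1) := fun k => by
      refine congrArg (fun S : Submodule F V => finrank F S) (le_antisymm ?_ (inf_le_inf_right _ ?_))
      · rintro _ ⟨⟨a, rfl⟩, ha⟩
        refine ⟨ho2 _ _ fun v hv => ?_, ha⟩
        rw [h.symm, two_mul, pow_add, End.mul_apply, hadj, ← hc]
        refine hS k k le_rfl _ ⟨⟨v, rfl⟩, ?_⟩ _ ⟨⟨_, rfl⟩, ?_⟩
        · rwa [SetLike.mem_coe, LinearMap.mem_ker, ← End.mul_apply, ← pow_add, add_right_comm,
            ← two_mul]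
        · rwa [SetLike.mem_coe, LinearMap.mem_ker, ← End.mul_apply, ← pow_add, hk, add_right_comm,
            ← two_mul, pow_succ']
      · rintro _ ⟨a, rfl⟩
        exact ⟨N a, by rw [pow_succ, End.mul_apply]⟩
    have h3 : ∀ k, ∃ i, D (2 * k + 1) = D (2 * k + 2) + 2 * i := fun k => by
      let K := LinearMap.ker (N ^ (2 * k + 2))
      obtain ⟨i, hi⟩ := alt_even (LinearMap.BilinForm.restrict (B ∘ₗ N ^ (2 * k + 1)) K) fun a => by
        have h4 : (N ^ (2 * k + 2)) a = 0 := a.2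
        have h5 := hQ (k + 1) ((N ^ (k + 1)) a) ⟨⟨_, rfl⟩, by
          rw [SetLike.mem_coe, LinearMap.mem_ker, ← End.mul_apply, ← pow_add]
          exact hpow _ (by omega) h4⟩
        have hBk := h.toQS.pres (f := (u ^ k : V ≃ₗ[F] V)) (pow_mem hu k).1
        have h6 : ∀ i, (u ^ i) ((N ^ (2 * k + 1)) a) = (N ^ (2 * k + 1)) a := fun i => by
          induction i with
          | zero => rfl
          | succ i ih =>
            rw [pow_succ', LinearEquiv.mul_apply, ih]
            rw [pow_succ'] at h4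
            exact sub_eq_zero.1 h4
        have h7 := h.add ((N ^ (k + 1)) a) ((N ^ k) a)
        rw [h5, zero_add, pow_succ', End.mul_apply, show ∀ c, N c + c = u c from fun c =>
          sub_add_cancel _ c, hu.1, left_eq_add, ← End.mul_apply, ← pow_succ', ← hBk] at h7
        change B ((N ^ (2 * k + 1)) a) a = 0
        rw [← hBk, ← h7]
        simp only [LinearEquiv.coe_coe]
        rw [h6, two_mul, add_assoc, pow_add, End.mul_apply, hadj, hc]
      have h4 : finrank F (LinearMap.ker (LinearMap.BilinForm.restrict (B ∘ₗ N ^ (2 * k + 1)) K)) =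
          finrank F (LinearMap.ker (N ^ (2 * k + 1))) + D (2 * k + 2) := by
        rw [← hD _ _ (Nat.le_succ _), ← Submodule.finrank_map_subtype_eq]
        refine congrArg (fun S : Submodule F V => finrank F S) (Submodule.ext fun v => ?_)
        refine ⟨?_, fun hv => ⟨⟨v, ?_⟩, LinearMap.ext fun w => ?_, rfl⟩⟩
        · rintro ⟨v, hv, rfl⟩
          exact ⟨ho2 _ _ fun w hw => (h.symm _ _).trans (LinearMap.congr_fun hv ⟨w, hw⟩), by
            have h4 : (N ^ (2 * k + 2)) v = 0 := v.2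
            rwa [pow_succ'] at h4⟩
        · rw [LinearMap.mem_ker, pow_succ']; exact hv.2
        · obtain ⟨x, hx⟩ := hv.1
          change B ((N ^ (2 * k + 1)) v) w = 0
          rw [← hx, hadj, show (N ^ (2 * k + 2)) w = 0 from w.2, map_zero]
      have : finrank F K = _ := h1 (2 * k + 1)
      exact ⟨i, by omega⟩
    have h4 : ∀ i k, m ≤ k + i → Even (D (2 * k + 1)) := fun i => by
      induction i with
      | zero =>
        intro k e
        have : N ^ (2 * k + 1) = 0 := pow_eq_zero_of_le (by omega) hm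
        simp only [D]
        rw [this, LinearMap.range_zero, bot_inf_eq, finrank_bot]
        exact Even.zero
      | succ i ih =>
        intro k e
        obtain ⟨j, hj⟩ := h3 k
        rw [hj, show 2 * k + 2 = 2 * (k + 1) by ring, h2]
        exact (ih (k + 1) (by omega)).add (even_two_mul j)
    have h5 : ∀ k, 4 ∣ finrank F (LinearMap.ker (N ^ (2 * k))) := fun k => by
      induction k with
      | zero => rw [mul_zero, pow_zero, End.one_eq_id, LinearMap.ker_id]; simp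
      | succ k ih =>
        obtain ⟨j, hj⟩ := h4 m k (by omega)
        rw [mul_add, mul_one, h1, h1, h2, hj]
        omega
    have := h5 m
    rwa [pow_eq_zero_of_le (Nat.le_mul_of_pos_left m two_pos) hm, LinearMap.ker_zero,
      finrank_top] at this
  · have h1 : ∀ k, ∀ z ∈ S k, ∀ y ∈ ⨆ k, S k, B y z = 0 := fun k z hz y hy =>
      Submodule.iSup_induction S (motive := fun y => B y z = 0) hy (fun l y hy => by
        rcases le_total k l with e | e
        · exact hS k l e z hz y hy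
        · exact hr _ _ (hS l k e y hy z hz)) (by simp) fun a b ha hb => by simp [ha, hb]
    refine Submodule.iSup_induction' S (motive := fun y _ => Q y = 0) hQ h.toQS.zero
      (fun a b ha hb h2 h3 => ?_) hy
    rw [h.add, h2, h3, zero_add, zero_add]
    exact Submodule.iSup_induction S (motive := fun b => B a b = 0) hb
      (fun k z hz => h1 k z hz a ha) (by simp) fun a b ha hb => by simp [ha, hb]
  · have h1 : ∀ k, x ∈ LinearMap.ker (N ^ k) ⊔ LinearMap.range (N ^ (k + 1)) := fun k =>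
      hoo (LinearMap.ker (N ^ k) ⊔ LinearMap.range (N ^ (k + 1))) ▸ fun v hv => hr _ _
        (hx v (Submodule.mem_iSup_of_mem k ⟨ho2 _ _ fun w hw => hv w (Submodule.mem_sup_left hw),
          ho1 _ _ fun w => hv _ (Submodule.mem_sup_right ⟨w, rfl⟩)⟩))
    have h2 : ∀ k, ∃ y ∈ ⨆ k, S k, (N ^ k) y = 0 ∧ ∃ b, x = y + (N ^ (k + 1)) b := fun k => by
      induction k with
      | zero =>
        obtain ⟨c, hc, _, ⟨d, rfl⟩, e⟩ := Submodule.mem_sup.1 (h1 0)
        exact ⟨c, by rw [show c = 0 from hc]; exact zero_mem _, hc, d, e.symm⟩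
      | succ k ih =>
        obtain ⟨y, h3, h4, b, h5⟩ := ih
        obtain ⟨c, hc, _, ⟨d, rfl⟩, e⟩ := Submodule.mem_sup.1 (h1 (k + 1))
        refine ⟨c, ?_, hc, d, e.symm⟩
        rw [← add_sub_cancel y c]
        refine add_mem h3 (Submodule.mem_iSup_of_mem (k + 1) ⟨⟨b - N d, ?_⟩, ?_⟩)
        · rw [map_sub, ← End.mul_apply, ← pow_succ]
          rw [sub_eq_sub_iff_add_eq_add, add_comm _ y, ← h5, e]
        · rw [SetLike.mem_coe, LinearMap.mem_ker, map_sub, hpow c (Nat.le_succ _) hc,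
            hpow y (by omega) h4, sub_zero]
    obtain ⟨y, h3, -, b, h4⟩ := h2 m
    rwa [h4, pow_succ', hm, mul_zero, LinearMap.zero_apply, add_zero]
  · have h1 : ∀ j v, (N ^ j) (x v) = (u ^ j) (x ((N ^ j) v)) := fun j => by
      induction j with
      | zero => simp
      | succ j ih =>
        intro v
        have h2 : ∀ v, u (x (u v)) = x v := fun v => by
          rw [← LinearEquiv.mul_apply x u, mul_inv_eq_iff_eq_mul.1 hx, ← LinearEquiv.mul_apply,
            mul_inv_cancel_left]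
        rw [pow_succ u, pow_succ', End.mul_apply, ih, hc1, End.mul_apply, LinearEquiv.mul_apply]
        simp only [hN, LinearMap.sub_apply, End.one_apply, LinearEquiv.coe_coe, map_sub, h2]
        rw [← neg_sub, neg_eq_of_add_eq_zero_left (add_self_two F _)]
    refine Submodule.iSup_induction S (motive := fun y => x y ∈ ⨆ k, S k) hy (fun k y hy => ?_)
      (by simp) fun a b ha hb => by rw [map_add]; exact add_mem ha hb
    obtain ⟨⟨a, rfl⟩, ha⟩ := hy
    refine Submodule.mem_iSup_of_mem k ⟨⟨(u ^ k).symm (x a), (u ^ k).injective ?_⟩, ?_⟩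
    · rw [← hc, LinearEquiv.apply_symm_apply, h1]
    · rw [SetLike.mem_coe, LinearMap.mem_ker, h1, show (N ^ (k + 1)) ((N ^ k) a) = 0 from ha,
        map_zero, map_zero]

end Cfsg.Agent.FS
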