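import Cfsg.Agent.Lib.FS.F
import Cfsg.Prelude.Def_Classical

/-!
# Passage to the matrix groups of the statements (notes/FS.md, part Fin)
-/

set_option autoImplicit false

open Module Cfsg
open scoped Matrix

namespace Cfsg.Agent.FS

variable {F : Type*} [Field F] [Finite F] [CharP F 2]

omit [Finite F] [CharP F 2] in
theorem fin_good_of_goodOn {G : Type*} [Group G] {S : Subgroup G}
    (h : GoodOn (MonoidHom.id G) S) : Good (MonoidHom.id S) := by
  obtain ⟨β, hβ, hg⟩ := h
  have : β = MonoidHom.id S := MonoidHom.ext fun s => Subtype.ext (hβ s)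
  rwa [this] at hg

/-- matrices as linear automorphisms -/
noncomputable def finE (ι : Type) [Fintype ι] [DecidableEq ι] (F : Type*) [Field F] :
    Matrix.GeneralLinearGroup ι F ≃* ((ι → F) ≃ₗ[F] (ι → F)) :=
  Matrix.GeneralLinearGroup.toLin.trans (LinearMap.GeneralLinearGroup.generalLinearEquiv F _)

omit [Finite F] [CharP F 2] in
theorem finE_apply {ι : Type} [Fintype ι] [DecidableEq ι] (g : Matrix.GeneralLinearGroup ι F)
    (v : ι → F) : finE ι F g v = (g : Matrix ι ι F) *ᵥ v := rfl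

omit [Finite F] [CharP F 2] in
theorem fin_map_iso {ι : Type} [Fintype ι] [DecidableEq ι] (Q : (ι → F) → F) :
    (isometryGroup F Q).map (finE ι F).toMonoidHom = OG F Q 0 0 := by
  ext g
  constructor
  · rintro ⟨a, ha, rfl⟩
    exact ⟨fun x => ha x x, map_zero _, map_zero _⟩
  · intro hg
    obtain ⟨a, rfl⟩ := (finE ι F).surjective g
    exact ⟨a, fun x _ => hg.1 x, rfl⟩

theorem good_isometryGroup {ι : Type} [Fintype ι] [DecidableEq ι] {Q : (ι → F) → F}
    {B : LinearMap.BilinForm F (ι → F)} (h : OD Q B 0) :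
    Good (MonoidHom.id (isometryGroup F Q)) := by
  refine fin_good_of_goodOn (GoodOn.of_map (β := MonoidHom.id _) (finE ι F).toMonoidHom
    (finE ι F).injective (fun _ _ => rfl) ?_)
  rw [fin_map_iso]
  exact ofam h h.toQS.zero (by simp)

theorem good_Omega {ι : Type} [Fintype ι] [DecidableEq ι] {Q : (ι → F) → F}
    {B : LinearMap.BilinForm F (ι → F)} (h : OD Q B 0) (h4 : 4 ∣ Fintype.card ι)
    (h5 : 5 ≤ Fintype.card ι) : Good (MonoidHom.id (Omega F Q)) := by
  refine fin_good_of_goodOn (GoodOn.of_map (β := MonoidHom.id _)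
    ((finE ι F).toMonoidHom.comp (isometryGroup F Q).subtype)
    ((finE ι F).injective.comp Subtype.val_injective) (fun _ _ => rfl) ?_)
  have e : (⊤ : Subgroup (isometryGroup F Q)).map
      ((finE ι F).toMonoidHom.comp (isometryGroup F Q).subtype) = OG F Q 0 0 := by
    rw [← Subgroup.map_map, ← MonoidHom.range_eq_map, Subgroup.range_subtype, fin_map_iso]
  rw [Omega, commutator_def, Subgroup.map_commutator, e]
  exact goodOn_omega h (by rwa [Module.finrank_fintype_fun_eq_card])
    (by rwa [Module.finrank_fintype_fun_eq_card])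

/-- the polar form of the plus type form -/
def finB (n : ℕ) (F : Type*) [Field F] : LinearMap.BilinForm F (Fin n ⊕ Fin n → F) :=
  LinearMap.mk₂ F (fun x y => ∑ i, (x (.inl i) * y (.inr i) + x (.inr i) * y (.inl i)))
    (fun x x' y => by
      rw [← Finset.sum_add_distrib]
      exact Finset.sum_congr rfl fun i _ => by simp only [Pi.add_apply]; ring)
    (fun c x y => by
      rw [smul_eq_mul, Finset.mul_sum]
      exact Finset.sum_congr rfl fun i _ => by simp only [Pi.smul_apply, smul_eq_mul]; ring)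
    (fun x y y' => by
      rw [← Finset.sum_add_distrib]
      exact Finset.sum_congr rfl fun i _ => by simp only [Pi.add_apply]; ring)
    (fun c x y => by
      rw [smul_eq_mul, Finset.mul_sum]
      exact Finset.sum_congr rfl fun i _ => by simp only [Pi.smul_apply, smul_eq_mul]; ring)

omit [Finite F] [CharP F 2] in
theorem finB_apply (n : ℕ) (x y : Fin n ⊕ Fin n → F) :
    finB n F x y = ∑ i, (x (.inl i) * y (.inr i) + x (.inr i) * y (.inl i)) := rfl

omit [Finite F] [CharP F 2] in
theorem finB_od (n : ℕ) : OD (quadFormPlus n F) (finB n F) 0 where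
  add x y := by
    rw [finB_apply, quadFormPlus, quadFormPlus, quadFormPlus, ← Finset.sum_add_distrib,
      ← Finset.sum_add_distrib]
    exact Finset.sum_congr rfl fun i _ => by simp only [Pi.add_apply]; ring
  smul c x := by
    rw [quadFormPlus, quadFormPlus, Finset.mul_sum]
    exact Finset.sum_congr rfl fun i _ => by simp only [Pi.smul_apply, smul_eq_mul]; ring
  symm x y := by
    rw [finB_apply, finB_apply]
    exact Finset.sum_congr rfl fun i _ => by ring
  hw := Or.inl rfl
  rad x hx := by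
    refine ⟨0, funext fun j => ?_⟩
    rcases j with j | j
    · have := hx (Pi.single (.inr j) 1)
      simpa [finB_apply, Pi.single_apply] using this
    · have := hx (Pi.single (.inl j) 1)
      simpa [finB_apply, Pi.single_apply] using this

theorem od_plus (n : ℕ) : ∃ B, OD (quadFormPlus n F) B 0 := ⟨_, finB_od n⟩

theorem od_minus (n : ℕ) {a b : F}
    (h : ∀ z₁ z₂ : F, z₁ ^ 2 + a * z₁ * z₂ + b * z₂ ^ 2 = 0 → z₁ = 0 ∧ z₂ = 0) :
    ∃ B, OD (quadFormMinus n F a b) B 0 := by
  have h2 : (2 : F) = 0 := CharTwo.two_eq_zero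
  have ha : a ≠ 0 := by
    rintro rfl
    obtain ⟨c, hc⟩ := exists_sq F b
    exact one_ne_zero (h c 1 (by rw [hc]; linear_combination b * h2)).2
  have hq : ∀ v : (Fin n ⊕ Fin n) ⊕ Fin 2 → F, quadFormMinus n F a b v =
      quadFormPlus n F (fun i => v (.inl i)) +
        (v (.inr 0) ^ 2 + a * v (.inr 0) * v (.inr 1) + b * v (.inr 1) ^ 2) := fun _ => rfl
  have H := finB_od (F := F) n
  let p : ((Fin n ⊕ Fin n) ⊕ Fin 2 → F) →ₗ[F] (Fin n ⊕ Fin n → F) := LinearMap.funLeft F F Sum.inl
  have hp : ∀ v, (fun i => v (.inl i)) = p v := fun _ => rfl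
  let B : LinearMap.BilinForm F ((Fin n ⊕ Fin n) ⊕ Fin 2 → F) :=
    LinearMap.mk₂ F (fun x y => finB n F (p x) (p y) +
      a * (x (.inr 0) * y (.inr 1) + x (.inr 1) * y (.inr 0)))
    (fun x x' y => by simp only [map_add, LinearMap.add_apply, Pi.add_apply]; ring)
    (fun c x y => by simp only [map_smul, LinearMap.smul_apply, Pi.smul_apply, smul_eq_mul]; ring)
    (fun x y y' => by simp only [map_add, Pi.add_apply]; ring)
    (fun c x y => by simp only [map_smul, Pi.smul_apply, smul_eq_mul]; ring)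
  have hB : ∀ x y, B x y = finB n F (p x) (p y) +
      a * (x (.inr 0) * y (.inr 1) + x (.inr 1) * y (.inr 0)) := fun _ _ => rfl
  refine ⟨B, ⟨fun x y => ?_, fun c x => ?_, fun x y => ?_⟩, Or.inl rfl, fun x hx => ⟨0, ?_⟩⟩
  · rw [hq, hq, hq, hp, hp, hp, map_add, H.add, hB]
    simp only [Pi.add_apply]
    linear_combination (x (.inr 0) * y (.inr 0) + b * x (.inr 1) * y (.inr 1)) * h2
  · rw [hq, hq, hp, hp, map_smul, H.smul]
    simp only [Pi.smul_apply, smul_eq_mul]
    ring
  · rw [hB, hB, H.symm]; ring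
  · have e1 : p x = 0 := by
      obtain ⟨s, hs⟩ := H.rad (p x) fun y => by
        have := hx (Sum.elim y 0)
        rw [hB, show p (Sum.elim y 0) = y from rfl] at this
        simpa using this
      rw [hs, smul_zero]
    funext j
    rcases j with j | j
    · exact (congrFun e1 j).trans (by simp)
    · have e2 := hx (Pi.single (.inr 0) 1)
      have e3 := hx (Pi.single (.inr 1) 1)
      rw [hB, e1] at e2 e3
      fin_cases j
      · simpa [ha] using e3
      · simpa [ha] using e2

omit [Finite F] in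
theorem fin_mem_sp {n : ℕ} {A : Matrix (Fin n ⊕ Fin n) (Fin n ⊕ Fin n) F} :
    A ∈ Matrix.symplecticGroup (Fin n) F ↔ ∀ x y, finB n F (A *ᵥ x) (A *ᵥ y) = finB n F x y := by
  have e : ∀ x y, finB n F x y = Matrix.toBilin' (Matrix.J (Fin n) F) x y := by
    intro x y
    rw [finB_apply, Matrix.toBilin'_apply', Matrix.J, Matrix.fromBlocks_mulVec]
    simp [dotProduct, Fintype.sum_sum_type, Finset.sum_add_distrib, CharTwo.neg_eq,
      Matrix.neg_mulVec]
  rw [SymplecticGroup.mem_iff', ← Matrix.toBilin'.injective.eq_iff, LinearMap.ext_iff₂]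
  refine forall₂_congr fun x y => ?_
  rw [e, e, Matrix.toBilin'_apply', Matrix.toBilin'_apply' (Matrix.J _ _) (A *ᵥ x),
    ← Matrix.mulVec_mulVec, ← Matrix.mulVec_mulVec, Matrix.dotProduct_mulVec,
    Matrix.vecMul_transpose]

theorem good_symplectic (n : ℕ) : Good (MonoidHom.id (Matrix.symplecticGroup (Fin n) F)) := by
  have h2 : (2 : F) = 0 := CharTwo.two_eq_zero
  have H := finB_od (F := F) n
  let Q : (Fin n ⊕ Fin n → F) × F → F := fun v => quadFormPlus n F v.1 + v.2 ^ 2
  let B : LinearMap.BilinForm F ((Fin n ⊕ Fin n → F) × F) :=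
    (finB n F).comp (LinearMap.fst F _ _) (LinearMap.fst F _ _)
  have hB : ∀ x y, B x y = finB n F x.1 y.1 := fun _ _ => rfl
  have hod : OD Q B (0, 1) := by
    refine ⟨⟨fun x y => ?_, fun c x => ?_, fun x y => H.symm _ _⟩, Or.inr ?_, fun x hx => ⟨x.2, ?_⟩⟩
    · simp only [Q, hB, Prod.fst_add, Prod.snd_add, H.add]
      linear_combination x.2 * y.2 * h2
    · simp only [Q, Prod.smul_fst, Prod.smul_snd, H.smul, smul_eq_mul]
      ring
    · simp [Q, H.toQS.zero]
    · obtain ⟨s, hs⟩ := H.rad x.1 fun y => hx (y, 0)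
      ext1
      · rw [hs]; simp
      · simp
  have hg := fin_good_of_goodOn (ofam hod hod.toQS.zero (by simp))
  let P : (((Fin n ⊕ Fin n → F) × F) ≃ₗ[F] ((Fin n ⊕ Fin n → F) × F)) →
      Matrix (Fin n ⊕ Fin n) (Fin n ⊕ Fin n) F := fun g =>
    LinearMap.toMatrix' (LinearMap.fst F _ _ ∘ₗ g.toLinearMap ∘ₗ LinearMap.inl F _ _)
  have hP : ∀ g x, P g *ᵥ x = (g (x, 0)).1 := fun g x => LinearMap.toMatrix'_mulVec _ _
  have hP' : ∀ g ∈ OG F Q (0, 1) 0, ∀ v, (g v).1 = P g *ᵥ v.1 := by
    intro g hg v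
    have : v = (v.1, 0) + v.2 • ((0, 1) : (Fin n ⊕ Fin n → F) × F) := by simp
    rw [hP]
    conv_lhs => rw [this, map_add, map_smul, hg.2.1]
    simp
  have hext : ∀ A A' : Matrix (Fin n ⊕ Fin n) (Fin n ⊕ Fin n) F, (∀ x, A *ᵥ x = A' *ᵥ x) → A = A' :=
    fun A A' h => Matrix.toLin'.injective (LinearMap.ext h)
  let f : OG F Q (0, 1) 0 →* Matrix.symplecticGroup (Fin n) F :=
    { toFun := fun g => ⟨P g, fin_mem_sp.2 fun x y => by
        rw [hP, hP]
        exact hod.toQS.pres (f := g.1.toLinearMap) g.2.1 (x, 0) (y, 0)⟩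
      map_one' := Subtype.ext (hext _ _ fun x => by rw [hP]; simp)
      map_mul' := fun g g' => Subtype.ext (hext _ _ fun x => by
        change P (g * g') *ᵥ x = (P g * P g') *ᵥ x
        rw [← Matrix.mulVec_mulVec, hP, hP g', ← hP' g g.2]
        rfl) }
  refine hg.of_surj f (fun A => ?_) (fun _ => rfl)
  have hA := fin_mem_sp.1 A.2
  choose l hl using fun x => exists_sq F (quadFormPlus n F (A.1 *ᵥ x) + quadFormPlus n F x)
  have sq : ∀ {s t : F}, s ^ 2 = t ^ 2 → s = t := fun {s t} h => by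
    have : (s - t) ^ 2 = 0 := by linear_combination h + (t ^ 2 - s * t) * h2
    exact sub_eq_zero.1 (pow_eq_zero_iff two_ne_zero |>.1 this)
  let L : (Fin n ⊕ Fin n → F) →ₗ[F] F :=
    { toFun := l
      map_add' := fun x y => sq (by
        rw [hl, add_sq, hl, hl, Matrix.mulVec_add, H.add, H.add, hA]
        linear_combination (finB n F x y - l x * l y) * h2)
      map_smul' := fun c x => sq (by
        rw [hl, smul_eq_mul, mul_pow, hl, Matrix.mulVec_smul, H.smul, H.smul]
        simp [mul_add]) }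
  let g0 : ((Fin n ⊕ Fin n → F) × F) →ₗ[F] ((Fin n ⊕ Fin n → F) × F) :=
    LinearMap.prod (Matrix.toLin' A.1 ∘ₗ LinearMap.fst F _ _)
      (LinearMap.snd F _ _ + L ∘ₗ LinearMap.fst F _ _)
  have hg0 : ∀ v, g0 v = (A.1 *ᵥ v.1, v.2 + L v.1) := fun _ => rfl
  have hinj : Function.Injective g0 := by
    rw [injective_iff_map_eq_zero]
    intro v hv
    rw [hg0, Prod.mk_eq_zero] at hv
    obtain ⟨s, hs⟩ := H.rad v.1 fun y => by rw [← hA, hv.1]; simp
    rw [smul_zero] at hs
    have := hv.2
    rw [hs, map_zero, add_zero] at this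
    exact Prod.ext hs this
  refine ⟨⟨LinearEquiv.ofInjectiveEndo g0 hinj, fun v => ?_, ?_, map_zero _⟩,
    Subtype.ext (hext _ _ fun x => ?_)⟩
  · change Q (g0 v) = Q v
    have : L v.1 ^ 2 = _ := hl v.1
    simp only [hg0, Q]
    linear_combination this + (quadFormPlus n F (A.1 *ᵥ v.1) + v.2 * L v.1) * h2
  · change g0 (0, 1) = (0, 1)
    simp [hg0]
  · exact hP _ x

end Cfsg.Agent.FS
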